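import Groth.Agent.H8.QCohAffine
import Mathlib.RingTheory.Localization.Finiteness

/-!
# Coherent modules on affine opens

For a quasi-coherent module of finite type `M` on a scheme `X` and an affine open `U`, the module of
sections `Γ(M, U)` is finite over `Γ(X, U)` (`finite_sections_of_isAffineOpen`).
-/

set_option autoImplicit false
set_option linter.style.haveILetI false
universe u
open CategoryTheory CategoryTheory.Limits AlgebraicGeometry TopologicalSpace Opposite
open AlgebraicGeometry.Scheme.Modules

namespace Groth.Agent.H8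


set_option backward.isDefEq.respectTransparency false in
/-- A module of finite type on a scheme has, on an affine open cover, finitely many generating
sections. -/
lemma exists_isOpenCover_generatingSections {X : Scheme.{u}} (M : X.Modules)
    [SheafOfModules.IsFiniteType (R := X.ringCatSheaf) M] :
    ∃ (ι : Type u) (U : ι → X.Opens),
      (∀ i, ∃ G : (M.restrict (U i).ι).GeneratingSections, G.IsFiniteType) ∧
      IsOpenCover U ∧ (∀ i, IsAffineOpen (U i)) := by
  obtain ⟨σ, hσ⟩ := SheafOfModules.IsFiniteType.exists_localGeneratorsData M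
  choose κ hsub heq using fun i ↦ Opens.isBasis_iff_cover.mp X.isBasis_affineOpens (σ.X i)
  refine ⟨Σ (i : σ.I), κ i, fun j ↦ j.2, fun i ↦ ?_, ?_, ?_⟩
  · let u := X.homOfLE (U := i.2) (V := σ.X i.1) (by simp [heq, le_sSup])
    have : PreservesColimitsOfSize.{u, u} (restrictFunctor u) := inferInstance
    let F := (overEquiv (σ.X i.1)).functor ⋙ restrictFunctor u
    let iso : SheafOfModules.overFunctor X.ringCatSheaf _ ⋙ F ≅ restrictFunctor
      (Scheme.Opens.ι i.2.1) := (Functor.associator _ _ _).symm ≪≫
        Functor.isoWhiskerRight (Scheme.Modules.overFunctorEquiv _) _ ≪≫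
        (restrictFunctorComp _ _).symm ≪≫ (restrictFunctorCongr (by simp [u]))
    haveI := hσ.isFiniteType i.1
    exact ⟨((σ.generators i.1).map F (Scheme.Modules.restrictUnitIso _).symm).ofEpi
      (iso.app M).hom, inferInstance⟩
  · have cov := σ.coversTop
    rw [Opens.coversTop_iff, IsOpenCover] at cov
    rw [IsOpenCover, iSup_sigma, ← cov]
    refine iSup_congr fun i ↦ ?_
    rw [heq i, sSup_eq_iSup']
  · intro j
    exact hsub _ j.2.2



set_option backward.isDefEq.respectTransparency false in
/-- On `Spec R`, a quasi-coherent module with a finite family of generating sections has a finitely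
generated module of global sections. -/
theorem spec_finite_of_generatingSections {R : CommRingCat.{u}} (N : (Spec R).Modules)
    [N.IsQuasicoherent] (G : N.GeneratingSections) [G.IsFiniteType] :
    Module.Finite R ((modulesSpecToSheaf.obj N).presheaf.obj (.op ⊤)) := by
  let Γ : ModuleCat R := (modulesSpecToSheaf.obj N).presheaf.obj (.op ⊤)
  haveI : IsIso N.fromTildeΓ := Scheme.Modules.isIso_fromTildeΓ_of_isQuasicoherent N
  let ψ : tilde (ModuleCat.of R (G.I →₀ R)) ⟶ tilde Γ :=
    (tildeFinsupp G.I).hom ≫ G.π ≫ inv N.fromTildeΓ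
  haveI : Epi ψ := by
    haveI : Epi G.π := G.epi
    haveI : Epi (G.π ≫ inv N.fromTildeΓ) := epi_comp _ _
    exact epi_comp _ _
  let φ : ModuleCat.of R (G.I →₀ R) ⟶ Γ := (tilde.functor R).preimage ψ
  have hφ : (tilde.functor R).map φ = ψ := (tilde.functor R).map_preimage ψ
  haveI : Epi ((tilde.functor R).map φ) := by rw [hφ]; assumption
  haveI : Epi φ := (tilde.functor R).epi_of_epi_map inferInstance
  have hsurj : Function.Surjective φ.hom := (ModuleCat.epi_iff_surjective φ).mp inferInstance
  haveI : Finite G.I := SheafOfModules.GeneratingSections.IsFiniteType.finite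
  haveI : Module.Finite R (G.I →₀ R) := Module.Finite.finsupp
  exact Module.Finite.of_surjective φ.hom hsurj



set_option backward.isDefEq.respectTransparency false in
/-- Restrict generating sections along an open immersion. -/
noncomputable def genRestrict {X Y : Scheme.{u}} (f : Y ⟶ X) [IsOpenImmersion f] {M : X.Modules}
    (G : M.GeneratingSections) : (M.restrict f).GeneratingSections :=
  have : PreservesColimitsOfSize.{u, u} (Scheme.Modules.restrictFunctor f) := inferInstance
  G.map (Scheme.Modules.restrictFunctor.{u} f) (Scheme.Modules.restrictUnitIso _).symm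

set_option backward.isDefEq.respectTransparency false in
instance {X Y : Scheme.{u}} (f : Y ⟶ X) [IsOpenImmersion f] {M : X.Modules}
    (G : M.GeneratingSections) [G.IsFiniteType] : (genRestrict f G).IsFiniteType where
  finite := inferInstanceAs (Finite G.I)

set_option backward.isDefEq.respectTransparency false in
lemma exists_gen_fromSpec {X : Scheme.{u}} (M : X.Modules) {V : X.Opens} (hV : IsAffineOpen V)
    (G : (M.restrict V.ι).GeneratingSections) [G.IsFiniteType] :
    ∃ G' : (M.restrict hV.fromSpec).GeneratingSections, G'.IsFiniteType := by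
  let G1 := genRestrict hV.isoSpec.inv G
  let e : (M.restrict V.ι).restrict hV.isoSpec.inv ≅ M.restrict hV.fromSpec :=
    ((restrictFunctorComp hV.isoSpec.inv V.ι).app M).symm ≪≫
      (restrictFunctorCongr (hV.isoSpec_inv_ι)).app M
  exact ⟨G1.ofEpi e.hom, inferInstance⟩

set_option backward.isDefEq.respectTransparency false in
/-- Transfer of finiteness from `Spec Γ(X, V)` back to the affine open `V`. -/
lemma finite_of_finite_restrict_fromSpec {X : Scheme.{u}} (M : X.Modules) {V : X.Opens}
    (hV : IsAffineOpen V)
    (h : Module.Finite Γ(X, V)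
      ((modulesSpecToSheaf.obj (M.restrict hV.fromSpec)).presheaf.obj (.op ⊤))) :
    Module.Finite Γ(X, V) Γ(M, V) := by
  have e1 : hV.fromSpec ''ᵁ ⊤ = V := fromSpec_image_top_eq hV
  let ℓ : ((modulesSpecToSheaf.obj (M.restrict hV.fromSpec)).presheaf.obj (.op ⊤)) →ₗ[Γ(X, V)]
      Γ(M, V) :=
    { toFun := fun x' => M.presheaf.map (eqToHom e1.symm).op
        (show Γ(M, hV.fromSpec ''ᵁ ⊤) from x')
      map_add' := fun a b => map_add _ _ _
      map_smul' := fun r x' => by
        have h1 := smul_restrict_eq hV M ⊤ r x'
        dsimp only [RingHom.id_apply]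
        have hr : X.presheaf.map (eqToHom e1.symm).op
            (X.presheaf.map (homOfLE (fromSpec_image_le hV ⊤)).op r) = r := by
          rw [← CommRingCat.comp_apply, ← Functor.map_comp]
          have : (homOfLE (fromSpec_image_le hV ⊤)).op ≫ (eqToHom e1.symm).op = 𝟙 (op V) :=
            Subsingleton.elim _ _
          rw [this, X.presheaf.map_id]
          rfl
        refine (congrArg (M.presheaf.map (eqToHom e1.symm).op) h1).trans ?_
        refine (M.map_smul (eqToHom e1.symm) _ _).trans ?_
        rw [hr] }
  have hsurj : Function.Surjective ℓ := by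
    intro y
    refine ⟨M.presheaf.map (eqToHom e1).op y, ?_⟩
    change M.presheaf.map (eqToHom e1.symm).op (M.presheaf.map (eqToHom e1).op y) = y
    rw [← ConcreteCategory.comp_apply, ← Functor.map_comp]
    have : (eqToHom e1).op ≫ (eqToHom e1.symm).op = 𝟙 (op V) := Subsingleton.elim _ _
    rw [this, M.presheaf.map_id]
    rfl
  exact Module.Finite.of_surjective ℓ hsurj



variable {X : Scheme.{u}} (M : X.Modules)

lemma isScalarTower_sectionBasicOpen {U : X.Opens} (a : Γ(X, U)) :
    letI := moduleSectionBasicOpen M a
    IsScalarTower Γ(X, U) Γ(X, X.basicOpen a) Γ(M, X.basicOpen a) := by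
  letI := moduleSectionBasicOpen M a
  exact IsScalarTower.of_algebraMap_smul fun r m => rfl

variable [M.IsQuasicoherent]

/-- Finiteness passes to basic opens. -/
lemma finite_basicOpen {U : X.Opens} (hU : IsAffineOpen U) (a : Γ(X, U))
    (h : Module.Finite Γ(X, U) Γ(M, U)) :
    Module.Finite Γ(X, X.basicOpen a) Γ(M, X.basicOpen a) := by
  letI := moduleSectionBasicOpen M a
  haveI := isScalarTower_sectionBasicOpen M a
  haveI := hU.isLocalization_basicOpen a
  haveI := isLocalizedModule_resBasicOpenₗ hU M a
  exact Module.Finite.of_isLocalizedModule (Submonoid.powers a) (resBasicOpenₗ M a)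

/-- Finiteness can be checked on a finite cover by basic opens. -/
lemma finite_of_span {U : X.Opens} (hU : IsAffineOpen U) (s : Finset Γ(X, U))
    (hs : Ideal.span (s : Set Γ(X, U)) = ⊤)
    (h : ∀ a : s, Module.Finite Γ(X, X.basicOpen a.1) Γ(M, X.basicOpen a.1)) :
    Module.Finite Γ(X, U) Γ(M, U) := by
  letI := fun a : s => moduleSectionBasicOpen M a.1
  haveI := fun a : s => isScalarTower_sectionBasicOpen M a.1
  haveI := fun a : s => hU.isLocalization_basicOpen a.1
  haveI := fun a : s => isLocalizedModule_resBasicOpenₗ hU M a.1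
  exact Module.Finite.of_localizationSpan_finite' s hs (fun a => resBasicOpenₗ M a.1) h


/-- **Coherent modules have finite modules of sections over affine opens.** -/
theorem finite_sections_of_isAffineOpen {X : Scheme.{u}} (M : X.Modules) [M.IsQuasicoherent]
    [SheafOfModules.IsFiniteType (R := X.ringCatSheaf) M] {U : X.Opens} (hU : IsAffineOpen U) :
    Module.Finite Γ(X, U) Γ(M, U) := by
  obtain ⟨ι, W, hG, hcov, hW⟩ := exists_isOpenCover_generatingSections M
  refine of_affine_open_cover (P := fun V : X.affineOpens => Module.Finite Γ(X, V.1) Γ(M, V.1))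
    (fun i => ⟨W i, hW i⟩) hcov.iSup_eq_top ⟨U, hU⟩ ?_ ?_ ?_
  · intro V a h
    exact finite_basicOpen M V.2 a h
  · intro V s hs h
    exact finite_of_span M V.2 s hs h
  · intro i
    obtain ⟨G, hGf⟩ := hG i
    obtain ⟨G', hG'⟩ := exists_gen_fromSpec M (hW i) G
    haveI : (M.restrict (hW i).fromSpec).IsQuasicoherent := inferInstance
    exact finite_of_finite_restrict_fromSpec M (hW i) (spec_finite_of_generatingSections _ G')

end Groth.Agent.H8
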