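import Groth.Agent.H8.QCohStalk
import Groth.Agent.H8.CohAffine

/-!
# Coherent modules (prelude form `Coh.IsCoh`): finiteness of sections and stalks
-/

set_option autoImplicit false
set_option linter.style.haveILetI false
universe u
open CategoryTheory CategoryTheory.Limits AlgebraicGeometry TopologicalSpace Opposite

namespace Groth.Agent.H8

variable {X : Scheme.{u}} (M : X.Modules)

/-- Sections of a coherent module over an affine open form a finite module. -/
theorem finite_sections_of_isCoh (hM : Coh.IsCoh M) {U : X.Opens} (hU : IsAffineOpen U) :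
    Module.Finite Γ(X, U) Γ(M, U) := by
  haveI : M.IsQuasicoherent := hM.1
  haveI : SheafOfModules.IsFiniteType (R := X.ringCatSheaf) M := hM.2
  exact finite_sections_of_isAffineOpen M hU

/-- Stalks of a coherent module are finite modules over the local rings. -/
theorem finite_stalk_of_isCoh (hM : Coh.IsCoh M) (x : X) :
    Module.Finite (X.presheaf.stalk x) (M.presheaf.stalk x) := by
  haveI : M.IsQuasicoherent := hM.1
  obtain ⟨_, ⟨U, hU, rfl⟩, hxU, -⟩ := X.isBasis_affineOpens.exists_subset_of_mem_open
    (Set.mem_univ x) isOpen_univ
  letI := X.presheaf.algebra_section_stalk ⟨x, hxU⟩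
  haveI := hU.isLocalization_stalk ⟨x, hxU⟩
  letI := moduleSectionStalk M x hxU
  haveI := isScalarTower_sectionStalk M x hxU
  haveI := isLocalizedModule_germₗ M hU x hxU
  haveI := finite_sections_of_isCoh M hM hU
  exact Module.Finite.of_isLocalizedModule (hU.primeIdealOf ⟨x, hxU⟩).asIdeal.primeCompl
    (germₗ M x hxU)

end Groth.Agent.H8
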