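import Mathlib.AlgebraicGeometry.Modules.Tilde
import Mathlib.AlgebraicGeometry.AffineScheme

/-!
# Quasi-coherence is local: a module which is quasi-coherent on each member of an affine open
cover is quasi-coherent
-/

set_option autoImplicit false
set_option linter.style.haveILetI false
universe u
open CategoryTheory CategoryTheory.Limits AlgebraicGeometry TopologicalSpace Opposite

namespace Groth.Agent.H8

open Scheme.Modules

set_option backward.isDefEq.respectTransparency false in
/-- A quasi-coherent module on an affine scheme `Spec R` has a global presentation. -/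
lemma nonempty_presentation_of_spec {R : CommRingCat.{u}} (N : (Spec R).Modules)
    [N.IsQuasicoherent] : Nonempty N.Presentation := by
  let Γ : ModuleCat.{u} R := (modulesSpecToSheaf.obj N).presheaf.obj (op ⊤)
  let P : (tilde Γ).Presentation :=
    presentationTilde.{u} Γ .univ (by simp) _ (Submodule.span_eq _)
  haveI : IsIso N.fromTildeΓ := Scheme.Modules.isIso_fromTildeΓ_of_isQuasicoherent N
  exact ⟨SheafOfModules.Presentation.ofIsIso.{u, u, u} N.fromTildeΓ P⟩

set_option backward.isDefEq.respectTransparency false in
/-- If the restriction of `M` to `Spec Γ(X, U)` is quasi-coherent (`U` affine), `M |_ U` has a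
global presentation. -/
lemma nonempty_presentation_restrict_ι {X : Scheme.{u}} {U : X.Opens} (hU : IsAffineOpen U)
    (M : X.Modules) [(M.restrict hU.fromSpec).IsQuasicoherent] :
    Nonempty (M.restrict U.ι).Presentation := by
  obtain ⟨P⟩ := nonempty_presentation_of_spec (M.restrict hU.fromSpec)
  let iso : restrictFunctor hU.fromSpec ⋙ restrictFunctor hU.isoSpec.hom ≅ restrictFunctor U.ι :=
    (restrictFunctorComp _ _).symm ≪≫ restrictFunctorCongr
      (by rw [← hU.isoSpec_inv_ι, Iso.hom_inv_id_assoc])
  exact ⟨SheafOfModules.Presentation.ofIsIso.{u, u, u} (iso.app M).hom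
    (presentationRestrict hU.isoSpec.hom P)⟩

set_option backward.isDefEq.respectTransparency false in
/-- A module with global presentations on the members of an open cover is quasi-coherent. -/
theorem isQuasicoherent_of_presentation_cover {X : Scheme.{u}} (M : X.Modules) {ι : Type u}
    (U : ι → X.Opens) (hU : IsOpenCover U) (P : ∀ i, (M.restrict (U i).ι).Presentation) :
    M.IsQuasicoherent := by
  have hcov : (Opens.grothendieckTopology X).CoversTop U := (_root_.Opens.coversTop_iff _ U).mpr hU
  let D : SheafOfModules.QuasicoherentData.{u} (R := X.ringCatSheaf) M :=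
    { I := ι
      X := U
      coversTop := hcov
      presentation := fun i => by
        let e := Scheme.Modules.overEquiv (U i)
        let iso : e.functor.obj (SheafOfModules.over M (U i)) ≅ M.restrict (U i).ι :=
          (Scheme.Modules.overFunctorEquiv (U i)).app M
        let iso2 : e.inverse.obj (M.restrict (U i).ι) ≅ SheafOfModules.over M (U i) :=
          e.inverse.mapIso iso.symm ≪≫ (e.unitIso.app _).symm
        exact SheafOfModules.Presentation.ofIsIso.{u, u, u} iso2.hom
          ((P i).map e.inverse ((U i).sheafOfModulesEquivOverInverseUnit X.ringCatSheaf).symm) }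
  exact D.isQuasicoherent

/-- A module whose restriction to `Spec Γ(X, U)` is quasi-coherent for every affine open `U` is
quasi-coherent. -/
theorem isQuasicoherent_of_forall_affine {X : Scheme.{u}} (M : X.Modules)
    (h : ∀ (U : X.Opens) (hU : IsAffineOpen U), (M.restrict hU.fromSpec).IsQuasicoherent) :
    M.IsQuasicoherent := by
  have hP : ∀ U : X.affineOpens, Nonempty (M.restrict (U : X.Opens).ι).Presentation := fun U => by
    haveI := h U.1 U.2
    exact nonempty_presentation_restrict_ι U.2 M
  refine isQuasicoherent_of_presentation_cover M (fun U : X.affineOpens => (U : X.Opens))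
    (iSup_affineOpens_eq_top X) (fun U => (hP U).some)

end Groth.Agent.H8
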