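import Groth.Agent.H8.QCohAffine
import Groth.Prelude.Def_FlatMod2

set_option autoImplicit false
set_option linter.style.haveILetI false
universe u
open CategoryTheory CategoryTheory.Limits AlgebraicGeometry TopologicalSpace Opposite

namespace Groth.Agent.H8

variable {X : Scheme.{u}} (M : X.Modules)

/-- Compatibility of germs with scalar multiplication, for `O_X`-modules on a scheme. -/
lemma germ_smul {U : X.Opens} (x : X) (hx : x ∈ U) (r : Γ(X, U)) (m : Γ(M, U)) :
    M.presheaf.germ U x hx (r • m) = X.presheaf.germ U x hx r • M.presheaf.germ U x hx m :=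
  PresheafOfModules.germ_smul (R := X.presheaf)
    (show PresheafOfModules (X.presheaf ⋙ forget₂ CommRingCat RingCat) from M.val) x U hx r m

variable [M.IsQuasicoherent] {U : X.Opens} (hU : IsAffineOpen U)

include hU in
/-- Every element of the stalk of a quasi-coherent module at a point `x` of an affine open `U`
is of the form `m / a` with `m ∈ Γ(M, U)` and `a ∈ Γ(X, U)` invertible at `x`. -/
theorem exists_germ_smul_eq_germ (x : X) (hxU : x ∈ U) (t : M.presheaf.stalk x) :
    ∃ (a : Γ(X, U)) (_ : x ∈ X.basicOpen a) (m : Γ(M, U)),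
      X.presheaf.germ U x hxU a • t = M.presheaf.germ U x hxU m := by
  obtain ⟨V, hxV, s, rfl⟩ := TopCat.Presheaf.exists_germ_eq M.presheaf t
  obtain ⟨a, haV, hxa⟩ := hU.exists_basicOpen_le ⟨x, hxV⟩ hxU
  obtain ⟨n, m, hm⟩ := exists_smul_eq_res hU M a (M.presheaf.map (homOfLE haV).op s)
  refine ⟨a ^ n, ?_, m, ?_⟩
  · rw [Scheme.mem_basicOpen _ _ _ hxU, map_pow]
    exact ((Scheme.mem_basicOpen _ _ _ hxU).mp hxa).pow n
  · have h1 := congrArg (M.presheaf.germ (X.basicOpen a) x hxa) hm
    rw [germ_smul, TopCat.Presheaf.germ_res_apply, TopCat.Presheaf.germ_res_apply, map_pow,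
      TopCat.Presheaf.germ_res_apply] at h1
    rw [map_pow]
    exact h1

include hU in
/-- A section over an affine open `U` of a quasi-coherent module whose germ at `x ∈ U` vanishes is
killed by some `a ∈ Γ(X, U)` invertible at `x`. -/
theorem exists_smul_eq_zero_of_germ_eq_zero (x : X) (hxU : x ∈ U) (m : Γ(M, U))
    (hm : M.presheaf.germ U x hxU m = 0) :
    ∃ (a : Γ(X, U)) (_ : x ∈ X.basicOpen a), a • m = 0 := by
  have h0 : M.presheaf.germ U x hxU m = M.presheaf.germ U x hxU 0 := by rw [hm, map_zero]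
  obtain ⟨W, hxW, iU, _iV, hW⟩ := TopCat.Presheaf.germ_eq M.presheaf x hxU hxU m 0 h0
  rw [map_zero] at hW
  obtain ⟨a, haW, hxa⟩ := hU.exists_basicOpen_le ⟨x, hxW⟩ hxU
  have hres : M.presheaf.map (homOfLE (X.basicOpen_le a)).op m = 0 := by
    have : M.presheaf.map (homOfLE (X.basicOpen_le a)).op m =
        M.presheaf.map (homOfLE haW).op (M.presheaf.map iU.op m) := by
      rw [← ConcreteCategory.comp_apply, ← Functor.map_comp]
      rfl
    rw [this, hW, map_zero]
  obtain ⟨n, hn⟩ := exists_smul_eq_zero hU M a m hres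
  refine ⟨a ^ n, ?_, hn⟩
  rw [Scheme.mem_basicOpen _ _ _ hxU, map_pow]
  exact ((Scheme.mem_basicOpen _ _ _ hxU).mp hxa).pow n

section Localized

variable (x : X) (hxU : x ∈ U)

/-- The `Γ(X, U)`-module structure on the stalk `M_x` (for `x ∈ U`), through the germ map. -/
@[reducible] noncomputable def moduleSectionStalk : Module Γ(X, U) (M.presheaf.stalk x) :=
  Module.compHom _ (X.presheaf.germ U x hxU).hom

omit [M.IsQuasicoherent] in
lemma isScalarTower_sectionStalk :
    letI := X.presheaf.algebra_section_stalk ⟨x, hxU⟩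
    letI := moduleSectionStalk M x hxU
    IsScalarTower Γ(X, U) (X.presheaf.stalk x) (M.presheaf.stalk x) := by
  letI := X.presheaf.algebra_section_stalk ⟨x, hxU⟩
  letI := moduleSectionStalk M x hxU
  exact IsScalarTower.of_algebraMap_smul fun r m => rfl

/-- The germ map `Γ(M, U) → M_x` as a `Γ(X, U)`-linear map. -/
noncomputable def germₗ :
    letI := moduleSectionStalk M x hxU
    Γ(M, U) →ₗ[Γ(X, U)] M.presheaf.stalk x :=
  letI := moduleSectionStalk M x hxU
  { toFun := fun m => M.presheaf.germ U x hxU m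
    map_add' := fun a b => map_add _ a b
    map_smul' := fun r m => germ_smul M x hxU r m }

omit [M.IsQuasicoherent] in
@[simp] lemma germₗ_apply (m : Γ(M, U)) :
    letI := moduleSectionStalk M x hxU
    germₗ M x hxU m = M.presheaf.germ U x hxU m := rfl

include hU in
omit [M.IsQuasicoherent] in
lemma mem_basicOpen_iff_notMem_primeIdealOf (a : Γ(X, U)) :
    x ∈ X.basicOpen a ↔ a ∈ (hU.primeIdealOf ⟨x, hxU⟩).asIdeal.primeCompl := by
  letI := X.presheaf.algebra_section_stalk ⟨x, hxU⟩
  haveI := hU.isLocalization_stalk ⟨x, hxU⟩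
  rw [Scheme.mem_basicOpen _ _ _ hxU]
  exact IsLocalization.AtPrime.isUnit_to_map_iff (X.presheaf.stalk x)
    (hU.primeIdealOf ⟨x, hxU⟩).asIdeal a

/-- For a quasi-coherent module `M` on a scheme and a point `x` of an affine open `U`, the stalk
`M_x` is the localisation of `Γ(M, U)` at the prime of `x`. -/
theorem isLocalizedModule_germₗ :
    letI := moduleSectionStalk M x hxU
    IsLocalizedModule (hU.primeIdealOf ⟨x, hxU⟩).asIdeal.primeCompl (germₗ M x hxU) := by
  letI := X.presheaf.algebra_section_stalk ⟨x, hxU⟩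
  haveI := hU.isLocalization_stalk ⟨x, hxU⟩
  letI := moduleSectionStalk M x hxU
  refine ⟨?_, ?_, ?_⟩
  · rintro ⟨s, hs⟩
    have hu : IsUnit (X.presheaf.germ U x hxU s) :=
      IsLocalization.map_units (X.presheaf.stalk x)
        (⟨s, hs⟩ : (hU.primeIdealOf ⟨x, hxU⟩).asIdeal.primeCompl)
    rw [Module.End.isUnit_iff]
    obtain ⟨u, hu'⟩ := hu
    constructor
    · intro m₁ m₂ h
      have h' : u • m₁ = u • m₂ := by
        rw [Units.smul_def, Units.smul_def, hu']
        exact h
      exact smul_left_cancel u h' |> fun h => h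
    · intro m
      refine ⟨(u⁻¹ : (X.presheaf.stalk x)ˣ) • m, ?_⟩
      change (X.presheaf.germ U x hxU s) • ((u⁻¹ : (X.presheaf.stalk x)ˣ) • m) = m
      rw [← hu', ← Units.smul_def, smul_inv_smul]
  · intro t
    obtain ⟨a, hxa, m, hm⟩ := exists_germ_smul_eq_germ M hU x hxU t
    exact ⟨⟨m, ⟨a, (mem_basicOpen_iff_notMem_primeIdealOf hU x hxU a).mp hxa⟩⟩, hm⟩
  · intro m₁ m₂ h
    have h0 : M.presheaf.germ U x hxU (m₁ - m₂) = 0 := by
      rw [map_sub, sub_eq_zero]
      exact h
    obtain ⟨a, hxa, ha⟩ := exists_smul_eq_zero_of_germ_eq_zero M hU x hxU (m₁ - m₂) h0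
    refine ⟨⟨a, (mem_basicOpen_iff_notMem_primeIdealOf hU x hxU a).mp hxa⟩, ?_⟩
    rw [smul_sub, sub_eq_zero] at ha
    exact ha

end Localized

end Groth.Agent.H8
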