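import Groth.Agent.H8.PullbackSections
import Groth.Agent.H8.QCohStalk
import Groth.Agent.H8.QCohLocal
import Mathlib

/-!
Stalks of the pullback of a quasi-coherent module: a base change of the stalk.
Also: the pullback of a quasi-coherent module is quasi-coherent.
-/

set_option autoImplicit false
set_option linter.style.haveILetI false
universe u

open CategoryTheory CategoryTheory.Limits AlgebraicGeometry TopologicalSpace Opposite

namespace Groth.Agent.H8

section Algebra

open TensorProduct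

variable {A B : Type u} [CommRing A] [CommRing B] [Algebra A B]
  (p : Ideal A) [p.IsPrime] (q : Ideal B) [q.IsPrime]
  (Ap Bq : Type u) [CommRing Ap] [CommRing Bq] [Algebra A Ap] [IsLocalization.AtPrime Ap p]
  [Algebra B Bq] [IsLocalization.AtPrime Bq q] [Algebra Ap Bq] [Algebra A Bq]
  [IsScalarTower A Ap Bq] [IsScalarTower A B Bq]
  {M Mp : Type u} [AddCommGroup M] [Module A M] [AddCommGroup Mp] [Module A Mp] [Module Ap Mp]
  [IsScalarTower A Ap Mp] (l : M →ₗ[A] Mp) [IsLocalizedModule p.primeCompl l]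

/-- The natural map `B ⊗[A] M → B_q ⊗[A_p] M_p`. -/
noncomputable def tensorLocMap : B ⊗[A] M →ₗ[B] Bq ⊗[Ap] Mp :=
  (TensorProduct.isBaseChange A M B).lift
    ((TensorProduct.mk Ap Bq Mp 1).restrictScalars A ∘ₗ l)

include p in
/-- `B_q ⊗[A_p] M_p` is the localization of `B ⊗[A] M` at `q`. -/
theorem isLocalizedModule_tensorLocMap :
    IsLocalizedModule q.primeCompl (tensorLocMap Ap Bq l : B ⊗[A] M →ₗ[B] Bq ⊗[Ap] Mp) := by
  have hl : IsBaseChange Ap l := IsLocalizedModule.isBaseChange p.primeCompl Ap l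
  have hmk : IsBaseChange Bq (TensorProduct.mk Ap Bq Mp 1) := TensorProduct.isBaseChange Ap Mp Bq
  have hcomp : IsBaseChange Bq ((TensorProduct.mk Ap Bq Mp 1).restrictScalars A ∘ₗ l) :=
    IsBaseChange.comp hl hmk
  have hB : IsBaseChange B (TensorProduct.mk A B M 1) := TensorProduct.isBaseChange A M B
  have hc : IsBaseChange Bq
      (((tensorLocMap Ap Bq l : B ⊗[A] M →ₗ[B] Bq ⊗[Ap] Mp).restrictScalars A) ∘ₗ
        (TensorProduct.mk A B M 1)) := by
    have e : ((tensorLocMap Ap Bq l : B ⊗[A] M →ₗ[B] Bq ⊗[Ap] Mp).restrictScalars A) ∘ₗ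
        (TensorProduct.mk A B M 1) = (TensorProduct.mk Ap Bq Mp 1).restrictScalars A ∘ₗ l :=
      hB.lift_comp _
    rw [e]
    exact hcomp
  have h2 : IsBaseChange Bq (tensorLocMap Ap Bq l : B ⊗[A] M →ₗ[B] Bq ⊗[Ap] Mp) :=
    IsBaseChange.of_comp hB hc
  exact (isLocalizedModule_iff_isBaseChange q.primeCompl Bq _).mpr h2

include p l in
/-- If `N ≅ B ⊗[A] M` and `N_q` is the localization of `N` at `q`, then
`N_q ≅ B_q ⊗[A_p] M_p`. -/
theorem nonempty_equiv_tensor_of_isLocalizedModule {N Nq : Type u} [AddCommGroup N] [Module B N]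
    [AddCommGroup Nq] [Module B Nq] [Module Bq Nq] [IsScalarTower B Bq Nq] (γ : N →ₗ[B] Nq)
    [IsLocalizedModule q.primeCompl γ] (E : N ≃ₗ[B] B ⊗[A] M) :
    Nonempty (Nq ≃ₗ[Bq] Bq ⊗[Ap] Mp) := by
  haveI := isLocalizedModule_tensorLocMap p q Ap Bq l
  haveI : IsLocalizedModule q.primeCompl
      ((tensorLocMap Ap Bq l : B ⊗[A] M →ₗ[B] Bq ⊗[Ap] Mp) ∘ₗ E.toLinearMap) :=
    IsLocalizedModule.of_linearEquiv_right _ _ E
  exact ⟨LinearEquiv.extendScalarsOfIsLocalization q.primeCompl Bq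
    (IsLocalizedModule.linearEquiv q.primeCompl γ
      ((tensorLocMap Ap Bq l : B ⊗[A] M →ₗ[B] Bq ⊗[Ap] Mp) ∘ₗ E.toLinearMap))⟩

end Algebra

section QCohPullback

/-- Quasi-coherence is invariant under isomorphisms. -/
theorem isQuasicoherent_of_iso {Y : Scheme.{u}} {M N : Y.Modules} (e : M ≅ N)
    [hM : M.IsQuasicoherent] : N.IsQuasicoherent :=
  ObjectProperty.prop_of_iso (SheafOfModules.isQuasicoherent Y.ringCatSheaf) e hM

variable {X' X : Scheme.{u}} (g : X' ⟶ X) (F : X.Modules) [F.IsQuasicoherent]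

/-- The pullback of a quasi-coherent module is quasi-coherent. -/
theorem isQuasicoherent_pullback : ((Scheme.Modules.pullback g).obj F).IsQuasicoherent := by
  let ι := {U' : X'.affineOpens // ∃ U : X.affineOpens, (U' : X'.Opens) ≤ g ⁻¹ᵁ (U : X.Opens)}
  have hcov : IsOpenCover (fun i : ι => ((i.1 : X'.affineOpens) : X'.Opens)) := by
    apply le_antisymm le_top
    intro x' _
    obtain ⟨U, hU, hxU, -⟩ := exists_isAffineOpen_mem_and_subset (x := g x')
      (U := (⊤ : X.Opens)) trivial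
    obtain ⟨U', hU', hxU', hU'le⟩ := exists_isAffineOpen_mem_and_subset (x := x')
      (U := g ⁻¹ᵁ U) hxU
    exact Opens.mem_iSup.mpr ⟨⟨⟨U', hU'⟩, ⟨⟨U, hU⟩, hU'le⟩⟩, hxU'⟩
  have hP : ∀ i : ι, Nonempty
      (((Scheme.Modules.pullback g).obj F).restrict ((i.1 : X'.affineOpens) : X'.Opens).ι).Presentation := by
    intro i
    obtain ⟨U, hle⟩ := i.2
    haveI : (((Scheme.Modules.pullback g).obj F).restrict i.1.2.fromSpec).IsQuasicoherent :=
      isQuasicoherent_of_iso (pullbackRestrictIso g F U.2 i.1.2 hle).symm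
    exact nonempty_presentation_restrict_ι i.1.2 _
  exact isQuasicoherent_of_presentation_cover _ (fun i : ι => ((i.1 : X'.affineOpens) : X'.Opens))
    hcov (fun i => (hP i).some)

end QCohPullback

section Stalk

variable {X' X : Scheme.{u}} (g : X' ⟶ X) (F : X.Modules) [F.IsQuasicoherent]

set_option backward.isDefEq.respectTransparency false in
/-- **The stalk of the pullback of a quasi-coherent module is the base change of the stalk.** -/
theorem nonempty_stalk_pullback_equiv (x' : X') :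
    letI := (g.stalkMap x').hom.toAlgebra
    Nonempty (((Scheme.Modules.pullback g).obj F).presheaf.stalk x' ≃ₗ[X'.presheaf.stalk x']
      TensorProduct (X.presheaf.stalk (g x')) (X'.presheaf.stalk x')
        (F.presheaf.stalk (g x'))) := by
  obtain ⟨U, hU, hxU, -⟩ := exists_isAffineOpen_mem_and_subset (x := g x')
    (U := (⊤ : X.Opens)) trivial
  obtain ⟨U', hU', hxU', hle⟩ := exists_isAffineOpen_mem_and_subset (x := x')
    (U := g ⁻¹ᵁ U) hxU
  haveI := isQuasicoherent_pullback g F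
  letI aAB : Algebra Γ(X, U) Γ(X', U') := (g.appLE U U' hle).hom.toAlgebra
  letI aAAp : Algebra Γ(X, U) (X.presheaf.stalk (g x')) :=
    X.presheaf.algebra_section_stalk ⟨g x', hxU⟩
  letI aBBq : Algebra Γ(X', U') (X'.presheaf.stalk x') :=
    X'.presheaf.algebra_section_stalk ⟨x', hxU'⟩
  letI aApBq : Algebra (X.presheaf.stalk (g x')) (X'.presheaf.stalk x') :=
    (g.stalkMap x').hom.toAlgebra
  letI aABq : Algebra Γ(X, U) (X'.presheaf.stalk x') :=
    ((g.stalkMap x').hom.comp (X.presheaf.germ U (g x') hxU).hom).toAlgebra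
  haveI t1 : IsScalarTower Γ(X, U) (X.presheaf.stalk (g x')) (X'.presheaf.stalk x') :=
    IsScalarTower.of_algebraMap_eq' rfl
  haveI t2 : IsScalarTower Γ(X, U) Γ(X', U') (X'.presheaf.stalk x') := by
    apply IsScalarTower.of_algebraMap_eq'
    have h1 : X.presheaf.germ U (g x') hxU ≫ g.stalkMap x' =
        g.appLE U U' hle ≫ X'.presheaf.germ U' x' hxU' := by
      rw [Scheme.Hom.germ_stalkMap, Scheme.Hom.appLE, Category.assoc, X'.presheaf.germ_res]
    exact congrArg CommRingCat.Hom.hom h1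
  haveI := hU.isLocalization_stalk ⟨g x', hxU⟩
  haveI := hU'.isLocalization_stalk ⟨x', hxU'⟩
  letI mAMp := moduleSectionStalk F (g x') hxU
  haveI := isScalarTower_sectionStalk F (g x') hxU
  haveI := isLocalizedModule_germₗ F hU (g x') hxU
  letI mBNq := moduleSectionStalk ((Scheme.Modules.pullback g).obj F) x' hxU'
  haveI := isScalarTower_sectionStalk ((Scheme.Modules.pullback g).obj F) x' hxU'
  haveI := isLocalizedModule_germₗ ((Scheme.Modules.pullback g).obj F) hU' x' hxU'
  obtain ⟨E⟩ : Nonempty (Γ((Scheme.Modules.pullback g).obj F, U') ≃ₗ[Γ(X', U')]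
      TensorProduct Γ(X, U) Γ(X', U') Γ(F, U)) := ⟨sectionsPullbackEquiv g F hU hU' hle⟩
  exact nonempty_equiv_tensor_of_isLocalizedModule (hU.primeIdealOf ⟨g x', hxU⟩).asIdeal
    (hU'.primeIdealOf ⟨x', hxU'⟩).asIdeal (X.presheaf.stalk (g x')) (X'.presheaf.stalk x')
    (germₗ F (g x') hxU) (germₗ ((Scheme.Modules.pullback g).obj F) x' hxU') E

end Stalk

end Groth.Agent.H8
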