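import Groth.Agent.H31.StalkKFlat
import Mathlib

/-!
Stalks of the tensor product of modules on a scheme; vanishing of tensor products over local rings.
-/

set_option autoImplicit false
set_option backward.isDefEq.respectTransparency false
universe u
open CategoryTheory CategoryTheory.Limits AlgebraicGeometry TensorProduct

namespace Groth.Agent.H8

section Algebra

/-- Over a local ring, a tensor product of finite modules vanishes iff one of the factors does. -/
theorem subsingleton_tensorProduct_iff_of_isLocalRing {R : Type u} [CommRing R] [IsLocalRing R]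
    (M N : Type u) [AddCommGroup M] [Module R M] [AddCommGroup N] [Module R N]
    [Module.Finite R M] [Module.Finite R N] :
    Subsingleton (M ⊗[R] N) ↔ Subsingleton M ∨ Subsingleton N := by
  constructor
  · intro h
    let k := IsLocalRing.ResidueField R
    have h1 : Subsingleton (k ⊗[R] (M ⊗[R] N)) := inferInstance
    have h2 : Subsingleton ((k ⊗[R] M) ⊗[k] (k ⊗[R] N)) :=
      (AlgebraTensorModule.distribBaseChange R k M N).symm.toEquiv.subsingleton
    by_contra hcon
    rw [not_or] at hcon
    have hM : ¬ Subsingleton (k ⊗[R] M) := fun hs =>
      hcon.1 ((IsLocalRing.subsingleton_tensorProduct (R := R) (M := M)).mp hs)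
    have hN : ¬ Subsingleton (k ⊗[R] N) := fun hs =>
      hcon.2 ((IsLocalRing.subsingleton_tensorProduct (R := R) (M := N)).mp hs)
    haveI : Nontrivial (k ⊗[R] M) := not_subsingleton_iff_nontrivial.mp hM
    haveI : Module.FaithfullyFlat k (k ⊗[R] M) := inferInstance
    exact hN ((Module.FaithfullyFlat.subsingleton_tensorProduct_iff_right k (k ⊗[R] M)).mp h2)
  · rintro (h | h)
    · infer_instance
    · infer_instance

end Algebra

section Geometry

open Groth.Agent.H31.Stalk

variable {X : Scheme.{u}}

/-- The stalk of the tensor product of two modules is the tensor product of the stalks. -/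
theorem nonempty_stalk_tensorMod_equiv (M N : X.Modules) (x : X) :
    Nonempty ((CohB1.tensorMod M N).presheaf.stalk x ≃ₗ[X.presheaf.stalk x]
      (M.presheaf.stalk x) ⊗[X.presheaf.stalk x] (N.presheaf.stalk x)) :=
  ⟨(τ (shX X) x M N).toLinearEquiv⟩

end Geometry

end Groth.Agent.H8
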