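import Mathlib

/-!
Tensoring a finite module along a local homomorphism of local rings detects vanishing.
-/

set_option autoImplicit false
universe u

namespace Groth.Agent.H8

open IsLocalRing

/-- For a local homomorphism `A → B` of local rings and a finite `A`-module `M`,
`B ⊗[A] M = 0` iff `M = 0`. -/
theorem subsingleton_tensorProduct_of_isLocalHom {A B : Type u} [CommRing A] [CommRing B]
    [IsLocalRing A] [IsLocalRing B] [Algebra A B] [IsLocalHom (algebraMap A B)] (M : Type u)
    [AddCommGroup M] [Module A M] [Module.Finite A M] :
    Subsingleton (TensorProduct A B M) ↔ Subsingleton M := by
  constructor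
  · intro h
    have h1 : Subsingleton (TensorProduct B (ResidueField B) (TensorProduct A B M)) :=
      inferInstance
    have e1 := TensorProduct.AlgebraTensorModule.cancelBaseChange A B B (ResidueField B) M
    have h2 : Subsingleton (TensorProduct A (ResidueField B) M) := e1.symm.toEquiv.subsingleton
    have e2 := TensorProduct.AlgebraTensorModule.cancelBaseChange A (ResidueField A)
      (ResidueField A) (ResidueField B) M
    have h3 : Subsingleton (TensorProduct (ResidueField A) (ResidueField B)
        (TensorProduct A (ResidueField A) M)) := e2.toEquiv.subsingleton
    have h4 : Subsingleton (TensorProduct A (ResidueField A) M) :=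
      (Module.FaithfullyFlat.subsingleton_tensorProduct_iff_right (ResidueField A)
        (ResidueField B)).mp h3
    exact IsLocalRing.subsingleton_tensorProduct.mp h4
  · intro h
    infer_instance

end Groth.Agent.H8
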