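import Groth.Agent.H8.QCohStalk
import Mathlib.AlgebraicGeometry.Noetherian

/-!
# Primes of local rings of a scheme and generisations; supports of quasi-coherent modules
-/

set_option autoImplicit false
set_option linter.style.haveILetI false
universe u
open CategoryTheory CategoryTheory.Limits AlgebraicGeometry TopologicalSpace Opposite

namespace Groth.Agent.H8

variable {X : Scheme.{u}} {U : X.Opens} (hU : IsAffineOpen U)

/-- The point of an affine open `U` attached to a prime of `Γ(X, U)`. -/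
noncomputable def pointOfPrime (q : Ideal Γ(X, U)) [hq : q.IsPrime] : X :=
  hU.fromSpec ⟨q, hq⟩

lemma pointOfPrime_mem (q : Ideal Γ(X, U)) [hq : q.IsPrime] : pointOfPrime hU q ∈ U := by
  have : hU.fromSpec ⟨q, hq⟩ ∈ Set.range hU.fromSpec := ⟨_, rfl⟩
  rw [hU.range_fromSpec] at this
  exact this

lemma primeIdealOf_pointOfPrime (q : Ideal Γ(X, U)) [hq : q.IsPrime] :
    hU.primeIdealOf ⟨pointOfPrime hU q, pointOfPrime_mem hU q⟩ = ⟨q, hq⟩ :=
  hU.fromSpec.isOpenEmbedding.injective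
    (hU.fromSpec_primeIdealOf ⟨pointOfPrime hU q, pointOfPrime_mem hU q⟩)

lemma pointOfPrime_primeIdealOf (x : X) (hxU : x ∈ U) :
    pointOfPrime hU (hU.primeIdealOf ⟨x, hxU⟩).asIdeal = x :=
  hU.fromSpec_primeIdealOf ⟨x, hxU⟩

lemma pointOfPrime_specializes (q : Ideal Γ(X, U)) [hq : q.IsPrime] (x : X) (hxU : x ∈ U)
    (hle : q ≤ (hU.primeIdealOf ⟨x, hxU⟩).asIdeal) : pointOfPrime hU q ⤳ x := by
  have hpx : hU.fromSpec (hU.primeIdealOf ⟨x, hxU⟩) = x := hU.fromSpec_primeIdealOf ⟨x, hxU⟩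
  rw [← hpx]
  have : (⟨q, hq⟩ : PrimeSpectrum Γ(X, U)) ⤳ hU.primeIdealOf ⟨x, hxU⟩ :=
    (PrimeSpectrum.le_iff_specializes _ _).mp hle
  exact this.map hU.fromSpec.continuous

lemma eq_of_pointOfPrime_eq (q : Ideal Γ(X, U)) [hq : q.IsPrime] (x : X) (hxU : x ∈ U)
    (h : pointOfPrime hU q = x) : q = (hU.primeIdealOf ⟨x, hxU⟩).asIdeal := by
  have hpx : hU.fromSpec (hU.primeIdealOf ⟨x, hxU⟩) = x := hU.fromSpec_primeIdealOf ⟨x, hxU⟩
  have : (⟨q, hq⟩ : PrimeSpectrum Γ(X, U)) = hU.primeIdealOf ⟨x, hxU⟩ :=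
    hU.fromSpec.isOpenEmbedding.injective (h.trans hpx.symm)
  exact congrArg PrimeSpectrum.asIdeal this

section Stalk

variable (x : X) (hxU : x ∈ U)

/-- The contraction to `Γ(X, U)` of a prime of the local ring at `x ∈ U` lies in the prime of `x`. -/
lemma comap_le_primeIdealOf (Q : Ideal (X.presheaf.stalk x)) [hQ : Q.IsPrime] :
    Q.comap (X.presheaf.germ U x hxU).hom ≤ (hU.primeIdealOf ⟨x, hxU⟩).asIdeal := by
  letI := X.presheaf.algebra_section_stalk ⟨x, hxU⟩
  haveI := hU.isLocalization_stalk ⟨x, hxU⟩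
  intro a ha
  by_contra hcon
  have hu : IsUnit (algebraMap Γ(X, U) (X.presheaf.stalk x) a) :=
    IsLocalization.map_units (X.presheaf.stalk x)
      (⟨a, hcon⟩ : (hU.primeIdealOf ⟨x, hxU⟩).asIdeal.primeCompl)
  exact hQ.ne_top (Ideal.eq_top_of_isUnit_mem _ ha hu)

/-- A prime of the local ring at `x` whose associated generisation of `x` is `x` itself is the
maximal ideal. -/
lemma eq_maximalIdeal_of_pointOfPrime_eq (Q : Ideal (X.presheaf.stalk x)) [hQ : Q.IsPrime]
    (h : haveI : (Q.comap (X.presheaf.germ U x hxU).hom).IsPrime := Ideal.comap_isPrime _ Q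
      pointOfPrime hU (Q.comap (X.presheaf.germ U x hxU).hom) = x) :
    Q = IsLocalRing.maximalIdeal (X.presheaf.stalk x) := by
  letI := X.presheaf.algebra_section_stalk ⟨x, hxU⟩
  haveI := hU.isLocalization_stalk ⟨x, hxU⟩
  haveI : (Q.comap (X.presheaf.germ U x hxU).hom).IsPrime := Ideal.comap_isPrime _ Q
  have hq := eq_of_pointOfPrime_eq hU (Q.comap (X.presheaf.germ U x hxU).hom) x hxU h
  rw [← IsLocalization.map_comap (hU.primeIdealOf ⟨x, hxU⟩).asIdeal.primeCompl
    (X.presheaf.stalk x) Q]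
  change Ideal.map _ (Q.comap (X.presheaf.germ U x hxU).hom) = _
  rw [hq]
  exact IsLocalization.AtPrime.map_eq_maximalIdeal (hU.primeIdealOf ⟨x, hxU⟩).asIdeal
    (X.presheaf.stalk x)

variable (M : X.Modules) [M.IsQuasicoherent]

/-- If a prime `Q` of the local ring at `x` contains the annihilator of an element `m` of the stalk
of a quasi-coherent module `M`, then the generisation of `x` attached to `Q` is in the support of
`M`. -/
lemma pointOfPrime_mem_support (Q : Ideal (X.presheaf.stalk x)) [hQ : Q.IsPrime]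
    (m : M.presheaf.stalk x) (hm : ∀ b : X.presheaf.stalk x, b • m = 0 → b ∈ Q) :
    haveI : (Q.comap (X.presheaf.germ U x hxU).hom).IsPrime := Ideal.comap_isPrime _ Q
    ¬ Subsingleton (M.presheaf.stalk
      (pointOfPrime hU (Q.comap (X.presheaf.germ U x hxU).hom))) := by
  haveI hqprime : (Q.comap (X.presheaf.germ U x hxU).hom).IsPrime := Ideal.comap_isPrime _ Q
  intro hsub
  set q := Q.comap (X.presheaf.germ U x hxU).hom with hq
  obtain ⟨a, hxa, n, hn⟩ := exists_germ_smul_eq_germ M hU x hxU m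
  have hyU := pointOfPrime_mem hU q
  have h0 : M.presheaf.germ U (pointOfPrime hU q) hyU n = 0 := Subsingleton.elim _ _
  obtain ⟨b, hyb, hbn⟩ := exists_smul_eq_zero_of_germ_eq_zero M hU (pointOfPrime hU q) hyU n h0
  have hb1 : b ∈ (hU.primeIdealOf ⟨pointOfPrime hU q, hyU⟩).asIdeal.primeCompl :=
    (mem_basicOpen_iff_notMem_primeIdealOf hU _ hyU b).mp hyb
  rw [primeIdealOf_pointOfPrime hU q] at hb1
  have ha1 : a ∈ (hU.primeIdealOf ⟨x, hxU⟩).asIdeal.primeCompl :=
    (mem_basicOpen_iff_notMem_primeIdealOf hU x hxU a).mp hxa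
  -- `germ (b * a) • m = 0`
  have hkill : (X.presheaf.germ U x hxU (b * a)) • m = 0 := by
    rw [map_mul, mul_smul, hn, ← germ_smul, hbn, map_zero]
  have hmem : b * a ∈ q := hm _ hkill
  rcases hqprime.mem_or_mem hmem with hb | ha
  · exact hb1 hb
  · exact ha1 (comap_le_primeIdealOf hU x hxU Q ha)

end Stalk

end Groth.Agent.H8
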