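import Groth.Agent.H8.QCohLocal
import Groth.Agent.H8.CohAffine
import Mathlib.Algebra.Module.FinitePresentation

/-!
# Finite type / finite presentation of quasi-coherent modules from sections on an affine cover

* `isFiniteType_of_finite_sections`: a quasi-coherent module whose sections over the members of an
  affine open cover are finite modules is of finite type.
* `isFinitePresentation_of_finitePresentation_sections`: same for finite presentation.
-/

set_option autoImplicit false
set_option linter.style.haveILetI false
universe u
open CategoryTheory CategoryTheory.Limits AlgebraicGeometry TopologicalSpace Opposite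
open AlgebraicGeometry.Scheme.Modules

namespace Groth.Agent.H8

section SpecCase

variable {R : CommRingCat.{u}} (N : (Spec R).Modules) [N.IsQuasicoherent]

set_option backward.isDefEq.respectTransparency false in
/-- On `Spec R`, a quasi-coherent module with finitely generated global sections has a global
presentation with finitely many generators. -/
lemma exists_presentation_of_spec_of_finite
    (hfin : Module.Finite R ((modulesSpecToSheaf.obj N).presheaf.obj (.op ⊤))) :
    ∃ P : N.Presentation, P.generators.IsFiniteType := by
  let Γ : ModuleCat.{u} R := (modulesSpecToSheaf.obj N).presheaf.obj (op ⊤)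
  obtain ⟨s, hs⟩ := (hfin : Module.Finite R Γ).fg_top
  let P : (tilde Γ).Presentation :=
    presentationTilde.{u} Γ (↑s) hs _ (Submodule.span_eq _)
  haveI : IsIso N.fromTildeΓ := Scheme.Modules.isIso_fromTildeΓ_of_isQuasicoherent N
  refine ⟨SheafOfModules.Presentation.ofIsIso.{u, u, u} N.fromTildeΓ P, ⟨?_⟩⟩
  exact (inferInstance : Finite (↑s : Set Γ))

set_option backward.isDefEq.respectTransparency false in
/-- On `Spec R`, a quasi-coherent module with finitely presented global sections has a finite global
presentation. -/
lemma exists_presentation_of_spec_of_finitePresentation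
    (hfp : Module.FinitePresentation R ((modulesSpecToSheaf.obj N).presheaf.obj (.op ⊤))) :
    ∃ P : N.Presentation, P.IsFinite := by
  let Γ : ModuleCat.{u} R := (modulesSpecToSheaf.obj N).presheaf.obj (op ⊤)
  obtain ⟨s, hs, t, ht⟩ := (hfp : Module.FinitePresentation R Γ).out
  let P : (tilde Γ).Presentation :=
    presentationTilde.{u} Γ (↑s) hs (show Set ((↑s : Set Γ) →₀ R) from (↑t : Set (s →₀ R))) ht
  haveI : IsIso N.fromTildeΓ := Scheme.Modules.isIso_fromTildeΓ_of_isQuasicoherent N
  refine ⟨SheafOfModules.Presentation.ofIsIso.{u, u, u} N.fromTildeΓ P, ⟨⟨?_⟩, ⟨?_⟩⟩⟩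
  · exact (inferInstance : Finite (↑s : Set Γ))
  · exact (inferInstance : Finite (↑t : Set (s →₀ R)))

end SpecCase

section Restrict

variable {X : Scheme.{u}} {U : X.Opens} (hU : IsAffineOpen U) (M : X.Modules)

set_option backward.isDefEq.respectTransparency false in
/-- The sections of `M |_ Spec Γ(X, U)` over `⊤` are the sections of `M` over `U`, linearly. -/
noncomputable def sectionsRestrictEquiv :
    ((modulesSpecToSheaf.obj (M.restrict hU.fromSpec)).presheaf.obj (.op ⊤)) ≃ₗ[Γ(X, U)]
      Γ(M, U) := by
  have e1 : hU.fromSpec ''ᵁ ⊤ = U := fromSpec_image_top_eq hU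
  let ℓ : ((modulesSpecToSheaf.obj (M.restrict hU.fromSpec)).presheaf.obj (.op ⊤)) →ₗ[Γ(X, U)]
      Γ(M, U) :=
    { toFun := fun x' => M.presheaf.map (eqToHom e1.symm).op
        (show Γ(M, hU.fromSpec ''ᵁ ⊤) from x')
      map_add' := fun a b => map_add _ _ _
      map_smul' := fun r x' => by
        have h1 := smul_restrict_eq hU M ⊤ r x'
        dsimp only [RingHom.id_apply]
        have hr : X.presheaf.map (eqToHom e1.symm).op
            (X.presheaf.map (homOfLE (fromSpec_image_le hU ⊤)).op r) = r := by
          rw [← CommRingCat.comp_apply, ← Functor.map_comp]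
          have : (homOfLE (fromSpec_image_le hU ⊤)).op ≫ (eqToHom e1.symm).op = 𝟙 (op U) :=
            Subsingleton.elim _ _
          rw [this, X.presheaf.map_id]
          rfl
        refine (congrArg (M.presheaf.map (eqToHom e1.symm).op) h1).trans ?_
        refine (M.map_smul (eqToHom e1.symm) _ _).trans ?_
        rw [hr] }
  refine LinearEquiv.ofBijective ℓ ⟨?_, ?_⟩
  · intro a b hab
    exact (ConcreteCategory.bijective_of_isIso (M.presheaf.map (eqToHom e1.symm).op)).injective hab
  · intro y
    refine ⟨M.presheaf.map (eqToHom e1).op y, ?_⟩
    change M.presheaf.map (eqToHom e1.symm).op (M.presheaf.map (eqToHom e1).op y) = y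
    rw [← ConcreteCategory.comp_apply, ← Functor.map_comp]
    have : (eqToHom e1).op ≫ (eqToHom e1.symm).op = 𝟙 (op U) := Subsingleton.elim _ _
    rw [this, M.presheaf.map_id]
    rfl

variable [M.IsQuasicoherent]

set_option backward.isDefEq.respectTransparency false in
include hU in
/-- On an affine open `U` with `Γ(M, U)` finite, `M |_ U` has a global presentation with finitely
many generators. -/
lemma exists_presentation_restrict_ι_of_finite (hfin : Module.Finite Γ(X, U) Γ(M, U)) :
    ∃ P : (M.restrict U.ι).Presentation, P.generators.IsFiniteType := by
  haveI : (M.restrict hU.fromSpec).IsQuasicoherent :=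
    Scheme.Modules.isQuasicoherent_restrictFunctor hU.fromSpec M
  have hfin' : Module.Finite Γ(X, U)
      ((modulesSpecToSheaf.obj (M.restrict hU.fromSpec)).presheaf.obj (.op ⊤)) :=
    Module.Finite.equiv (sectionsRestrictEquiv hU M).symm
  obtain ⟨P, hP⟩ := exists_presentation_of_spec_of_finite (M.restrict hU.fromSpec) hfin'
  let iso : restrictFunctor hU.fromSpec ⋙ restrictFunctor hU.isoSpec.hom ≅ restrictFunctor U.ι :=
    (restrictFunctorComp _ _).symm ≪≫ restrictFunctorCongr
      (by rw [← hU.isoSpec_inv_ι, Iso.hom_inv_id_assoc])
  refine ⟨SheafOfModules.Presentation.ofIsIso.{u, u, u} (iso.app M).hom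
    (presentationRestrict hU.isoSpec.hom P), ⟨?_⟩⟩
  exact (inferInstanceAs (Finite P.generators.I))

set_option backward.isDefEq.respectTransparency false in
include hU in
/-- On an affine open `U` with `Γ(M, U)` finitely presented, `M |_ U` has a finite global
presentation. -/
lemma exists_presentation_restrict_ι_of_finitePresentation
    (hfp : Module.FinitePresentation Γ(X, U) Γ(M, U)) :
    ∃ P : (M.restrict U.ι).Presentation, P.IsFinite := by
  haveI : (M.restrict hU.fromSpec).IsQuasicoherent :=
    Scheme.Modules.isQuasicoherent_restrictFunctor hU.fromSpec M
  have hfp' : Module.FinitePresentation Γ(X, U)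
      ((modulesSpecToSheaf.obj (M.restrict hU.fromSpec)).presheaf.obj (.op ⊤)) :=
    Module.FinitePresentation.of_equiv (sectionsRestrictEquiv hU M).symm
  obtain ⟨P, hP⟩ := exists_presentation_of_spec_of_finitePresentation (M.restrict hU.fromSpec) hfp'
  let iso : restrictFunctor hU.fromSpec ⋙ restrictFunctor hU.isoSpec.hom ≅ restrictFunctor U.ι :=
    (restrictFunctorComp _ _).symm ≪≫ restrictFunctorCongr
      (by rw [← hU.isoSpec_inv_ι, Iso.hom_inv_id_assoc])
  refine ⟨SheafOfModules.Presentation.ofIsIso.{u, u, u} (iso.app M).hom
    (presentationRestrict hU.isoSpec.hom P), ⟨⟨?_⟩, ⟨?_⟩⟩⟩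
  · exact (inferInstanceAs (Finite P.generators.I))
  · exact (inferInstanceAs (Finite P.relations.I))

end Restrict

section Cover

variable {X : Scheme.{u}} (M : X.Modules) {ι : Type u} (U : ι → X.Opens) (hU : IsOpenCover U)
  (P : ∀ i, (M.restrict (U i).ι).Presentation)

set_option backward.isDefEq.respectTransparency false in
/-- The quasi-coherent data given by global presentations on the members of an open cover. -/
noncomputable def quasicoherentDataOfCover :
    SheafOfModules.QuasicoherentData.{u} (R := X.ringCatSheaf) M :=
  { I := ι
    X := U
    coversTop := (_root_.Opens.coversTop_iff _ U).mpr hU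
    presentation := fun i =>
      SheafOfModules.Presentation.ofIsIso.{u, u, u}
        (((Scheme.Modules.overEquiv (U i)).inverse.mapIso
          ((Scheme.Modules.overFunctorEquiv (U i)).app M).symm ≪≫
            ((Scheme.Modules.overEquiv (U i)).unitIso.app _).symm).hom)
        ((P i).map (Scheme.Modules.overEquiv (U i)).inverse
          ((U i).sheafOfModulesEquivOverInverseUnit X.ringCatSheaf).symm) }

set_option backward.isDefEq.respectTransparency false in
include hU in
/-- Finite presentations on the members of an open cover give finite presentation. -/
theorem isFinitePresentation_of_presentation_cover (hP : ∀ i, (P i).IsFinite) :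
    SheafOfModules.IsFinitePresentation (R := X.ringCatSheaf) M := by
  have h : (quasicoherentDataOfCover M U hU P).IsFinitePresentation := by
    constructor
    intro i
    haveI := hP i
    constructor
    · constructor
      exact inferInstanceAs (Finite (P i).generators.I)
    · constructor
      exact inferInstanceAs (Finite (P i).relations.I)
  constructor
  exact Exists.intro (quasicoherentDataOfCover M U hU P) h

set_option backward.isDefEq.respectTransparency false in
include hU in
/-- Presentations with finitely many generators on the members of an open cover give finite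
type. -/
theorem isFiniteType_of_presentation_cover (hP : ∀ i, (P i).generators.IsFiniteType) :
    SheafOfModules.IsFiniteType (R := X.ringCatSheaf) M := by
  have h : (quasicoherentDataOfCover M U hU P).localGeneratorsData.IsFiniteType := by
    constructor
    intro i
    haveI := hP i
    constructor
    exact inferInstanceAs (Finite (P i).generators.I)
  constructor
  exact Exists.intro (quasicoherentDataOfCover M U hU P).localGeneratorsData h

end Cover

section Main

variable {X : Scheme.{u}} (M : X.Modules) [M.IsQuasicoherent] {ι : Type u} (U : ι → X.Opens)
  (hU : IsOpenCover U) (hU' : ∀ i, IsAffineOpen (U i))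

include hU hU' in
/-- A quasi-coherent module whose sections over the members of an affine open cover are finite
modules is of finite type. -/
theorem isFiniteType_of_finite_sections (h : ∀ i, Module.Finite Γ(X, U i) Γ(M, U i)) :
    SheafOfModules.IsFiniteType (R := X.ringCatSheaf) M := by
  choose P hP using fun i => exists_presentation_restrict_ι_of_finite (hU' i) M (h i)
  exact isFiniteType_of_presentation_cover M U hU P hP

include hU hU' in
/-- A quasi-coherent module whose sections over the members of an affine open cover are finitely
presented modules is of finite presentation. -/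
theorem isFinitePresentation_of_finitePresentation_sections
    (h : ∀ i, Module.FinitePresentation Γ(X, U i) Γ(M, U i)) :
    SheafOfModules.IsFinitePresentation (R := X.ringCatSheaf) M := by
  choose P hP using fun i => exists_presentation_restrict_ι_of_finitePresentation (hU' i) M (h i)
  exact isFinitePresentation_of_presentation_cover M U hU P hP

omit [M.IsQuasicoherent] in
/-- Version over all affine opens. -/
theorem isFiniteType_of_forall_affine_finite [M.IsQuasicoherent]
    (h : ∀ U : X.affineOpens, Module.Finite Γ(X, (U : X.Opens)) Γ(M, (U : X.Opens))) :
    SheafOfModules.IsFiniteType (R := X.ringCatSheaf) M :=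
  isFiniteType_of_finite_sections M (fun U : X.affineOpens => (U : X.Opens))
    (iSup_affineOpens_eq_top X) (fun U => U.2) h

omit [M.IsQuasicoherent] in
/-- Version over all affine opens. -/
theorem isFinitePresentation_of_forall_affine_finitePresentation [M.IsQuasicoherent]
    (h : ∀ U : X.affineOpens,
      Module.FinitePresentation Γ(X, (U : X.Opens)) Γ(M, (U : X.Opens))) :
    SheafOfModules.IsFinitePresentation (R := X.ringCatSheaf) M :=
  isFinitePresentation_of_finitePresentation_sections M (fun U : X.affineOpens => (U : X.Opens))
    (iSup_affineOpens_eq_top X) (fun U => U.2) h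

end Main

end Groth.Agent.H8
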