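import Groth.Agent.H8.PullbackStalk
import Groth.Agent.H8.CohAffine
import Groth.Agent.H8.FinType

/-!
# The pullback of a quasi-coherent module of finite type (resp. finite presentation) is of finite
type (resp. finite presentation).
-/

set_option autoImplicit false
set_option linter.style.haveILetI false
universe u
open CategoryTheory CategoryTheory.Limits AlgebraicGeometry TopologicalSpace Opposite

namespace Groth.Agent.H8

variable {X' X : Scheme.{u}} (g : X' ⟶ X) (F : X.Modules) [F.IsQuasicoherent]

set_option backward.isDefEq.respectTransparency false in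
/-- The pullback of a quasi-coherent module of finite type is of finite type. -/
theorem isFiniteType_pullback [SheafOfModules.IsFiniteType (R := X.ringCatSheaf) F] :
    SheafOfModules.IsFiniteType (R := X'.ringCatSheaf) ((Scheme.Modules.pullback g).obj F) := by
  haveI : ((Scheme.Modules.pullback g).obj F).IsQuasicoherent := isQuasicoherent_pullback g F
  let ι := {U' : X'.affineOpens // ∃ U : X.affineOpens, (U' : X'.Opens) ≤ g ⁻¹ᵁ (U : X.Opens)}
  have hcov : IsOpenCover (fun i : ι => ((i.1 : X'.affineOpens) : X'.Opens)) := by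
    apply le_antisymm le_top
    intro x' _
    obtain ⟨U, hU, hxU, -⟩ := exists_isAffineOpen_mem_and_subset (x := g x')
      (U := (⊤ : X.Opens)) trivial
    obtain ⟨U', hU', hxU', hU'le⟩ := exists_isAffineOpen_mem_and_subset (x := x')
      (U := g ⁻¹ᵁ U) hxU
    exact Opens.mem_iSup.mpr ⟨⟨⟨U', hU'⟩, ⟨⟨U, hU⟩, hU'le⟩⟩, hxU'⟩
  refine isFiniteType_of_finite_sections _ (fun i : ι => ((i.1 : X'.affineOpens) : X'.Opens))
    hcov (fun i => i.1.2) (fun i => ?_)
  obtain ⟨U, hle⟩ := i.2
  letI := (g.appLE U.1 i.1.1 hle).hom.toAlgebra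
  haveI : Module.Finite Γ(X, U.1) Γ(F, U.1) := finite_sections_of_isAffineOpen F U.2
  exact Module.Finite.equiv (sectionsPullbackEquiv g F U.2 i.1.2 hle).symm

end Groth.Agent.H8
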