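import Groth.Agent.H8.CohAffine

/-!
# The support of a module of finite type is closed

If the stalk of a module of finite type `M` vanishes at `x`, then all stalks of `M` vanish on a
neighbourhood of `x`.
-/

set_option autoImplicit false
set_option linter.style.haveILetI false
universe u
open CategoryTheory CategoryTheory.Limits AlgebraicGeometry TopologicalSpace Opposite
open AlgebraicGeometry.Scheme.Modules

namespace Groth.Agent.H8

section StepA

variable {Y : Scheme.{u}} (N : Y.Modules)

lemma res_injective_of_eq {A B : Y.Opens} (h : A ≤ B) (e : A = B) :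
    Function.Injective (N.presheaf.map (homOfLE h).op) := by
  subst e
  have h1 : (homOfLE h).op = 𝟙 (op A) := rfl
  rw [h1, N.presheaf.map_id]
  exact fun a b hab => hab

set_option backward.isDefEq.respectTransparency false in
/-- If the restrictions to `V` of global generating sections of `N` vanish, then `N` has no nonzero
sections over opens contained in `V`. -/
theorem section_eq_zero_of_generators_vanish (G : N.GeneratingSections) (V : Y.Opens)
    (hG : ∀ j, N.presheaf.map (homOfLE (le_top : V ≤ ⊤)).op ((G.s j).val (op ⊤)) = 0)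
    {O : Y.Opens} (hO : O ≤ V) (t : Γ(N, O)) : t = 0 := by
  let Q : Y.Modules := (Scheme.Modules.pushforward V.ι).obj (N.restrict V.ι)
  let η : N ⟶ Q := (Scheme.Modules.restrictAdjunction V.ι).unit.app N
  have hηapp : ∀ W : Y.Opens, ∀ y : Γ(N, W),
      η.app W y = N.presheaf.map (homOfLE (V.ι.image_preimage_le W)).op y := fun W y => rfl
  have himg : ∀ W : Y.Opens, V.ι ''ᵁ (V.ι ⁻¹ᵁ W) ≤ V := fun W => by
    rw [Scheme.Hom.image_preimage_eq_opensRange_inf, Scheme.Opens.opensRange_ι]
    exact inf_le_left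
  have hsec : ∀ j, SheafOfModules.sectionsMap η (G.s j) =
      SheafOfModules.sectionsMap (0 : N ⟶ Q) (G.s j) := by
    intro j
    apply PresheafOfModules.sections_ext
    rintro ⟨W⟩
    change η.app W ((G.s j).val (op W)) = 0
    have h1 : (G.s j).val (op W) =
        N.presheaf.map (homOfLE (le_top : W ≤ ⊤)).op ((G.s j).val (op ⊤)) :=
      (PresheafOfModules.sections_property (G.s j) (homOfLE (le_top : W ≤ ⊤)).op).symm
    rw [hηapp, h1]
    have h2 : N.presheaf.map (homOfLE (V.ι.image_preimage_le W)).op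
        (N.presheaf.map (homOfLE (le_top : W ≤ ⊤)).op ((G.s j).val (op ⊤))) =
        N.presheaf.map (homOfLE (himg W)).op
          (N.presheaf.map (homOfLE (le_top : V ≤ ⊤)).op ((G.s j).val (op ⊤))) := by
      rw [← ConcreteCategory.comp_apply, ← ConcreteCategory.comp_apply, ← Functor.map_comp,
        ← Functor.map_comp]
      rfl
    rw [h2, hG j, map_zero]
  have h0 : G.π ≫ η = 0 := by
    have h1 : G.π ≫ η = Q.freeHomEquiv.symm (fun i => SheafOfModules.sectionsMap η (G.s i)) :=
      SheafOfModules.freeHomEquiv_symm_comp G.s η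
    have h2 : G.π ≫ (0 : N ⟶ Q) =
        Q.freeHomEquiv.symm (fun i => SheafOfModules.sectionsMap (0 : N ⟶ Q) (G.s i)) :=
      SheafOfModules.freeHomEquiv_symm_comp G.s 0
    rw [h1, funext hsec, ← h2, comp_zero]
  have hη : η = 0 := by
    haveI : Epi G.π := G.epi
    exact (cancel_epi G.π).mp (h0.trans comp_zero.symm)
  have e : V.ι ''ᵁ (V.ι ⁻¹ᵁ O) = O := by
    rw [Scheme.Hom.image_preimage_eq_opensRange_inf, Scheme.Opens.opensRange_ι]
    exact inf_eq_right.mpr hO
  apply res_injective_of_eq N (V.ι.image_preimage_le O) e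
  rw [map_zero, ← hηapp, hη]
  rfl

end StepA

section StepB

variable {X : Scheme.{u}} (M : X.Modules)

set_option backward.isDefEq.respectTransparency false in
/-- If a stalk of a module of finite type vanishes, so do all stalks in a neighbourhood. -/
theorem exists_open_subsingleton_stalk [SheafOfModules.IsFiniteType (R := X.ringCatSheaf) M]
    (x : X) (hx : Subsingleton ↑(M.presheaf.stalk x)) :
    ∃ W : X.Opens, x ∈ W ∧ ∀ y ∈ W, Subsingleton ↑(M.presheaf.stalk y) := by
  obtain ⟨ι, U, hG, hU, -⟩ := exists_isOpenCover_generatingSections M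
  obtain ⟨i, hxi⟩ : ∃ i, x ∈ U i := by
    have : x ∈ (⨆ i, U i : X.Opens) := by rw [hU.iSup_eq_top]; trivial
    exact Opens.mem_iSup.mp this
  obtain ⟨G, hGfin⟩ := hG i
  haveI : Finite G.I := hGfin.finite
  have etop : (U i).ι ''ᵁ ⊤ = U i := by
    rw [Scheme.Hom.image_top_eq_opensRange, Scheme.Opens.opensRange_ι]
  have hxtop : x ∈ (U i).ι ''ᵁ ⊤ := by rw [etop]; exact hxi
  let σ : G.I → Γ(M, (U i).ι ''ᵁ ⊤) := fun j => (G.s j).val (op ⊤)
  -- each generating section vanishes near `x`
  have hloc : ∀ j : G.I, ∃ (W : X.Opens) (hW : W ≤ (U i).ι ''ᵁ ⊤), x ∈ W ∧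
      M.presheaf.map (homOfLE hW).op (σ j) = 0 := by
    intro j
    have hgerm : M.presheaf.germ _ x hxtop (σ j) =
        M.presheaf.germ _ x hxtop (0 : Γ(M, (U i).ι ''ᵁ ⊤)) := Subsingleton.elim _ _
    obtain ⟨W, hxW, iU, iV, hW⟩ := M.presheaf.germ_eq x hxtop hxtop _ _ hgerm
    refine ⟨W, leOfHom iU, hxW, ?_⟩
    exact hW.trans (map_zero _)
  choose W hWle hxW hW0 using hloc
  -- the common neighbourhood
  let W₀ : X.Opens := (⨅ j, W j) ⊓ U i
  have hxW₀ : x ∈ W₀ := by
    refine ⟨?_, hxi⟩
    change x ∈ ((⨅ j, W j : X.Opens) : Set X)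
    rw [Opens.coe_iInf]
    exact Set.mem_iInter.mpr hxW
  have hW₀U : W₀ ≤ U i := inf_le_right
  have hW₀W : ∀ j, W₀ ≤ W j := fun j => inf_le_left.trans (iInf_le _ j)
  let V : (U i).toScheme.Opens := (U i).ι ⁻¹ᵁ W₀
  have eV : (U i).ι ''ᵁ V = W₀ := by
    rw [Scheme.Hom.image_preimage_eq_opensRange_inf, Scheme.Opens.opensRange_ι]
    exact inf_eq_right.mpr hW₀U
  have hGV : ∀ j, (M.restrict (U i).ι).presheaf.map (homOfLE (le_top : V ≤ ⊤)).op
      ((G.s j).val (op ⊤)) = 0 := by
    intro j
    have hle : (U i).ι ''ᵁ V ≤ W j := eV.le.trans (hW₀W j)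
    have h1 : (M.restrict (U i).ι).presheaf.map (homOfLE (le_top : V ≤ ⊤)).op
        ((G.s j).val (op ⊤)) =
        M.presheaf.map (homOfLE hle).op (M.presheaf.map (homOfLE (hWle j)).op (σ j)) := by
      rw [← ConcreteCategory.comp_apply, ← Functor.map_comp]
      rfl
    rw [h1, hW0 j, map_zero]
  refine ⟨W₀, hxW₀, fun y hy => ⟨fun a b => ?_⟩⟩
  suffices h : ∀ g : ↑(M.presheaf.stalk y), g = 0 by rw [h a, h b]
  intro g
  obtain ⟨O, hOW, hyO, t, rfl⟩ := M.presheaf.exists_le_germ_eq g hy
  let O' : (U i).toScheme.Opens := (U i).ι ⁻¹ᵁ O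
  have eO : (U i).ι ''ᵁ O' = O := by
    rw [Scheme.Hom.image_preimage_eq_opensRange_inf, Scheme.Opens.opensRange_ι]
    exact inf_eq_right.mpr (hOW.trans hW₀U)
  have hO'V : O' ≤ V := fun z hz => hOW hz
  have ht' : (show Γ(M.restrict (U i).ι, O') from M.presheaf.map (homOfLE eO.le).op t) = 0 :=
    section_eq_zero_of_generators_vanish (M.restrict (U i).ι) G V hGV hO'V _
  have ht : t = 0 := by
    apply res_injective_of_eq M eO.le eO
    rw [map_zero]
    exact ht'
  rw [ht, map_zero]

/-- The support of a module of finite type is closed. -/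
theorem isClosed_support_of_isFiniteType
    [SheafOfModules.IsFiniteType (R := X.ringCatSheaf) M] :
    IsClosed {x : X | ¬ Subsingleton ↑(M.presheaf.stalk x)} := by
  rw [← isOpen_compl_iff, isOpen_iff_forall_mem_open]
  intro x hx
  have hx' : Subsingleton ↑(M.presheaf.stalk x) := not_not.mp hx
  obtain ⟨W, hxW, hW⟩ := exists_open_subsingleton_stalk M x hx'
  exact ⟨W, fun y hy => not_not.mpr (hW y hy), W.2, hxW⟩

end StepB

end Groth.Agent.H8
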