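import Mathlib.AlgebraicGeometry.Modules.Tilde
import Mathlib.AlgebraicGeometry.AffineScheme

set_option autoImplicit false
set_option linter.style.haveILetI false
universe u
open CategoryTheory CategoryTheory.Limits AlgebraicGeometry TopologicalSpace Opposite

namespace Groth.Agent.H8

section SpecCase

variable {R : CommRingCat.{u}} (N : (Spec R).Modules) [N.IsQuasicoherent]

theorem spec_isLocalizing : IsLocalizing (modulesSpecToSheaf.obj N) :=
  (isIso_fromTildeΓ_iff_isLocalizing N).mp inferInstance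

set_option backward.isDefEq.respectTransparency false in
theorem spec_exists_smul_eq_res (f : R) (y : Γ(N, PrimeSpectrum.basicOpen f)) :
    ∃ (n : ℕ) (x : Γ(N, ⊤)),
      f ^ n • y = N.presheaf.map (homOfLE (le_top : PrimeSpectrum.basicOpen f ≤ ⊤)).op x := by
  have h := spec_isLocalizing N f
  have h2 := IsLocalizedModule.surj (Submonoid.powers f)
    ((modulesSpecToSheaf.obj N).obj.map (PrimeSpectrum.basicOpen f).leTop.op).hom
  obtain ⟨⟨x, ⟨_, n, rfl⟩⟩, hx⟩ := h2 y
  exact ⟨n, x, hx⟩

set_option backward.isDefEq.respectTransparency.types false in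
theorem spec_exists_smul_eq_zero (f : R) (x : Γ(N, ⊤))
    (hx : N.presheaf.map (homOfLE (le_top : PrimeSpectrum.basicOpen f ≤ ⊤)).op x = 0) :
    ∃ n : ℕ, f ^ n • x = 0 := by
  have h := spec_isLocalizing N f
  obtain ⟨⟨_, n, rfl⟩, hc⟩ := IsLocalizedModule.exists_of_eq (S := Submonoid.powers f)
    (f := ((modulesSpecToSheaf.obj N).obj.map (PrimeSpectrum.basicOpen f).leTop.op).hom)
    (x₁ := x) (x₂ := 0) (by rw [map_zero]; exact hx)
  refine ⟨n, ?_⟩
  rw [smul_zero] at hc
  exact hc

end SpecCase

end Groth.Agent.H8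
namespace Groth.Agent.H8

variable {X : Scheme.{u}} {U : X.Opens} (hU : IsAffineOpen U)

lemma fromSpec_image_le (V : (Spec Γ(X, U)).Opens) : hU.fromSpec ''ᵁ V ≤ U := by
  have h1 : hU.fromSpec ''ᵁ V ≤ hU.fromSpec ''ᵁ ⊤ := Scheme.Hom.image_mono _ le_top
  have h2 : hU.fromSpec ''ᵁ ⊤ = U := by
    rw [Scheme.Hom.image_top_eq_opensRange, hU.opensRange_fromSpec]
  exact h1.trans h2.le

/-- Key compatibility (K). -/
lemma key_K (V : (Spec Γ(X, U)).Opens) :
    (Scheme.ΓSpecIso Γ(X, U)).inv ≫ (Spec Γ(X, U)).presheaf.map V.leTop.op ≫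
      (hU.fromSpec.appIso V).inv =
    X.presheaf.map (homOfLE (fromSpec_image_le hU V)).op := by
  rw [← cancel_mono (hU.fromSpec.appIso V).hom]
  simp only [Category.assoc, Iso.inv_hom_id, Category.comp_id]
  rw [Scheme.Hom.appIso_hom']
  rw [Scheme.Hom.map_appLE]
  rw [Scheme.Hom.appLE, hU.fromSpec_app_self, Category.assoc, ← Functor.map_comp]
  rfl

end Groth.Agent.H8

namespace Groth.Agent.H8

variable {X : Scheme.{u}} {U : X.Opens} (hU : IsAffineOpen U) (M : X.Modules)

set_option backward.isDefEq.respectTransparency false in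
lemma smul_restrict_eq (V : (Spec Γ(X, U)).Opens) (r : Γ(X, U))
    (y : Γ(M.restrict hU.fromSpec, V)) :
    r • y = (show Γ(M.restrict hU.fromSpec, V) from
      (X.presheaf.map (homOfLE (fromSpec_image_le hU V)).op r) •
        (show Γ(M, hU.fromSpec ''ᵁ V) from y)) := by
  rw [← key_K hU V]
  rfl

end Groth.Agent.H8

namespace Groth.Agent.H8

variable {X : Scheme.{u}} {U : X.Opens} (hU : IsAffineOpen U) (M : X.Modules) [M.IsQuasicoherent]

lemma fromSpec_image_top_eq : hU.fromSpec ''ᵁ ⊤ = U := by
  rw [Scheme.Hom.image_top_eq_opensRange, hU.opensRange_fromSpec]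

set_option backward.isDefEq.respectTransparency false in
include hU in
/-- On an affine open `U`, every section of a quasi-coherent module over `D(a)` becomes, after
multiplication by a power of `a`, the restriction of a section over `U`. -/
theorem exists_smul_eq_res (a : Γ(X, U)) (y : Γ(M, X.basicOpen a)) :
    ∃ (n : ℕ) (x : Γ(M, U)),
      (X.presheaf.map (homOfLE (X.basicOpen_le a)).op a) ^ n • y =
        M.presheaf.map (homOfLE (X.basicOpen_le a)).op x := by
  have e1 : hU.fromSpec ''ᵁ ⊤ = U := fromSpec_image_top_eq hU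
  have e2 : hU.fromSpec ''ᵁ (PrimeSpectrum.basicOpen a) = X.basicOpen a :=
    hU.fromSpec_image_basicOpen a
  let y' : Γ(M.restrict hU.fromSpec, PrimeSpectrum.basicOpen a) :=
    M.presheaf.map (eqToHom e2).op y
  obtain ⟨n, x', hx'⟩ := spec_exists_smul_eq_res (M.restrict hU.fromSpec) a y'
  refine ⟨n, M.presheaf.map (eqToHom e1.symm).op x', ?_⟩
  have hinj : Function.Injective (M.presheaf.map (eqToHom e2).op) :=
    ((ConcreteCategory.bijective_of_isIso (M.presheaf.map (eqToHom e2).op))).injective
  apply hinj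
  rw [smul_restrict_eq hU M] at hx'
  rw [M.map_smul]
  have hr : (X.presheaf.map (eqToHom e2).op)
      ((X.presheaf.map (homOfLE (X.basicOpen_le a)).op a) ^ n) =
      X.presheaf.map (homOfLE (fromSpec_image_le hU (PrimeSpectrum.basicOpen a))).op (a ^ n) := by
    rw [map_pow, map_pow, ← CommRingCat.comp_apply, ← Functor.map_comp]
    rfl
  have hm : (M.presheaf.map (eqToHom e2).op) ((M.presheaf.map (homOfLE (X.basicOpen_le a)).op)
      ((M.presheaf.map (eqToHom e1.symm).op) x')) =
      (M.restrict hU.fromSpec).presheaf.map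
        (homOfLE (le_top : PrimeSpectrum.basicOpen a ≤ ⊤)).op x' := by
    rw [← ConcreteCategory.comp_apply, ← ConcreteCategory.comp_apply, ← Functor.map_comp,
      ← Functor.map_comp]
    rfl
  rw [hr, hm]
  exact hx'

set_option backward.isDefEq.respectTransparency false in
include hU in
/-- On an affine open `U`, a section of a quasi-coherent module over `U` vanishing on `D(a)` is
killed by a power of `a`. -/
theorem exists_smul_eq_zero (a : Γ(X, U)) (x : Γ(M, U))
    (hx : M.presheaf.map (homOfLE (X.basicOpen_le a)).op x = 0) :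
    ∃ n : ℕ, a ^ n • x = 0 := by
  have e1 : hU.fromSpec ''ᵁ ⊤ = U := fromSpec_image_top_eq hU
  have e2 : hU.fromSpec ''ᵁ (PrimeSpectrum.basicOpen a) = X.basicOpen a :=
    hU.fromSpec_image_basicOpen a
  let x' : Γ(M.restrict hU.fromSpec, ⊤) := M.presheaf.map (eqToHom e1).op x
  have hx' : (M.restrict hU.fromSpec).presheaf.map
      (homOfLE (le_top : PrimeSpectrum.basicOpen a ≤ ⊤)).op x' = 0 := by
    have : (M.restrict hU.fromSpec).presheaf.map
        (homOfLE (le_top : PrimeSpectrum.basicOpen a ≤ ⊤)).op x' =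
        M.presheaf.map (eqToHom e2).op (M.presheaf.map (homOfLE (X.basicOpen_le a)).op x) := by
      rw [← ConcreteCategory.comp_apply, ← Functor.map_comp]
      change (M.presheaf.map _ ≫ M.presheaf.map _) x = _
      rw [← Functor.map_comp]
      rfl
    rw [this, hx, map_zero]
  obtain ⟨n, hn⟩ := spec_exists_smul_eq_zero (M.restrict hU.fromSpec) a x' hx'
  refine ⟨n, ?_⟩
  rw [smul_restrict_eq hU M] at hn
  have hinj : Function.Injective (M.presheaf.map (eqToHom e1).op) :=
    ((ConcreteCategory.bijective_of_isIso (M.presheaf.map (eqToHom e1).op))).injective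
  apply hinj
  rw [M.map_smul, map_zero]
  exact hn

section Away

variable (a : Γ(X, U))

/-- The `Γ(X, U)`-module structure on `Γ(M, D(a))` through restriction. -/
@[reducible] noncomputable def moduleSectionBasicOpen : Module Γ(X, U) Γ(M, X.basicOpen a) :=
  Module.compHom _ (X.presheaf.map (homOfLE (X.basicOpen_le a)).op).hom

/-- Restriction `Γ(M, U) → Γ(M, D(a))` as a `Γ(X, U)`-linear map. -/
noncomputable def resBasicOpenₗ :
    letI := moduleSectionBasicOpen M a
    Γ(M, U) →ₗ[Γ(X, U)] Γ(M, X.basicOpen a) :=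
  letI := moduleSectionBasicOpen M a
  { toFun := fun m => M.presheaf.map (homOfLE (X.basicOpen_le a)).op m
    map_add' := fun x y => map_add _ x y
    map_smul' := fun r m => M.map_smul (homOfLE (X.basicOpen_le a)) r m }

omit [M.IsQuasicoherent] in
@[simp] lemma resBasicOpenₗ_apply (m : Γ(M, U)) :
    letI := moduleSectionBasicOpen M a
    resBasicOpenₗ M a m = M.presheaf.map (homOfLE (X.basicOpen_le a)).op m := rfl

include hU in
/-- For a quasi-coherent module `M` on a scheme and an affine open `U`, `Γ(M, D(a))` is the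
localisation of `Γ(M, U)` at `a`. -/
theorem isLocalizedModule_resBasicOpenₗ :
    letI := moduleSectionBasicOpen M a
    IsLocalizedModule (Submonoid.powers a) (resBasicOpenₗ M a) := by
  letI := moduleSectionBasicOpen M a
  have hua : IsUnit (X.presheaf.map (homOfLE (X.basicOpen_le a)).op a) :=
    RingedSpace.isUnit_res_basicOpen X.toRingedSpace a
  refine ⟨?_, ?_, ?_⟩
  · rintro ⟨_, n, rfl⟩
    rw [Module.End.isUnit_iff]
    obtain ⟨u, hu'⟩ := hua.pow n
    constructor
    · intro m₁ m₂ h
      have h' : u • m₁ = u • m₂ := by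
        rw [Units.smul_def, Units.smul_def, hu']
        change (X.presheaf.map (homOfLE (X.basicOpen_le a)).op (a ^ n)) • m₁ =
          (X.presheaf.map (homOfLE (X.basicOpen_le a)).op (a ^ n)) • m₂ at h
        rw [map_pow] at h
        exact h
      exact smul_left_cancel u h'
    · intro m
      refine ⟨(u⁻¹ : (Γ(X, X.basicOpen a))ˣ) • m, ?_⟩
      change (X.presheaf.map (homOfLE (X.basicOpen_le a)).op (a ^ n)) •
        ((u⁻¹ : (Γ(X, X.basicOpen a))ˣ) • m) = m
      rw [map_pow, ← hu', ← Units.smul_def, smul_inv_smul]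
  · intro y
    obtain ⟨n, x, hx⟩ := exists_smul_eq_res hU M a y
    refine ⟨⟨x, ⟨a ^ n, n, rfl⟩⟩, ?_⟩
    change (X.presheaf.map (homOfLE (X.basicOpen_le a)).op (a ^ n)) • y = _
    rw [map_pow]
    exact hx
  · intro m₁ m₂ h
    have h0 : M.presheaf.map (homOfLE (X.basicOpen_le a)).op (m₁ - m₂) = 0 := by
      rw [map_sub, sub_eq_zero]
      exact h
    obtain ⟨n, hn⟩ := exists_smul_eq_zero hU M a (m₁ - m₂) h0
    refine ⟨⟨a ^ n, n, rfl⟩, ?_⟩
    rw [smul_sub, sub_eq_zero] at hn
    exact hn

end Away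

end Groth.Agent.H8
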