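import Groth.Agent.H8.QCohLocal
import Groth.Agent.H8.QCohAffine

/-!
# A sectionwise criterion for quasi-coherence

A module `M` on a scheme `X` such that for every affine open `U` and `a ∈ Γ(X, U)` the restriction
`Γ(M, U) → Γ(M, D(a))` is a localisation at `a` (in elementwise form) is quasi-coherent.
-/

set_option autoImplicit false
set_option linter.style.haveILetI false
universe u
open CategoryTheory CategoryTheory.Limits AlgebraicGeometry TopologicalSpace Opposite

namespace Groth.Agent.H8

section SpecCase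

variable {R : CommRingCat.{u}} (N : (Spec R).Modules)

set_option backward.isDefEq.respectTransparency false in
theorem spec_isLocalizing_of
    (hex : ∀ (f : R) (y : Γ(N, PrimeSpectrum.basicOpen f)), ∃ (n : ℕ) (x : Γ(N, ⊤)),
      f ^ n • y = N.presheaf.map (homOfLE (le_top : PrimeSpectrum.basicOpen f ≤ ⊤)).op x)
    (hzero : ∀ (f : R) (x : Γ(N, ⊤)),
      N.presheaf.map (homOfLE (le_top : PrimeSpectrum.basicOpen f ≤ ⊤)).op x = 0 →
        ∃ n : ℕ, f ^ n • x = 0) :
    IsLocalizing (modulesSpecToSheaf.obj N) := by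
  intro f
  refine ⟨?_, ?_, ?_⟩
  · rintro ⟨_, n, rfl⟩
    have h1 := (N.isUnit_algebraMap_end_of_le_basicOpen (U := PrimeSpectrum.basicOpen f) f
      le_rfl).pow n
    rw [← map_pow] at h1
    exact h1
  · intro y
    obtain ⟨n, x, hx⟩ := hex f y
    exact ⟨⟨x, ⟨f ^ n, n, rfl⟩⟩, hx⟩
  · intro x₁ x₂ h
    have h' : N.presheaf.map (homOfLE (le_top : PrimeSpectrum.basicOpen f ≤ ⊤)).op x₁ =
        N.presheaf.map (homOfLE (le_top : PrimeSpectrum.basicOpen f ≤ ⊤)).op x₂ := h
    obtain ⟨n, hn⟩ := hzero f (x₁ - x₂) (by rw [map_sub, sub_eq_zero]; exact h')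
    refine ⟨⟨f ^ n, n, rfl⟩, ?_⟩
    rw [smul_sub, sub_eq_zero] at hn
    exact hn

end SpecCase

variable {X : Scheme.{u}} {U : X.Opens} (hU : IsAffineOpen U) (M : X.Modules)

set_option backward.isDefEq.respectTransparency false in
include hU in
/-- Sectionwise criterion for the restriction of `M` to `Spec Γ(X, U)` to be quasi-coherent. -/
theorem isQuasicoherent_restrict_fromSpec_of
    (hex : ∀ (a : Γ(X, U)) (y : Γ(M, X.basicOpen a)), ∃ (n : ℕ) (x : Γ(M, U)),
      (X.presheaf.map (homOfLE (X.basicOpen_le a)).op a) ^ n • y =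
        M.presheaf.map (homOfLE (X.basicOpen_le a)).op x)
    (hzero : ∀ (a : Γ(X, U)) (x : Γ(M, U)),
      M.presheaf.map (homOfLE (X.basicOpen_le a)).op x = 0 → ∃ n : ℕ, a ^ n • x = 0) :
    (M.restrict hU.fromSpec).IsQuasicoherent := by
  rw [isQuasicoherent_iff_isIso_fromTildeΓ, isIso_fromTildeΓ_iff_isLocalizing]
  have e1 : hU.fromSpec ''ᵁ ⊤ = U := fromSpec_image_top_eq hU
  apply spec_isLocalizing_of
  · intro a y
    have e2 : hU.fromSpec ''ᵁ (PrimeSpectrum.basicOpen a) = X.basicOpen a :=
      hU.fromSpec_image_basicOpen a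
    obtain ⟨n, x, hx⟩ := hex a (M.presheaf.map (eqToHom e2.symm).op y)
    refine ⟨n, M.presheaf.map (eqToHom e1).op x, ?_⟩
    have hinj : Function.Injective (M.presheaf.map (eqToHom e2.symm).op) :=
      ((ConcreteCategory.bijective_of_isIso (M.presheaf.map (eqToHom e2.symm).op))).injective
    refine (smul_restrict_eq hU M (PrimeSpectrum.basicOpen a) (a ^ n) y).trans ?_
    apply hinj
    dsimp only
    rw [M.map_smul]
    have hr : X.presheaf.map (eqToHom e2.symm).op
        (X.presheaf.map (homOfLE (fromSpec_image_le hU (PrimeSpectrum.basicOpen a))).op (a ^ n)) =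
        (X.presheaf.map (homOfLE (X.basicOpen_le a)).op a) ^ n := by
      rw [← map_pow, ← CommRingCat.comp_apply, ← Functor.map_comp]
      rfl
    have hm : M.presheaf.map (eqToHom e2.symm).op ((M.restrict hU.fromSpec).presheaf.map
        (homOfLE (le_top : PrimeSpectrum.basicOpen a ≤ ⊤)).op (M.presheaf.map (eqToHom e1).op x)) =
        M.presheaf.map (homOfLE (X.basicOpen_le a)).op x := by
      change (M.presheaf.map _ ≫ M.presheaf.map _ ≫ M.presheaf.map _) x = _
      rw [← Functor.map_comp, ← Functor.map_comp]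
      rfl
    rw [hr]
    exact hx.trans hm.symm
  · intro a x hx
    have e2 : hU.fromSpec ''ᵁ (PrimeSpectrum.basicOpen a) = X.basicOpen a :=
      hU.fromSpec_image_basicOpen a
    have hx₀ : M.presheaf.map (homOfLE (X.basicOpen_le a)).op
        (M.presheaf.map (eqToHom e1.symm).op x) = 0 := by
      have h1 : M.presheaf.map (homOfLE (X.basicOpen_le a)).op
          (M.presheaf.map (eqToHom e1.symm).op x) = M.presheaf.map (eqToHom e2.symm).op
          ((M.restrict hU.fromSpec).presheaf.map
            (homOfLE (le_top : PrimeSpectrum.basicOpen a ≤ ⊤)).op x) := by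
        change (M.presheaf.map _ ≫ M.presheaf.map _) x = (M.presheaf.map _ ≫ M.presheaf.map _) x
        rw [← Functor.map_comp, ← Functor.map_comp]
        rfl
      rw [h1, hx, map_zero]
    obtain ⟨n, hn⟩ := hzero a (M.presheaf.map (eqToHom e1.symm).op x) hx₀
    refine ⟨n, ?_⟩
    have hinj : Function.Injective (M.presheaf.map (eqToHom e1.symm).op) :=
      ((ConcreteCategory.bijective_of_isIso (M.presheaf.map (eqToHom e1.symm).op))).injective
    refine (smul_restrict_eq hU M ⊤ (a ^ n) x).trans ?_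
    apply hinj
    dsimp only
    rw [M.map_smul, map_zero]
    have hr : X.presheaf.map (eqToHom e1.symm).op
        (X.presheaf.map (homOfLE (fromSpec_image_le hU ⊤)).op (a ^ n)) = a ^ n := by
      rw [← CommRingCat.comp_apply, ← Functor.map_comp]
      have h2 : (homOfLE (fromSpec_image_le hU ⊤)).op ≫ (eqToHom e1.symm).op = 𝟙 (op U) := rfl
      rw [h2, X.presheaf.map_id]
      rfl
    rw [hr]
    exact hn

/-- Sectionwise criterion for quasi-coherence. -/
theorem isQuasicoherent_of_sections {X : Scheme.{u}} (M : X.Modules)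
    (hex : ∀ (U : X.Opens), IsAffineOpen U → ∀ (a : Γ(X, U)) (y : Γ(M, X.basicOpen a)),
      ∃ (n : ℕ) (x : Γ(M, U)), (X.presheaf.map (homOfLE (X.basicOpen_le a)).op a) ^ n • y =
        M.presheaf.map (homOfLE (X.basicOpen_le a)).op x)
    (hzero : ∀ (U : X.Opens), IsAffineOpen U → ∀ (a : Γ(X, U)) (x : Γ(M, U)),
      M.presheaf.map (homOfLE (X.basicOpen_le a)).op x = 0 → ∃ n : ℕ, a ^ n • x = 0) :
    M.IsQuasicoherent :=
  isQuasicoherent_of_forall_affine M (fun U hU =>
    isQuasicoherent_restrict_fromSpec_of hU M (hex U hU) (hzero U hU))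

end Groth.Agent.H8
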