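import Groth.Agent.H8.QCohAffine
import Mathlib.AlgebraicGeometry.Morphisms.QuasiSeparated

/-!
# The qcqs lemma for quasi-coherent modules

For a quasi-coherent module `M` on a scheme `X`, a quasi-compact quasi-separated open `W` and
`f ∈ Γ(X, W)`, the restriction `Γ(M, W) → Γ(M, D(f))` is the localisation at `f`.
-/

set_option autoImplicit false
set_option linter.style.haveILetI false
universe u
open CategoryTheory CategoryTheory.Limits AlgebraicGeometry TopologicalSpace Opposite

namespace Groth.Agent.H8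

variable {X : Scheme.{u}} (M : X.Modules)

lemma res_res {A B C : X.Opens} (h₁ : A ≤ B) (h₂ : B ≤ C) (s : Γ(M, C)) :
    M.presheaf.map (homOfLE h₁).op (M.presheaf.map (homOfLE h₂).op s) =
      M.presheaf.map (homOfLE (h₁.trans h₂)).op s := by
  rw [← ConcreteCategory.comp_apply, ← Functor.map_comp]
  rfl

lemma ringRes_res {A B C : X.Opens} (h₁ : A ≤ B) (h₂ : B ≤ C) (r : Γ(X, C)) :
    X.presheaf.map (homOfLE h₁).op (X.presheaf.map (homOfLE h₂).op r) =
      X.presheaf.map (homOfLE (h₁.trans h₂)).op r := by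
  rw [← CommRingCat.comp_apply, ← Functor.map_comp]
  rfl

lemma res_smul {A B : X.Opens} (h : A ≤ B) (r : Γ(X, B)) (s : Γ(M, B)) :
    M.presheaf.map (homOfLE h).op (r • s) =
      X.presheaf.map (homOfLE h).op r • M.presheaf.map (homOfLE h).op s :=
  M.map_smul (homOfLE h) r s

lemma basicOpen_res_le {W V : X.Opens} (h : V ≤ W) (f : Γ(X, W)) :
    X.basicOpen (X.presheaf.map (homOfLE h).op f) ≤ X.basicOpen f := by
  rw [X.basicOpen_res]
  exact inf_le_right

lemma mem_basicOpen_res {W V : X.Opens} (h : V ≤ W) (f : Γ(X, W)) (x : X) (hxV : x ∈ V)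
    (hxf : x ∈ X.basicOpen f) : x ∈ X.basicOpen (X.presheaf.map (homOfLE h).op f) := by
  rw [X.basicOpen_res]
  exact ⟨hxV, hxf⟩

/-- Equality of sections can be checked on an open cover (pointwise form). -/
lemma section_eq_of_cover {W : X.Opens} (s t : Γ(M, W))
    (h : ∀ x ∈ W, ∃ (V : X.Opens) (hVW : V ≤ W), x ∈ V ∧
      M.presheaf.map (homOfLE hVW).op s = M.presheaf.map (homOfLE hVW).op t) : s = t := by
  refine TopCat.Presheaf.section_ext ⟨M.presheaf, M.isSheaf⟩ W s t (fun x hxW => ?_)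
  obtain ⟨V, hVW, hxV, hV⟩ := h x hxW
  have h1 := TopCat.Presheaf.germ_res_apply M.presheaf (homOfLE hVW) x hxV s
  have h2 := TopCat.Presheaf.germ_res_apply M.presheaf (homOfLE hVW) x hxV t
  exact h1.symm.trans ((congrArg _ hV).trans h2)

variable [M.IsQuasicoherent]

/-- A section of a quasi-coherent module over a quasi-compact open `W` vanishing on `D(f)` is
killed by a power of `f`. -/
theorem exists_pow_smul_eq_zero_of_isCompact {W : X.Opens} (hW : IsCompact (W : Set X))
    (f : Γ(X, W)) (s : Γ(M, W))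
    (hs : M.presheaf.map (homOfLE (X.basicOpen_le f)).op s = 0) : ∃ n : ℕ, f ^ n • s = 0 := by
  obtain ⟨S, hSfin, hS⟩ :=
    (isCompact_and_isOpen_iff_finite_and_eq_biUnion_affineOpens (U := (W : Set X))).mp ⟨hW, W.2⟩
  have hle : ∀ V ∈ S, (V : X.Opens) ≤ W := fun V hV x hx => by
    change x ∈ (W : Set X)
    rw [hS]
    exact Set.mem_biUnion hV hx
  have h1 : ∀ V : S, ∃ n : ℕ, (X.presheaf.map (homOfLE (hle V.1 V.2)).op f) ^ n •
      M.presheaf.map (homOfLE (hle V.1 V.2)).op s = 0 := by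
    intro V
    refine exists_smul_eq_zero V.1.2 M _ _ ?_
    rw [res_res, ← res_res M (basicOpen_res_le (hle V.1 V.2) f) (X.basicOpen_le f), hs, map_zero]
  choose n hn using h1
  haveI := hSfin.to_subtype
  cases nonempty_fintype S
  refine ⟨Finset.univ.sup n, ?_⟩
  refine section_eq_of_cover M _ 0 (fun x hxW => ?_)
  obtain ⟨V, hVS, hxV⟩ : ∃ V ∈ S, x ∈ (V : X.Opens) := by
    have hx' : x ∈ (W : Set X) := hxW
    rw [hS] at hx'
    simpa using hx'
  refine ⟨V, hle V hVS, hxV, ?_⟩
  have hk : Finset.univ.sup n = (Finset.univ.sup n - n ⟨V, hVS⟩) + n ⟨V, hVS⟩ :=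
    (Nat.sub_add_cancel (Finset.le_sup (Finset.mem_univ _))).symm
  rw [map_zero, res_smul, map_pow, hk, pow_add, mul_smul]
  rw [hn ⟨V, hVS⟩, smul_zero]

/-- For a quasi-compact quasi-separated open `W`, every section of a quasi-coherent module over
`D(f)` becomes, after multiplication by a power of `f`, the restriction of a section over `W`. -/
theorem exists_smul_eq_res_of_qcqs {W : X.Opens} (hW : IsCompact (W : Set X))
    (hW' : IsQuasiSeparated (W : Set X)) (f : Γ(X, W)) (t : Γ(M, X.basicOpen f)) :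
    ∃ (n : ℕ) (s : Γ(M, W)), M.presheaf.map (homOfLE (X.basicOpen_le f)).op s =
      (X.presheaf.map (homOfLE (X.basicOpen_le f)).op f) ^ n • t := by
  obtain ⟨S, hSfin, hS⟩ :=
    (isCompact_and_isOpen_iff_finite_and_eq_biUnion_affineOpens (U := (W : Set X))).mp ⟨hW, W.2⟩
  have hle : ∀ V ∈ S, (V : X.Opens) ≤ W := fun V hV x hx => by
    change x ∈ (W : Set X)
    rw [hS]
    exact Set.mem_biUnion hV hx
  haveI := hSfin.to_subtype
  cases nonempty_fintype S
  -- Step 1: extend on each affine member of the cover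
  have h1 : ∀ V : S, ∃ (n : ℕ) (y : Γ(M, (V.1 : X.Opens))),
      (X.presheaf.map (homOfLE (X.basicOpen_le (X.presheaf.map (homOfLE (hle V.1 V.2)).op f))).op
        (X.presheaf.map (homOfLE (hle V.1 V.2)).op f)) ^ n •
        M.presheaf.map (homOfLE (basicOpen_res_le (hle V.1 V.2) f)).op t =
      M.presheaf.map
        (homOfLE (X.basicOpen_le (X.presheaf.map (homOfLE (hle V.1 V.2)).op f))).op y :=
    fun V => exists_smul_eq_res V.1.2 M _ _
  choose n y hy using h1
  -- uniform exponent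
  have h2 : ∀ V : S, ∃ y' : Γ(M, (V.1 : X.Opens)), ∀ (D' : X.Opens)
      (hD' : D' ≤ X.basicOpen (X.presheaf.map (homOfLE (hle V.1 V.2)).op f)),
      M.presheaf.map (homOfLE (hD'.trans (X.basicOpen_le _))).op y' =
        (X.presheaf.map (homOfLE ((hD'.trans (X.basicOpen_le _)).trans (hle V.1 V.2))).op f) ^
          (Finset.univ.sup n) •
        M.presheaf.map (homOfLE (hD'.trans (basicOpen_res_le (hle V.1 V.2) f))).op t := by
    intro V
    refine ⟨(X.presheaf.map (homOfLE (hle V.1 V.2)).op f) ^ (Finset.univ.sup n - n V) • y V,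
      fun D' hD' => ?_⟩
    have hk : Finset.univ.sup n = (Finset.univ.sup n - n V) + n V :=
      (Nat.sub_add_cancel (Finset.le_sup (Finset.mem_univ _))).symm
    rw [← res_res M hD' (X.basicOpen_le _), res_smul, ← hy V]
    simp only [res_smul, map_pow, ringRes_res, res_res, ← mul_smul, ← pow_add]
    rw [← hk]
  choose y' hy' using h2
  -- Step 2: on overlaps the difference is killed by a power of `f`
  have hcomp : ∀ V V' : S, IsCompact (((V.1 : X.Opens) ⊓ (V'.1 : X.Opens) : X.Opens) : Set X) :=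
    fun V V' => hW' _ _ (hle V.1 V.2) V.1.1.2 V.1.2.isCompact (hle V'.1 V'.2) V'.1.1.2
      V'.1.2.isCompact
  have h3 : ∀ V V' : S, ∃ m : ℕ,
      (X.presheaf.map (homOfLE ((inf_le_left : (V.1 : X.Opens) ⊓ (V'.1 : X.Opens) ≤ V.1).trans
        (hle V.1 V.2))).op f) ^ m •
      (M.presheaf.map (homOfLE (inf_le_left : (V.1 : X.Opens) ⊓ (V'.1 : X.Opens) ≤ V.1)).op (y' V) -
        M.presheaf.map (homOfLE (inf_le_right : (V.1 : X.Opens) ⊓ (V'.1 : X.Opens) ≤ V'.1)).op
          (y' V')) = 0 := by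
    intro V V'
    refine exists_pow_smul_eq_zero_of_isCompact M (hcomp V V') _ _ ?_
    have hD1 : X.basicOpen (X.presheaf.map (homOfLE
        ((inf_le_left : (V.1 : X.Opens) ⊓ (V'.1 : X.Opens) ≤ V.1).trans (hle V.1 V.2))).op f) ≤
        X.basicOpen (X.presheaf.map (homOfLE (hle V.1 V.2)).op f) := by
      rw [X.basicOpen_res, X.basicOpen_res]
      exact inf_le_inf_right _ inf_le_left
    have hD2 : X.basicOpen (X.presheaf.map (homOfLE
        ((inf_le_left : (V.1 : X.Opens) ⊓ (V'.1 : X.Opens) ≤ V.1).trans (hle V.1 V.2))).op f) ≤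
        X.basicOpen (X.presheaf.map (homOfLE (hle V'.1 V'.2)).op f) := by
      rw [X.basicOpen_res, X.basicOpen_res]
      exact inf_le_inf_right _ inf_le_right
    rw [map_sub, sub_eq_zero, res_res, res_res]
    exact (hy' V _ hD1).trans (hy' V' _ hD2).symm
  choose m hm using h3
  -- uniform exponent on overlaps
  set Mm := Finset.univ.sup (fun p : S × S => m p.1 p.2) with hMm
  -- Step 3: glue
  have hcompat : TopCat.Presheaf.IsCompatible M.presheaf (fun V : S => (V.1 : X.Opens))
      (fun V => (X.presheaf.map (homOfLE (hle V.1 V.2)).op f) ^ Mm • y' V) := by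
    intro V V'
    change M.presheaf.map (homOfLE (inf_le_left : (V.1 : X.Opens) ⊓ (V'.1 : X.Opens) ≤ V.1)).op _ =
      M.presheaf.map (homOfLE (inf_le_right : (V.1 : X.Opens) ⊓ (V'.1 : X.Opens) ≤ V'.1)).op _
    have hk : Mm = (Mm - m V V') + m V V' :=
      (Nat.sub_add_cancel (Finset.le_sup (f := fun p : S × S => m p.1 p.2)
        (Finset.mem_univ (V, V')))).symm
    rw [← sub_eq_zero, res_smul, res_smul, map_pow, map_pow, ringRes_res, ringRes_res, ← smul_sub,
      hk, pow_add, mul_smul]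
    rw [hm V V', smul_zero]
  have hcover : W ≤ iSup (fun V : S => (V.1 : X.Opens)) := by
    intro x hxW
    have hx' : x ∈ (W : Set X) := hxW
    rw [hS] at hx'
    obtain ⟨V, hVS, hxV⟩ : ∃ V ∈ S, x ∈ (V : X.Opens) := by simpa using hx'
    exact Opens.mem_iSup.mpr ⟨⟨V, hVS⟩, hxV⟩
  obtain ⟨s, hs, -⟩ := TopCat.Sheaf.existsUnique_gluing' (F := ⟨M.presheaf, M.isSheaf⟩)
    (fun V : S => (V.1 : X.Opens)) W (fun V => homOfLE (hle V.1 V.2)) hcover _ hcompat
  refine ⟨Mm + Finset.univ.sup n, s, ?_⟩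
  -- Step 4: check on the cover of `D(f)` by the `D(f|_V)`
  refine section_eq_of_cover M _ _ (fun x hxf => ?_)
  have hxW : x ∈ W := X.basicOpen_le f hxf
  obtain ⟨V, hVS, hxV⟩ : ∃ V ∈ S, x ∈ (V : X.Opens) := by
    have hx' : x ∈ (W : Set X) := hxW
    rw [hS] at hx'
    simpa using hx'
  refine ⟨X.basicOpen (X.presheaf.map (homOfLE (hle V hVS)).op f), basicOpen_res_le (hle V hVS) f,
    mem_basicOpen_res (hle V hVS) f x hxV hxf, ?_⟩
  have hsV : M.presheaf.map (homOfLE (hle V hVS)).op s =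
      (X.presheaf.map (homOfLE (hle V hVS)).op f) ^ Mm • y' ⟨V, hVS⟩ := hs ⟨V, hVS⟩
  rw [res_res, ← res_res M (X.basicOpen_le (X.presheaf.map (homOfLE (hle V hVS)).op f))
    (hle V hVS), hsV, res_smul, hy' ⟨V, hVS⟩ _ le_rfl]
  simp only [res_smul, map_pow, ringRes_res, res_res, ← mul_smul, ← pow_add]

end Groth.Agent.H8
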