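import Mathlib.AlgebraicGeometry.Modules.Sheaf
import Mathlib.Algebra.Homology.ShortComplex.Ab
import Mathlib.Algebra.Homology.ShortComplex.Exact
import Mathlib.CategoryTheory.Limits.FunctorCategory.Basic

/-!
# Left exactness of the sections functors on `O_X`-modules
-/

set_option autoImplicit false
set_option linter.style.haveILetI false
universe u
open CategoryTheory CategoryTheory.Limits AlgebraicGeometry TopologicalSpace Opposite

namespace Groth.Agent.H8

variable {X : Scheme.{u}}

/-- The functor of sections over `U`, with values in abelian groups. -/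
noncomputable def sectionsFunctor (U : X.Opens) : X.Modules ⥤ Ab.{u} :=
  Scheme.Modules.toPresheaf X ⋙ (evaluation (Opens X)ᵒᵖ Ab.{u}).obj (op U)

lemma sectionsFunctor_map {M N : X.Modules} (φ : M ⟶ N) (U : X.Opens) :
    (sectionsFunctor U).map φ = φ.app U := rfl

instance (U : X.Opens) : PreservesFiniteLimits (sectionsFunctor (X := X) U) := by
  haveI : PreservesFiniteLimits ((evaluation (Opens X)ᵒᵖ Ab.{u}).obj (op U)) :=
    PreservesLimits.preservesFiniteLimits _
  exact comp_preservesFiniteLimits (Scheme.Modules.toPresheaf X)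
    ((evaluation (Opens X)ᵒᵖ Ab.{u}).obj (op U))

instance (U : X.Opens) : (sectionsFunctor (X := X) U).PreservesZeroMorphisms := ⟨fun _ _ => rfl⟩

lemma app_injective_of_mono {M N : X.Modules} (φ : M ⟶ N) [Mono φ] (U : X.Opens) :
    Function.Injective (φ.app U) := by
  have : Mono ((sectionsFunctor U).map φ) := inferInstance
  exact (AddCommGrpCat.mono_iff_injective _).mp this

lemma exists_app_eq_of_exact (S : ShortComplex X.Modules) (hS : S.Exact) [Mono S.f]
    (U : X.Opens) (y : Γ(S.X₂, U)) (hy : S.g.app U y = 0) :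
    ∃ x : Γ(S.X₁, U), S.f.app U x = y := by
  have h := hS.map_of_mono_of_preservesKernel (sectionsFunctor U) inferInstance inferInstance
  exact (ShortComplex.ab_exact_iff _).mp h y hy

lemma app_comp_eq_zero (S : ShortComplex X.Modules) (U : X.Opens) (x : Γ(S.X₁, U)) :
    S.g.app U (S.f.app U x) = 0 := by
  have h0 : (S.f ≫ S.g).app U = 0 := by rw [S.zero]; rfl
  exact congr($h0 x)

/-- The action of a morphism of `O_X`-modules on sections over `U`, as a `Γ(X, U)`-linear map. -/
noncomputable def appₗ {M N : X.Modules} (φ : M ⟶ N) (U : X.Opens) :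
    Γ(M, U) →ₗ[Γ(X, U)] Γ(N, U) where
  toFun := φ.app U
  map_add' := map_add _
  map_smul' r x := Scheme.Modules.Hom.app_smul φ r x

@[simp] lemma appₗ_apply {M N : X.Modules} (φ : M ⟶ N) (U : X.Opens) (x : Γ(M, U)) :
    appₗ φ U x = φ.app U x := rfl

lemma appₗ_injective_of_mono {M N : X.Modules} (φ : M ⟶ N) [Mono φ] (U : X.Opens) :
    Function.Injective (appₗ φ U) := app_injective_of_mono φ U

lemma appₗ_exact (S : ShortComplex X.Modules) (hS : S.Exact) [Mono S.f] (U : X.Opens) :
    Function.Exact (appₗ S.f U) (appₗ S.g U) := by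
  intro y
  constructor
  · intro hy
    obtain ⟨x, hx⟩ := exists_app_eq_of_exact S hS U y hy
    exact ⟨x, hx⟩
  · rintro ⟨x, rfl⟩
    exact app_comp_eq_zero S U x

end Groth.Agent.H8
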