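import Groth.Agent.H8.QCohCriterion
import Groth.Agent.H8.QCohQcqs

/-!
# Direct images of quasi-coherent modules along quasi-compact quasi-separated morphisms
-/

set_option autoImplicit false
set_option linter.style.haveILetI false
universe u
open CategoryTheory CategoryTheory.Limits AlgebraicGeometry TopologicalSpace Opposite

namespace Groth.Agent.H8

variable {X Y : Scheme.{u}} (f : X ⟶ Y) (F : X.Modules)

/-- The module structure on the sections of a direct image. -/
lemma pushforward_smul (V : Y.Opens) (r : Γ(Y, V))
    (y : Γ((Scheme.Modules.pushforward f).obj F, V)) :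
    r • y = (show Γ((Scheme.Modules.pushforward f).obj F, V) from
      (f.app V r) • (show Γ(F, f ⁻¹ᵁ V) from y)) := rfl

/-- The direct image of a quasi-coherent module along a quasi-compact quasi-separated morphism is
quasi-coherent. -/
theorem isQuasicoherent_pushforward [QuasiCompact f] [QuasiSeparated f] [F.IsQuasicoherent] :
    ((Scheme.Modules.pushforward f).obj F).IsQuasicoherent := by
  apply isQuasicoherent_of_sections
  · intro V hV b y
    have hW : IsCompact ((f ⁻¹ᵁ V : X.Opens) : Set X) :=
      QuasiCompact.isCompact_preimage (f := f) V V.2 hV.isCompact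
    have hW' : IsQuasiSeparated ((f ⁻¹ᵁ V : X.Opens) : Set X) :=
      f.isQuasiSeparated_preimage hV.isQuasiSeparated
    have e : f ⁻¹ᵁ Y.basicOpen b = X.basicOpen (f.app V b) := Scheme.preimage_basicOpen f b
    obtain ⟨n, s, hs⟩ := exists_smul_eq_res_of_qcqs F hW hW' (f.app V b)
      (F.presheaf.map (eqToHom e.symm).op (show Γ(F, f ⁻¹ᵁ Y.basicOpen b) from y))
    refine ⟨n, (show Γ((Scheme.Modules.pushforward f).obj F, V) from s), ?_⟩
    have hinj : Function.Injective (F.presheaf.map (eqToHom e.symm).op) :=
      ((ConcreteCategory.bijective_of_isIso (F.presheaf.map (eqToHom e.symm).op))).injective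
    refine (pushforward_smul f F _ _ y).trans ?_
    apply hinj
    dsimp only
    rw [F.map_smul]
    have hbase : X.presheaf.map (eqToHom e.symm).op
        (f.app (Y.basicOpen b) (Y.presheaf.map (homOfLE (Y.basicOpen_le b)).op b)) =
        X.presheaf.map (homOfLE (X.basicOpen_le (f.app V b))).op (f.app V b) := by
      have nat := congr($(f.naturality (homOfLE (Y.basicOpen_le b)).op) b)
      rw [CommRingCat.comp_apply, CommRingCat.comp_apply] at nat
      rw [nat, ← CommRingCat.comp_apply, ← Functor.map_comp]
      rfl
    have hr : X.presheaf.map (eqToHom e.symm).op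
        (f.app (Y.basicOpen b) ((Y.presheaf.map (homOfLE (Y.basicOpen_le b)).op b) ^ n)) =
        (X.presheaf.map (homOfLE (X.basicOpen_le (f.app V b))).op (f.app V b)) ^ n := by
      rw [map_pow, map_pow, hbase]
    have hm : F.presheaf.map (eqToHom e.symm).op
        (((Scheme.Modules.pushforward f).obj F).presheaf.map (homOfLE (Y.basicOpen_le b)).op s) =
        F.presheaf.map (homOfLE (X.basicOpen_le (f.app V b))).op s := by
      change (F.presheaf.map _ ≫ F.presheaf.map _) s = _
      rw [← Functor.map_comp]
      rfl
    rw [hr]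
    exact hs.symm.trans hm.symm
  · intro V hV b x hx
    have hW : IsCompact ((f ⁻¹ᵁ V : X.Opens) : Set X) :=
      QuasiCompact.isCompact_preimage (f := f) V V.2 hV.isCompact
    have e : f ⁻¹ᵁ Y.basicOpen b = X.basicOpen (f.app V b) := Scheme.preimage_basicOpen f b
    have hx' : F.presheaf.map (homOfLE (X.basicOpen_le (f.app V b))).op
        (show Γ(F, f ⁻¹ᵁ V) from x) = 0 := by
      have h1 : F.presheaf.map (homOfLE (X.basicOpen_le (f.app V b))).op
          (show Γ(F, f ⁻¹ᵁ V) from x) = F.presheaf.map (eqToHom e.symm).op
          (((Scheme.Modules.pushforward f).obj F).presheaf.map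
            (homOfLE (Y.basicOpen_le b)).op x) := by
        change _ = (F.presheaf.map _ ≫ F.presheaf.map _) x
        rw [← Functor.map_comp]
        rfl
      rw [h1]
      have hx2 : (show Γ(F, f ⁻¹ᵁ Y.basicOpen b) from
          ((Scheme.Modules.pushforward f).obj F).presheaf.map
            (homOfLE (Y.basicOpen_le b)).op x) = 0 := hx
      exact (congrArg (F.presheaf.map (eqToHom e.symm).op) hx2).trans (map_zero _)
    obtain ⟨n, hn⟩ := exists_pow_smul_eq_zero_of_isCompact F hW (f.app V b) _ hx'
    refine ⟨n, ?_⟩
    refine (pushforward_smul f F V (b ^ n) x).trans ?_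
    dsimp only
    rw [map_pow]
    exact hn

end Groth.Agent.H8
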