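import Groth.Agent.H8.FinType
import Groth.Agent.H8.Coh
import Groth.Agent.H8.QCohLocal

/-!
# The structure sheaf is a coherent module (quasi-coherent of finite type)
-/

set_option autoImplicit false
set_option linter.style.haveILetI false
universe u
open CategoryTheory CategoryTheory.Limits AlgebraicGeometry TopologicalSpace Opposite

namespace Groth.Agent.H8

set_option backward.isDefEq.respectTransparency false in
/-- The structure sheaf is a quasi-coherent module. -/
lemma isQuasicoherent_structureModule' (X : Scheme.{u}) :
    (Coh.structureModule X).IsQuasicoherent := by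
  apply isQuasicoherent_of_forall_affine
  intro U hU
  have e : (Coh.structureModule X).restrict hU.fromSpec ≅
      SheafOfModules.unit (Spec Γ(X, U)).ringCatSheaf :=
    Scheme.Modules.restrictUnitIso hU.fromSpec
  have h1 : (tilde (ModuleCat.of Γ(X, U) Γ(X, U))).IsQuasicoherent := inferInstance
  exact (SheafOfModules.isQuasicoherent (Spec Γ(X, U)).ringCatSheaf).prop_of_iso
    (tildeSelf ≪≫ e.symm) h1

/-- The structure sheaf is quasi-coherent of finite type. -/
theorem isCoh_structureModule (X : Scheme.{u}) : Coh.IsCoh (Coh.structureModule X) := by
  haveI := isQuasicoherent_structureModule' X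
  refine ⟨inferInstance, ?_⟩
  apply isFiniteType_of_forall_affine_finite
  intro U
  exact (inferInstance : Module.Finite Γ(X, (U : X.Opens)) Γ(X, (U : X.Opens)))

end Groth.Agent.H8
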