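import Groth.Agent.S9496
import Groth.Agent.H22.QCohLimits
import Groth.Agent.H8.FinType
import Groth.Agent.H8.Coh
import Groth.Agent.H8.QCohLocal
import Groth.Agent.H8.SectionsExact

/-!
# Cokernels of quasi-coherent modules, quotients of finite type modules, kernels and cokernels of
coherent modules
-/

set_option autoImplicit false
set_option linter.style.haveILetI false
universe u
open CategoryTheory CategoryTheory.Limits AlgebraicGeometry TopologicalSpace Opposite
open AlgebraicGeometry.Scheme.Modules

namespace Groth.Agent.H8

variable {X : Scheme.{u}}

set_option backward.isDefEq.respectTransparency false in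
/-- The cokernel of a morphism of quasi-coherent modules is quasi-coherent. -/
theorem isQuasicoherent_cokernel {M N : X.Modules} [M.IsQuasicoherent] [N.IsQuasicoherent]
    (φ : M ⟶ N) : (cokernel φ).IsQuasicoherent := by
  apply isQuasicoherent_of_forall_affine
  intro U hU
  haveI : PreservesColimitsOfSize.{u, u} (restrictFunctor hU.fromSpec) := inferInstance
  let e : (restrictFunctor hU.fromSpec).obj (cokernel φ) ≅
      cokernel ((restrictFunctor hU.fromSpec).map φ) :=
    PreservesCokernel.iso (restrictFunctor hU.fromSpec) φ
  haveI : ((restrictFunctor hU.fromSpec).obj M).IsQuasicoherent :=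
    Scheme.Modules.isQuasicoherent_restrictFunctor hU.fromSpec M
  haveI : ((restrictFunctor hU.fromSpec).obj N).IsQuasicoherent :=
    Scheme.Modules.isQuasicoherent_restrictFunctor hU.fromSpec N
  have h := (Groth.Agent.S9496.aux ((restrictFunctor hU.fromSpec).map φ)).2
  exact (SheafOfModules.isQuasicoherent (Spec Γ(X, U)).ringCatSheaf).prop_of_iso e.symm h

section Generators

variable (M : X.Modules) {ι : Type u} (U : ι → X.Opens) (hU : IsOpenCover U)
  (G : ∀ i, (M.restrict (U i).ι).GeneratingSections)

set_option backward.isDefEq.respectTransparency false in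
/-- Local generators data from generating sections of the restrictions to an open cover. -/
noncomputable def localGeneratorsDataOfCover :
    SheafOfModules.LocalGeneratorsData.{u} (R := X.ringCatSheaf) M :=
  { I := ι
    X := U
    coversTop := (_root_.Opens.coversTop_iff _ U).mpr hU
    generators := fun i =>
      ((G i).map (Scheme.Modules.overEquiv (U i)).inverse
        ((U i).sheafOfModulesEquivOverInverseUnit X.ringCatSheaf).symm).ofEpi
        (((Scheme.Modules.overEquiv (U i)).inverse.mapIso
          ((Scheme.Modules.overFunctorEquiv (U i)).app M).symm ≪≫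
            ((Scheme.Modules.overEquiv (U i)).unitIso.app _).symm).hom) }

set_option backward.isDefEq.respectTransparency false in
include hU in
/-- Finitely many generating sections on the members of an open cover give finite type. -/
theorem isFiniteType_of_generators_cover (hG : ∀ i, (G i).IsFiniteType) :
    SheafOfModules.IsFiniteType (R := X.ringCatSheaf) M := by
  have h : (localGeneratorsDataOfCover M U hU G).IsFiniteType := by
    constructor
    intro i
    haveI := hG i
    constructor
    exact inferInstanceAs (Finite (G i).I)
  constructor
  exact Exists.intro (localGeneratorsDataOfCover M U hU G) h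

end Generators

set_option backward.isDefEq.respectTransparency false in
/-- A quotient of a module of finite type is of finite type. -/
theorem isFiniteType_of_epi {M Q : X.Modules} (p : M ⟶ Q) [Epi p]
    [SheafOfModules.IsFiniteType (R := X.ringCatSheaf) M] :
    SheafOfModules.IsFiniteType (R := X.ringCatSheaf) Q := by
  obtain ⟨ι, U, hG, hU, -⟩ := exists_isOpenCover_generatingSections M
  choose G hG using hG
  have hepi : ∀ i, Epi ((restrictFunctor (U i).ι).map p) := fun i => inferInstance
  refine isFiniteType_of_generators_cover Q U hU
    (fun i => haveI := hepi i; (G i).ofEpi ((restrictFunctor (U i).ι).map p)) (fun i => ?_)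
  haveI := hG i
  haveI := hepi i
  infer_instance

/-- Kernels of morphisms of coherent modules on a locally Noetherian scheme are coherent. -/
theorem isCoh_kernel [IsLocallyNoetherian X] {F G : X.Modules} (hF : Coh.IsCoh F)
    (hG : Coh.IsCoh G) (φ : F ⟶ G) : Coh.IsCoh (kernel φ) := by
  haveI : F.IsQuasicoherent := hF.1
  haveI : G.IsQuasicoherent := hG.1
  haveI hq : (kernel φ).IsQuasicoherent := Groth.Agent.H22.QCohLimits.isQuasicoherent_kernel φ
  refine ⟨hq, ?_⟩
  apply isFiniteType_of_forall_affine_finite
  intro U
  haveI : IsNoetherianRing Γ(X, (U : X.Opens)) := IsLocallyNoetherian.component_noetherian U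
  haveI : Module.Finite Γ(X, (U : X.Opens)) Γ(F, (U : X.Opens)) :=
    finite_sections_of_isCoh F hF U.2
  haveI : IsNoetherian Γ(X, (U : X.Opens)) Γ(F, (U : X.Opens)) :=
    isNoetherian_of_isNoetherianRing_of_finite _ _
  exact Module.Finite.of_injective (appₗ (kernel.ι φ) (U : X.Opens))
    (appₗ_injective_of_mono (kernel.ι φ) (U : X.Opens))

/-- Cokernels of morphisms of coherent modules are coherent. -/
theorem isCoh_cokernel {F G : X.Modules} (hF : Coh.IsCoh F) (hG : Coh.IsCoh G) (φ : F ⟶ G) :
    Coh.IsCoh (cokernel φ) := by
  haveI : F.IsQuasicoherent := hF.1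
  haveI : G.IsQuasicoherent := hG.1
  haveI : SheafOfModules.IsFiniteType (R := X.ringCatSheaf) G := hG.2
  exact ⟨isQuasicoherent_cokernel φ, isFiniteType_of_epi (cokernel.π φ)⟩

end Groth.Agent.H8
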