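import Groth.Agent.H8.FinType
import Groth.Prelude.Def_FlatMod2

/-!
# Finite free `O_X`-modules `FlatMod.freeMod X n`

* `restrictFreeIso`: restriction of `O_X^n` along an open immersion is `O_Y^n`.
* `restrictRestrictIso`, `nonempty_restrict_iso_freeMod_of_le`: shrinking the open.
* `sectionsFreeEquiv`: `Γ(O_X^n, V) ≃ₗ (Fin n → Γ(X, V))`.
-/

set_option autoImplicit false
set_option linter.style.haveILetI false
universe u
open CategoryTheory CategoryTheory.Limits AlgebraicGeometry TopologicalSpace Opposite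
open AlgebraicGeometry.Scheme.Modules

namespace Groth.Agent.H8

section Restrict

/-- Restriction of `O_X^n` along an open immersion is `O_Y^n`. -/
noncomputable def restrictFreeIso {X Y : Scheme.{u}} (f : Y ⟶ X) [IsOpenImmersion f] (n : ℕ) :
    (FlatMod.freeMod X n).restrict f ≅ FlatMod.freeMod Y n :=
  PreservesCoproduct.iso (restrictFunctor f) (fun _ : Fin n => Coh.structureModule X) ≪≫
    Sigma.mapIso (fun _ => restrictUnitIso f)

/-- Restricting in two steps. -/
noncomputable def restrictRestrictIso {X : Scheme.{u}} (F : X.Modules) {U V : X.Opens}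
    (h : V ≤ U) : (F.restrict U.ι).restrict (X.homOfLE h) ≅ F.restrict V.ι :=
  ((restrictFunctorComp (X.homOfLE h) U.ι).symm ≪≫
    restrictFunctorCongr (X.homOfLE_ι h)).app F

/-- If `F |_ U` is free of rank `n` and `V ≤ U`, then `F |_ V` is free of rank `n`. -/
lemma nonempty_restrict_iso_freeMod_of_le {X : Scheme.{u}} (F : X.Modules) {U V : X.Opens}
    (h : V ≤ U) (n : ℕ) (e : F.restrict U.ι ≅ FlatMod.freeMod (↑U) n) :
    Nonempty (F.restrict V.ι ≅ FlatMod.freeMod (↑V) n) :=
  ⟨(restrictRestrictIso F h).symm ≪≫ (restrictFunctor (X.homOfLE h)).mapIso e ≪≫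
    restrictFreeIso (X.homOfLE h) n⟩

end Restrict

section Sections

variable (X : Scheme.{u}) (n : ℕ)

/-- The inclusion of the `i`-th factor of `O_X^n`. -/
noncomputable def freeι (i : Fin n) : Coh.structureModule X ⟶ FlatMod.freeMod X n :=
  Sigma.ι (fun _ : Fin n => Coh.structureModule X) i

/-- The projection to the `i`-th factor of `O_X^n`. -/
noncomputable def freeπ (i : Fin n) : FlatMod.freeMod X n ⟶ Coh.structureModule X :=
  Sigma.desc (fun j : Fin n => if j = i then 𝟙 _ else 0)

lemma freeι_π (i j : Fin n) :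
    freeι X n i ≫ freeπ X n j = if i = j then 𝟙 _ else 0 := by
  simp [freeι, freeπ]

lemma sum_freeπ_ι : ∑ i, freeπ X n i ≫ freeι X n i = 𝟙 (FlatMod.freeMod X n) := by
  apply Sigma.hom_ext
  intro j
  rw [Preadditive.comp_sum, Category.comp_id, Finset.sum_eq_single j]
  · change freeι X n j ≫ freeπ X n j ≫ freeι X n j = freeι X n j
    rw [← Category.assoc, freeι_π, if_pos rfl, Category.id_comp]
  · intro b _ hb
    change freeι X n j ≫ freeπ X n b ≫ freeι X n b = 0
    rw [← Category.assoc, freeι_π, if_neg (Ne.symm hb), zero_comp]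
  · intro h
    exact absurd (Finset.mem_univ j) h

variable {X}

/-- `φ ↦ φ.app V` as an additive map. -/
noncomputable def appAddHom {M N : X.Modules} (V : X.Opens) :
    (M ⟶ N) →+ (Γ(M, V) →+ Γ(N, V)) where
  toFun φ := (φ.app V).hom
  map_zero' := rfl
  map_add' _ _ := rfl

lemma app_sum {M N : X.Modules} {ι : Type*} (s : Finset ι) (φ : ι → (M ⟶ N)) (V : X.Opens)
    (x : Γ(M, V)) : (∑ i ∈ s, φ i).app V x = ∑ i ∈ s, (φ i).app V x := by
  have h := map_sum (appAddHom (M := M) (N := N) V) φ s
  have h2 := congrArg (fun g : Γ(M, V) →+ Γ(N, V) => g x) h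
  simp only [AddMonoidHom.finsetSum_apply] at h2
  exact h2

variable (X)

/-- Sections of `O_X^n` over `V` are `Γ(X, V)^n`. -/
noncomputable def sectionsFreeEquiv (V : X.Opens) :
    Γ(FlatMod.freeMod X n, V) ≃ₗ[Γ(X, V)] (Fin n → Γ(X, V)) where
  toFun x i := (freeπ X n i).app V x
  map_add' x y := by
    ext i
    exact map_add _ x y
  map_smul' r x := by
    ext i
    exact Scheme.Modules.Hom.app_smul _ r x
  invFun a := ∑ i, (freeι X n i).app V (show Γ(Coh.structureModule X, V) from a i)
  left_inv x := by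
    change ∑ i, (freeι X n i).app V ((freeπ X n i).app V x) = x
    have h := congrArg (fun φ : FlatMod.freeMod X n ⟶ FlatMod.freeMod X n => φ.app V x)
      (sum_freeπ_ι X n)
    simp only [app_sum] at h
    exact h
  right_inv a := by
    ext j
    change (freeπ X n j).app V (∑ i, (freeι X n i).app V
      (show Γ(Coh.structureModule X, V) from a i)) = a j
    rw [map_sum, Finset.sum_eq_single j]
    · have h := congrArg (fun φ : Coh.structureModule X ⟶ Coh.structureModule X =>
        φ.app V (show Γ(Coh.structureModule X, V) from a j)) (freeι_π X n j j)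
      rw [if_pos rfl] at h
      exact h
    · intro b _ hb
      have h := congrArg (fun φ : Coh.structureModule X ⟶ Coh.structureModule X =>
        φ.app V (show Γ(Coh.structureModule X, V) from a b)) (freeι_π X n b j)
      rw [if_neg hb] at h
      exact h
    · intro h
      exact absurd (Finset.mem_univ j) h

end Sections

section SpecCase

/-- Mathlib's free module on `ULift (Fin n)` is `O_X^n`. -/
noncomputable def freeIsoFreeMod (X : Scheme.{u}) (n : ℕ) :
    SheafOfModules.free.{u} (R := X.ringCatSheaf) (ULift.{u} (Fin n)) ≅ FlatMod.freeMod X n :=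
  Sigma.whiskerEquiv (f := fun _ : ULift.{u} (Fin n) => SheafOfModules.unit X.ringCatSheaf)
    (g := fun _ : Fin n => Coh.structureModule X) Equiv.ulift (fun _ => Iso.refl _)

variable {R : CommRingCat.{u}} (N : (Spec R).Modules) [N.IsQuasicoherent]

set_option backward.isDefEq.respectTransparency false in
/-- A quasi-coherent module on `Spec R` whose global sections are free of rank `n` is `O^n`. -/
noncomputable def isoFreeModOfSpec (n : ℕ)
    (e : ((modulesSpecToSheaf.obj N).presheaf.obj (.op ⊤)) ≃ₗ[R] (Fin n → R)) :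
    N ≅ FlatMod.freeMod (Spec R) n := by
  let Γ : ModuleCat.{u} R := (modulesSpecToSheaf.obj N).presheaf.obj (op ⊤)
  haveI : IsIso N.fromTildeΓ := Scheme.Modules.isIso_fromTildeΓ_of_isQuasicoherent N
  let e1 : Γ ≃ₗ[R] (ULift.{u} (Fin n) →₀ R) :=
    e ≪≫ₗ (Finsupp.linearEquivFunOnFinite R R (Fin n)).symm ≪≫ₗ
      Finsupp.domLCongr Equiv.ulift.symm
  exact (asIso N.fromTildeΓ).symm ≪≫ (tilde.functor R).mapIso e1.toModuleIso ≪≫
    tildeFinsupp (ULift.{u} (Fin n)) ≪≫ freeIsoFreeMod (Spec R) n

end SpecCase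

section AffineOpen

variable {X : Scheme.{u}} {U : X.Opens} (hU : IsAffineOpen U) (F : X.Modules) [F.IsQuasicoherent]

set_option backward.isDefEq.respectTransparency false in
include hU in
/-- A quasi-coherent module whose sections over an affine open `U` are free of rank `n` restricts
to `O_U^n` on `U`. -/
theorem nonempty_restrict_iso_freeMod (n : ℕ)
    (e : Γ(F, U) ≃ₗ[Γ(X, U)] (Fin n → Γ(X, U))) :
    Nonempty (F.restrict U.ι ≅ FlatMod.freeMod (↑U) n) := by
  haveI : (F.restrict hU.fromSpec).IsQuasicoherent :=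
    Scheme.Modules.isQuasicoherent_restrictFunctor hU.fromSpec F
  let e0 := isoFreeModOfSpec (F.restrict hU.fromSpec) n ((sectionsRestrictEquiv hU F).trans e)
  let iso : restrictFunctor hU.fromSpec ⋙ restrictFunctor hU.isoSpec.hom ≅ restrictFunctor U.ι :=
    (restrictFunctorComp _ _).symm ≪≫ restrictFunctorCongr
      (by rw [← hU.isoSpec_inv_ι, Iso.hom_inv_id_assoc])
  exact ⟨(iso.app F).symm ≪≫ (restrictFunctor hU.isoSpec.hom).mapIso e0 ≪≫
    restrictFreeIso hU.isoSpec.hom n⟩

end AffineOpen

section SectionsOfFree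

variable {X : Scheme.{u}} {U : X.Opens} (F : X.Modules) {n : ℕ}
  (e : F.restrict U.ι ≅ FlatMod.freeMod (↑U) n)

lemma smul_restrict_ι (W : U.toScheme.Opens) (r : Γ(X, U.ι ''ᵁ W)) (x : Γ(F, U.ι ''ᵁ W)) :
    (show Γ(↑U, W) from r) • (show Γ(F.restrict U.ι, W) from x) = r • x := by
  have h : (show Γ(↑U, W) from r) • (show Γ(F.restrict U.ι, W) from x) =
      ((U.ι.appIso W).inv (show Γ(↑U, W) from r)) • x := rfl
  rw [h, Scheme.Opens.ι_appIso]
  rfl

/-- If `F |_ U ≅ O_U^n`, the sections of `F` over an open of `U` are free of rank `n`. -/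
noncomputable def sectionsEquivOfRestrictIso (W : U.toScheme.Opens) :
    Γ(F, U.ι ''ᵁ W) ≃ₗ[Γ(X, U.ι ''ᵁ W)] (Fin n → Γ(X, U.ι ''ᵁ W)) where
  toFun x := sectionsFreeEquiv (↑U) n W (e.hom.app W (show Γ(F.restrict U.ι, W) from x))
  map_add' x y := by
    change sectionsFreeEquiv (↑U) n W (e.hom.app W _) = _
    rw [show (show Γ(F.restrict U.ι, W) from x + y) =
      (show Γ(F.restrict U.ι, W) from x) + (show Γ(F.restrict U.ι, W) from y) from rfl,
      _root_.map_add, _root_.map_add]
    rfl
  map_smul' r x := by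
    change sectionsFreeEquiv (↑U) n W (e.hom.app W _) = _
    rw [← smul_restrict_ι F W r x, Scheme.Modules.Hom.app_smul]
    exact (sectionsFreeEquiv (↑U) n W).map_smul _ _
  invFun a := (inv e.hom).app W ((sectionsFreeEquiv (↑U) n W).symm a)
  left_inv x := by
    change (inv e.hom).app W ((sectionsFreeEquiv (↑U) n W).symm
      (sectionsFreeEquiv (↑U) n W (e.hom.app W _))) = x
    rw [LinearEquiv.symm_apply_apply, ← ConcreteCategory.comp_apply, ← Scheme.Modules.Hom.comp_app,
      IsIso.hom_inv_id]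
    rfl
  right_inv a := by
    change sectionsFreeEquiv (↑U) n W (e.hom.app W ((inv e.hom).app W _)) = a
    rw [← ConcreteCategory.comp_apply, ← Scheme.Modules.Hom.comp_app, IsIso.inv_hom_id]
    exact (sectionsFreeEquiv (↑U) n W).apply_symm_apply a

include e in
lemma nonempty_sections_equiv_of_le {V : X.Opens} (h : V ≤ U) :
    Nonempty (Γ(F, V) ≃ₗ[Γ(X, V)] (Fin n → Γ(X, V))) := by
  obtain ⟨W, rfl⟩ : ∃ W : U.toScheme.Opens, V = U.ι ''ᵁ W :=
    ⟨U.ι ⁻¹ᵁ V, by
      rw [Scheme.Hom.image_preimage_eq_opensRange_inf, Scheme.Opens.opensRange_ι]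
      exact (inf_eq_right.mpr h).symm⟩
  exact ⟨sectionsEquivOfRestrictIso F e W⟩

end SectionsOfFree

end Groth.Agent.H8
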