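import Groth.Agent.H8.QCohPush
import Groth.Agent.H8.QCohLocal

/-!
# Local versions of the quasi-coherence criteria

* `pushforward_hex`, `pushforward_hzero`: the sectionwise localisation properties of a direct image
  `f_* F` over an open `V` such that `f⁻¹ V` is quasi-compact (and quasi-separated).
* `isQuasicoherent_of_sections_cover`: the sectionwise criterion for quasi-coherence, checked only
  on the members of an affine open cover.
-/

set_option autoImplicit false
set_option linter.style.haveILetI false
universe u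
open CategoryTheory CategoryTheory.Limits AlgebraicGeometry TopologicalSpace Opposite

namespace Groth.Agent.H8

section Push

variable {X Y : Scheme.{u}} (f : X ⟶ Y) (F : X.Modules) [F.IsQuasicoherent]

theorem pushforward_hex (V : Y.Opens) (hW : IsCompact ((f ⁻¹ᵁ V : X.Opens) : Set X))
    (hW' : IsQuasiSeparated ((f ⁻¹ᵁ V : X.Opens) : Set X)) (b : Γ(Y, V))
    (y : Γ((Scheme.Modules.pushforward f).obj F, Y.basicOpen b)) :
    ∃ (n : ℕ) (x : Γ((Scheme.Modules.pushforward f).obj F, V)),
      (Y.presheaf.map (homOfLE (Y.basicOpen_le b)).op b) ^ n • y =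
        ((Scheme.Modules.pushforward f).obj F).presheaf.map (homOfLE (Y.basicOpen_le b)).op x := by
  have e : f ⁻¹ᵁ Y.basicOpen b = X.basicOpen (f.app V b) := Scheme.preimage_basicOpen f b
  obtain ⟨n, s, hs⟩ := exists_smul_eq_res_of_qcqs F hW hW' (f.app V b)
    (F.presheaf.map (eqToHom e.symm).op (show Γ(F, f ⁻¹ᵁ Y.basicOpen b) from y))
  refine ⟨n, (show Γ((Scheme.Modules.pushforward f).obj F, V) from s), ?_⟩
  have hinj : Function.Injective (F.presheaf.map (eqToHom e.symm).op) :=
    ((ConcreteCategory.bijective_of_isIso (F.presheaf.map (eqToHom e.symm).op))).injective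
  refine (pushforward_smul f F _ _ y).trans ?_
  apply hinj
  dsimp only
  rw [F.map_smul]
  have hbase : X.presheaf.map (eqToHom e.symm).op
      (f.app (Y.basicOpen b) (Y.presheaf.map (homOfLE (Y.basicOpen_le b)).op b)) =
      X.presheaf.map (homOfLE (X.basicOpen_le (f.app V b))).op (f.app V b) := by
    have nat := congr($(f.naturality (homOfLE (Y.basicOpen_le b)).op) b)
    rw [CommRingCat.comp_apply, CommRingCat.comp_apply] at nat
    rw [nat, ← CommRingCat.comp_apply, ← Functor.map_comp]
    rfl
  have hr : X.presheaf.map (eqToHom e.symm).op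
      (f.app (Y.basicOpen b) ((Y.presheaf.map (homOfLE (Y.basicOpen_le b)).op b) ^ n)) =
      (X.presheaf.map (homOfLE (X.basicOpen_le (f.app V b))).op (f.app V b)) ^ n := by
    rw [map_pow, map_pow, hbase]
  have hm : F.presheaf.map (eqToHom e.symm).op
      (((Scheme.Modules.pushforward f).obj F).presheaf.map (homOfLE (Y.basicOpen_le b)).op s) =
      F.presheaf.map (homOfLE (X.basicOpen_le (f.app V b))).op s := by
    change (F.presheaf.map _ ≫ F.presheaf.map _) s = _
    rw [← Functor.map_comp]
    rfl
  rw [hr]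
  exact hs.symm.trans hm.symm

theorem pushforward_hzero (V : Y.Opens) (hW : IsCompact ((f ⁻¹ᵁ V : X.Opens) : Set X))
    (b : Γ(Y, V)) (x : Γ((Scheme.Modules.pushforward f).obj F, V))
    (hx : ((Scheme.Modules.pushforward f).obj F).presheaf.map
      (homOfLE (Y.basicOpen_le b)).op x = 0) : ∃ n : ℕ, b ^ n • x = 0 := by
  have e : f ⁻¹ᵁ Y.basicOpen b = X.basicOpen (f.app V b) := Scheme.preimage_basicOpen f b
  have hx' : F.presheaf.map (homOfLE (X.basicOpen_le (f.app V b))).op
      (show Γ(F, f ⁻¹ᵁ V) from x) = 0 := by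
    have h1 : F.presheaf.map (homOfLE (X.basicOpen_le (f.app V b))).op
        (show Γ(F, f ⁻¹ᵁ V) from x) = F.presheaf.map (eqToHom e.symm).op
        (((Scheme.Modules.pushforward f).obj F).presheaf.map
          (homOfLE (Y.basicOpen_le b)).op x) := by
      change _ = (F.presheaf.map _ ≫ F.presheaf.map _) x
      rw [← Functor.map_comp]
      rfl
    rw [h1]
    have hx2 : (show Γ(F, f ⁻¹ᵁ Y.basicOpen b) from
        ((Scheme.Modules.pushforward f).obj F).presheaf.map
          (homOfLE (Y.basicOpen_le b)).op x) = 0 := hx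
    exact (congrArg (F.presheaf.map (eqToHom e.symm).op) hx2).trans (map_zero _)
  obtain ⟨n, hn⟩ := exists_pow_smul_eq_zero_of_isCompact F hW (f.app V b) _ hx'
  refine ⟨n, ?_⟩
  refine (pushforward_smul f F V (b ^ n) x).trans ?_
  dsimp only
  rw [map_pow]
  exact hn

end Push

/-- Sectionwise criterion for quasi-coherence, on the members of an affine open cover. -/
theorem isQuasicoherent_of_sections_cover {X : Scheme.{u}} (M : X.Modules) {ι : Type u}
    (U : ι → X.Opens) (hU : IsOpenCover U) (hU' : ∀ i, IsAffineOpen (U i))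
    (hex : ∀ i (a : Γ(X, U i)) (y : Γ(M, X.basicOpen a)),
      ∃ (n : ℕ) (x : Γ(M, U i)), (X.presheaf.map (homOfLE (X.basicOpen_le a)).op a) ^ n • y =
        M.presheaf.map (homOfLE (X.basicOpen_le a)).op x)
    (hzero : ∀ i (a : Γ(X, U i)) (x : Γ(M, U i)),
      M.presheaf.map (homOfLE (X.basicOpen_le a)).op x = 0 → ∃ n : ℕ, a ^ n • x = 0) :
    M.IsQuasicoherent := by
  have hP : ∀ i, Nonempty (M.restrict (U i).ι).Presentation := fun i => by
    haveI := isQuasicoherent_restrict_fromSpec_of (hU' i) M (hex i) (hzero i)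
    exact nonempty_presentation_restrict_ι (hU' i) M
  exact isQuasicoherent_of_presentation_cover M U hU (fun i => (hP i).some)

end Groth.Agent.H8
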