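import Groth.Agent.H8.QCohAffine
import Groth.Agent.H8.QCohQcqs
import Groth.Agent.H8.SectionsExact
import Mathlib.Algebra.Category.ModuleCat.Presheaf.Sheafification

/-!
# A morphism of quasi-coherent modules which is bijective on the sections over the members of an
affine open cover is an isomorphism
-/

set_option autoImplicit false
set_option linter.style.haveILetI false
universe u
open CategoryTheory CategoryTheory.Limits AlgebraicGeometry TopologicalSpace Opposite

namespace Groth.Agent.H8

variable {X : Scheme.{u}}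

/-- Morphisms of modules commute with restriction of sections. -/
lemma app_res {M N : X.Modules} (φ : M ⟶ N) {V W : X.Opens} (h : V ≤ W) (x : Γ(M, W)) :
    φ.app V (M.presheaf.map (homOfLE h).op x) = N.presheaf.map (homOfLE h).op (φ.app W x) :=
  congr($(φ.mapPresheaf.naturality (homOfLE h).op) x)

section BasicOpen

variable {A B : X.Modules} [A.IsQuasicoherent] [B.IsQuasicoherent] (φ : A ⟶ B) {U : X.Opens}
  (hU : IsAffineOpen U)

include hU in
theorem app_basicOpen_surjective (h : Function.Surjective (φ.app U)) (a : Γ(X, U)) :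
    Function.Surjective (φ.app (X.basicOpen a)) := by
  intro y
  obtain ⟨n, x, hx⟩ := exists_smul_eq_res hU B a y
  obtain ⟨x', rfl⟩ := h x
  have hua : IsUnit (X.presheaf.map (homOfLE (X.basicOpen_le a)).op a) :=
    RingedSpace.isUnit_res_basicOpen X.toRingedSpace a
  obtain ⟨u, hu⟩ := (hua.pow n).exists_left_inv
  refine ⟨u • A.presheaf.map (homOfLE (X.basicOpen_le a)).op x', ?_⟩
  rw [Scheme.Modules.Hom.app_smul, app_res, ← hx, ← mul_smul, hu, one_smul]

include hU in
theorem app_basicOpen_injective (h : Function.Injective (φ.app U)) (a : Γ(X, U)) :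
    Function.Injective (φ.app (X.basicOpen a)) := by
  have hua : IsUnit (X.presheaf.map (homOfLE (X.basicOpen_le a)).op a) :=
    RingedSpace.isUnit_res_basicOpen X.toRingedSpace a
  have key : ∀ z : Γ(A, X.basicOpen a), φ.app (X.basicOpen a) z = 0 → z = 0 := by
    intro z hz
    obtain ⟨n, x', hx'⟩ := exists_smul_eq_res hU A a z
    have h1 : B.presheaf.map (homOfLE (X.basicOpen_le a)).op (φ.app U x') = 0 := by
      rw [← app_res, ← hx', Scheme.Modules.Hom.app_smul, hz, smul_zero]
    obtain ⟨m, hm⟩ := exists_smul_eq_zero hU B a (φ.app U x') h1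
    have h2 : a ^ m • x' = 0 := by
      apply h
      rw [Scheme.Modules.Hom.app_smul, hm, map_zero]
    have h3 : (X.presheaf.map (homOfLE (X.basicOpen_le a)).op a) ^ m •
        A.presheaf.map (homOfLE (X.basicOpen_le a)).op x' = 0 := by
      rw [← map_pow, ← res_smul, h2, map_zero]
    rw [← hx', ← mul_smul, ← pow_add] at h3
    exact (hua.pow (m + n)).smul_eq_zero.mp h3
  intro z₁ z₂ h12
  have : z₁ - z₂ = 0 := key _ (by rw [map_sub, h12, sub_self])
  exact sub_eq_zero.mp this

end BasicOpen

/-- The basic opens of the members of an affine open cover form a basis. -/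
theorem isBasis_basicOpen_of_affine_cover {ι : Type*} (U : ι → X.Opens) (hU : IsOpenCover U)
    (hU' : ∀ i, IsAffineOpen (U i)) :
    Opens.IsBasis (Set.range (fun p : Σ i, Γ(X, U i) => X.basicOpen p.2)) := by
  rw [Opens.isBasis_iff_nbhd]
  intro W x hxW
  obtain ⟨i, hxi⟩ : ∃ i, x ∈ U i := by
    have : x ∈ (⨆ i, U i : X.Opens) := by rw [hU.iSup_eq_top]; trivial
    exact Opens.mem_iSup.mp this
  obtain ⟨f, hf, hxf⟩ := (hU' i).exists_basicOpen_le ⟨x, hxW⟩ hxi
  exact ⟨_, ⟨⟨i, f⟩, rfl⟩, hxf, hf⟩

/-- A morphism of quasi-coherent modules which is bijective on sections over the members of an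
affine open cover is an isomorphism. -/
theorem isIso_of_bijective_affine_cover {A B : X.Modules} [A.IsQuasicoherent]
    [B.IsQuasicoherent] (φ : A ⟶ B) {ι : Type*} (U : ι → X.Opens) (hU : IsOpenCover U)
    (hU' : ∀ i, IsAffineOpen (U i)) (h : ∀ i, Function.Bijective (φ.app (U i))) : IsIso φ := by
  haveI : IsIso ((SheafOfModules.toSheaf.{u} X.ringCatSheaf).map φ) := by
    refine TopCat.Sheaf.isIso_iff_isIso_basis (X := X.toTopCat)
      (B := fun p : Σ i, Γ(X, U i) => X.basicOpen p.2)
      (isBasis_basicOpen_of_affine_cover U hU hU') (fun p => ?_)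
    have hb : Function.Bijective (φ.app (X.basicOpen p.2)) :=
      ⟨app_basicOpen_injective φ (hU' p.1) (h p.1).1 p.2,
        app_basicOpen_surjective φ (hU' p.1) (h p.1).2 p.2⟩
    exact (ConcreteCategory.isIso_iff_bijective _).mpr hb
  have key : ∀ {A' B' : SheafOfModules.{u} X.ringCatSheaf} (ψ : A' ⟶ B'),
      IsIso ((SheafOfModules.toSheaf.{u} X.ringCatSheaf).map ψ) → IsIso ψ :=
    fun ψ _ => isIso_of_reflects_iso ψ (SheafOfModules.toSheaf.{u} X.ringCatSheaf)
  exact key φ this

end Groth.Agent.H8
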