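import Groth.Agent.H8.UnitIso
import Groth.Prelude.Def_ParaF

/-!
# Restriction of invertible modules along open immersions (`ParaF.InvRestrictEquiv`)

Closure properties of `ParaF.InvRestrictEquiv`: composition, cancellation, isomorphisms.
-/

set_option autoImplicit false
set_option linter.style.haveILetI false
universe u
open CategoryTheory CategoryTheory.Limits AlgebraicGeometry TopologicalSpace Opposite
open AlgebraicGeometry.Scheme.Modules

namespace Groth.Agent.H8

section

variable {X Y Z W : Scheme.{u}}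

/-- `(L|_j)|_a ≅ (L|_c)|_b` for a commutative square `a ≫ j = b ≫ c` of open immersions. -/
noncomputable def restrictRestrictIsoOfComm (L : X.Modules) (a : Z ⟶ Y) (j : Y ⟶ X) (b : Z ⟶ W)
    (c : W ⟶ X) [IsOpenImmersion a] [IsOpenImmersion j] [IsOpenImmersion b] [IsOpenImmersion c]
    (h : a ≫ j = b ≫ c) : (L.restrict j).restrict a ≅ (L.restrict c).restrict b :=
  ((restrictFunctorComp a j).app L).symm ≪≫ (restrictFunctorCongr h).app L ≪≫
    (restrictFunctorComp b c).app L

/-- The structure sheaf is invertible. -/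
theorem isInvertible_structureModule (X : Scheme.{u}) :
    PicF.IsInvertible (Coh.structureModule X) :=
  fun _ => ⟨⊤, trivial, ⟨restrictUnitIso _⟩⟩

/-- The restriction of an invertible module along an open immersion is invertible. -/
theorem isInvertible_restrict (j : Y ⟶ X) [IsOpenImmersion j] {L : X.Modules}
    (hL : PicF.IsInvertible L) : PicF.IsInvertible (L.restrict j) := by
  intro y
  obtain ⟨W, hyW, ⟨e⟩⟩ := hL (j y)
  refine ⟨j ⁻¹ᵁ W, hyW, ⟨?_⟩⟩
  exact restrictRestrictIsoOfComm L (j ⁻¹ᵁ W).ι j (j ∣_ W) W.ι (morphismRestrict_ι j W).symm ≪≫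
    (restrictFunctor (j ∣_ W)).mapIso e ≪≫ restrictUnitIso (j ∣_ W)

/-- Full faithfulness of restriction on invertible modules. -/
def FF (j : Y ⟶ X) [IsOpenImmersion j] : Prop :=
  ∀ L L' : X.Modules, PicF.IsInvertible L → PicF.IsInvertible L' →
    Function.Bijective (fun φ : L ⟶ L' => (restrictFunctor j).map φ)

/-- Essential surjectivity of restriction on invertible modules. -/
def ES (j : Y ⟶ X) [IsOpenImmersion j] : Prop :=
  ∀ L₀ : Y.Modules, PicF.IsInvertible L₀ →
    ∃ L : X.Modules, PicF.IsInvertible L ∧ Nonempty (L.restrict j ≅ L₀)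

lemma invRestrictEquiv_iff (j : Y ⟶ X) [IsOpenImmersion j] :
    ParaF.InvRestrictEquiv j ↔ FF j ∧ ES j := Iff.rfl

lemma invRestrictEquiv_congr {j j' : Y ⟶ X} [IsOpenImmersion j] [IsOpenImmersion j']
    (e : j = j') : ParaF.InvRestrictEquiv j ↔ ParaF.InvRestrictEquiv j' := by
  subst e
  rfl

lemma invRestrictEquiv_homOfLE_congr {A A' B : X.Opens} (e : A = A') (h : A ≤ B) (h' : A' ≤ B) :
    ParaF.InvRestrictEquiv (X.homOfLE h) ↔ ParaF.InvRestrictEquiv (X.homOfLE h') := by
  subst e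
  rfl

/-- A fully faithful restriction reflects isomorphy. -/
theorem nonempty_iso_of_restrict_iso (j : Y ⟶ X) [IsOpenImmersion j] (hFF : FF j)
    {L₁ L₂ : X.Modules} (h₁ : PicF.IsInvertible L₁) (h₂ : PicF.IsInvertible L₂)
    (θ : L₁.restrict j ≅ L₂.restrict j) : Nonempty (L₁ ≅ L₂) := by
  obtain ⟨φ, hφ⟩ := (hFF L₁ L₂ h₁ h₂).2 θ.hom
  obtain ⟨ψ, hψ⟩ := (hFF L₂ L₁ h₂ h₁).2 θ.inv
  replace hφ : (restrictFunctor j).map φ = θ.hom := hφ
  replace hψ : (restrictFunctor j).map ψ = θ.inv := hψ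
  refine ⟨⟨φ, ψ, ?_, ?_⟩⟩
  · apply (hFF L₁ L₁ h₁ h₁).1
    show (restrictFunctor j).map (φ ≫ ψ) = (restrictFunctor j).map (𝟙 _)
    rw [Functor.map_comp, CategoryTheory.Functor.map_id, hφ, hψ, Iso.hom_inv_id]
  · apply (hFF L₂ L₂ h₂ h₂).1
    show (restrictFunctor j).map (ψ ≫ φ) = (restrictFunctor j).map (𝟙 _)
    rw [Functor.map_comp, CategoryTheory.Functor.map_id, hψ, hφ, Iso.inv_hom_id]

/-- Restriction along a composite, in terms of the iterated restriction. -/
lemma restrict_comp_map (a : Z ⟶ Y) (b : Y ⟶ X) [IsOpenImmersion a] [IsOpenImmersion b]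
    {L L' : X.Modules} (φ : L ⟶ L') :
    (restrictFunctor (a ≫ b)).map φ =
      (Iso.homCongr ((restrictFunctorComp a b).app L).symm
        ((restrictFunctorComp a b).app L').symm)
        ((restrictFunctor a).map ((restrictFunctor b).map φ)) := by
  rw [Iso.homCongr_apply]
  simp only [Iso.symm_inv, Iso.symm_hom, Iso.app_hom, Iso.app_inv]
  have := (restrictFunctorComp a b).hom.naturality φ
  rw [Functor.comp_map] at this
  rw [← Category.assoc, ← this, Category.assoc, Iso.hom_inv_id_app, Category.comp_id]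

lemma restrict_comp_map_fun (a : Z ⟶ Y) (b : Y ⟶ X) [IsOpenImmersion a] [IsOpenImmersion b]
    (L L' : X.Modules) :
    (fun φ : L ⟶ L' => (restrictFunctor (a ≫ b)).map φ) =
      ((Iso.homCongr ((restrictFunctorComp a b).app L).symm
        ((restrictFunctorComp a b).app L').symm) ∘
        (fun ψ : L.restrict b ⟶ L'.restrict b => (restrictFunctor a).map ψ)) ∘
        (fun φ : L ⟶ L' => (restrictFunctor b).map φ) := by
  funext φ
  exact restrict_comp_map a b φ

theorem FF.comp {a : Z ⟶ Y} {b : Y ⟶ X} [IsOpenImmersion a] [IsOpenImmersion b] (ha : FF a)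
    (hb : FF b) : FF (a ≫ b) := by
  intro L L' hL hL'
  rw [restrict_comp_map_fun a b L L']
  exact ((Equiv.bijective _).comp
    (ha _ _ (isInvertible_restrict b hL) (isInvertible_restrict b hL'))).comp (hb L L' hL hL')

theorem FF.of_comp {a : Z ⟶ Y} {b : Y ⟶ X} [IsOpenImmersion a] [IsOpenImmersion b]
    (hab : FF (a ≫ b)) (ha : FF a) : FF b := by
  intro L L' hL hL'
  have h1 := hab L L' hL hL'
  rw [restrict_comp_map_fun a b L L'] at h1
  exact (Function.Bijective.of_comp_iff' ((Equiv.bijective _).comp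
    (ha _ _ (isInvertible_restrict b hL) (isInvertible_restrict b hL'))) _).mp h1

theorem ES.comp {a : Z ⟶ Y} {b : Y ⟶ X} [IsOpenImmersion a] [IsOpenImmersion b] (ha : ES a)
    (hb : ES b) : ES (a ≫ b) := by
  intro L₀ h₀
  obtain ⟨L₁, h₁, ⟨e₁⟩⟩ := ha L₀ h₀
  obtain ⟨L, hL, ⟨e⟩⟩ := hb L₁ h₁
  exact ⟨L, hL, ⟨(restrictFunctorComp a b).app L ≪≫ (restrictFunctor a).mapIso e ≪≫ e₁⟩⟩

theorem ES.of_comp {a : Z ⟶ Y} {b : Y ⟶ X} [IsOpenImmersion a] [IsOpenImmersion b]
    (hab : ES (a ≫ b)) (ha : FF a) : ES b := by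
  intro L₀ h₀
  obtain ⟨L, hL, ⟨e⟩⟩ := hab (L₀.restrict a) (isInvertible_restrict a h₀)
  have θ : (L.restrict b).restrict a ≅ L₀.restrict a :=
    ((restrictFunctorComp a b).app L).symm ≪≫ e
  obtain ⟨i⟩ := nonempty_iso_of_restrict_iso a ha (isInvertible_restrict b hL) h₀ θ
  exact ⟨L, hL, ⟨i⟩⟩

/-- Restriction maps of a presheaf of modules along an equality of opens are bijective. -/
lemma bijective_map_of_eq (M : X.Modules) {A B : X.Opens} (e : B = A) (h : B ≤ A) :
    Function.Bijective (M.presheaf.map (homOfLE h).op) := by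
  subst e
  have : IsIso (M.presheaf.map (homOfLE h).op) := by
    rw [show homOfLE h = 𝟙 B from rfl]
    infer_instance
  exact ConcreteCategory.bijective_of_isIso _

/-- For an isomorphism `j`, the unit `M ⟶ j_* j^* M` is an isomorphism. -/
theorem isIso_unit_of_isIso (j : Y ⟶ X) [IsIso j] (M : X.Modules) :
    IsIso ((restrictAdjunction j).unit.app M) := by
  apply isIso_of_bijective_basis _ (fun V : X.Opens => V)
  · rw [Opens.isBasis_iff_nbhd]
    intro W x hx
    exact ⟨W, ⟨W, rfl⟩, hx, le_rfl⟩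
  · intro V
    show Function.Bijective (M.presheaf.map (homOfLE (j.image_preimage_le V)).op)
    apply bijective_map_of_eq
    rw [Scheme.Hom.image_preimage_eq_opensRange_inf, Scheme.Hom.opensRange_of_isIso, top_inf_eq]

theorem FF.of_isIso (j : Y ⟶ X) [IsIso j] : FF j := by
  intro L L' _ _
  haveI := isIso_unit_of_isIso j L'
  exact restrict_map_bijective_of_isIso_unit j L L'

theorem ES.of_isIso (j : Y ⟶ X) [IsIso j] : ES j := by
  intro L₀ h₀
  refine ⟨L₀.restrict (inv j), isInvertible_restrict (inv j) h₀, ⟨?_⟩⟩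
  exact ((restrictFunctorComp j (inv j)).app L₀).symm ≪≫
    (restrictFunctorCongr (IsIso.hom_inv_id j)).app L₀ ≪≫ restrictFunctorId.app L₀

theorem invRestrictEquiv_of_isIso (j : Y ⟶ X) [IsIso j] : ParaF.InvRestrictEquiv j :=
  ⟨FF.of_isIso j, ES.of_isIso j⟩

theorem invRestrictEquiv_comp {a : Z ⟶ Y} {b : Y ⟶ X} [IsOpenImmersion a] [IsOpenImmersion b]
    (ha : ParaF.InvRestrictEquiv a) (hb : ParaF.InvRestrictEquiv b) :
    ParaF.InvRestrictEquiv (a ≫ b) :=
  ⟨FF.comp ha.1 hb.1, ES.comp ha.2 hb.2⟩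

theorem invRestrictEquiv_of_comp {a : Z ⟶ Y} {b : Y ⟶ X} [IsOpenImmersion a]
    [IsOpenImmersion b] (hab : ParaF.InvRestrictEquiv (a ≫ b)) (ha : ParaF.InvRestrictEquiv a) :
    ParaF.InvRestrictEquiv b :=
  ⟨FF.of_comp hab.1 ha.1, ES.of_comp hab.2 ha.1⟩

end

end Groth.Agent.H8
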