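import Groth.Agent.H8.TildeTensor
import Groth.Agent.H31.PullTensor
import Groth.Agent.H8.FinType
import Groth.Agent.H8.CohAffine
import Groth.Agent.H8.QCohLocal
import Groth.Agent.H8.PullbackStalk

/-!
# The tensor product of quasi-coherent modules is quasi-coherent
-/

set_option autoImplicit false
set_option backward.isDefEq.respectTransparency false
set_option linter.style.haveILetI false
universe u
open CategoryTheory CategoryTheory.Limits AlgebraicGeometry TensorProduct Opposite MonoidalCategory

namespace Groth.Agent.H8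

open Scheme.Modules Groth.Agent.H18.TensorModIso

/-- Pullback commutes with the tensor product (helper31's `pullTensorIso`, restated). -/
theorem nonempty_pullback_tensorMod {X Y : Scheme.{u}} (f : Y ⟶ X) (F G : X.Modules) :
    Nonempty ((Scheme.Modules.pullback f).obj (CohB1.tensorMod F G) ≅
      CohB1.tensorMod ((Scheme.Modules.pullback f).obj F) ((Scheme.Modules.pullback f).obj G)) :=
  ⟨Groth.Agent.H31.PullTensor.pullTensorIso f F G⟩

/-- Restriction to an open subscheme commutes with the tensor product. -/
theorem nonempty_restrict_tensorMod {X Y : Scheme.{u}} (j : Y ⟶ X) [IsOpenImmersion j]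
    (F G : X.Modules) :
    Nonempty ((CohB1.tensorMod F G).restrict j ≅
      CohB1.tensorMod (F.restrict j) (G.restrict j)) := by
  let e1 := (restrictFunctorIsoPullback j).app (CohB1.tensorMod F G)
  obtain ⟨e2⟩ := nonempty_pullback_tensorMod j F G
  obtain ⟨e3⟩ := nonempty_tensorMod_congr ((restrictFunctorIsoPullback j).app F).symm
    ((restrictFunctorIsoPullback j).app G).symm
  exact ⟨e1 ≪≫ e2 ≪≫ e3⟩

section Affine

variable {X : Scheme.{u}} (F G : X.Modules) [F.IsQuasicoherent] [G.IsQuasicoherent]
  {U : X.Opens} (hU : IsAffineOpen U)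

/-- The module of sections over an affine open, as a module over `Γ(X, U)`, in the form used
by `fromTildeΓ`. -/
noncomputable abbrev secMod (F : X.Modules) : ModuleCat.{u} Γ(X, U) :=
  (modulesSpecToSheaf.obj (F.restrict hU.fromSpec)).presheaf.obj (op ⊤)

/-- On an affine open, `F ⊗ G` is the module associated to `F(U) ⊗ G(U)`. -/
theorem nonempty_restrict_tensorMod_iso_tilde :
    Nonempty ((CohB1.tensorMod F G).restrict hU.fromSpec ≅
      tilde (ModuleCat.of Γ(X, U) (secMod hU F ⊗[Γ(X, U)] secMod hU G))) := by
  obtain ⟨e⟩ := nonempty_restrict_tensorMod hU.fromSpec F G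
  haveI : IsIso (F.restrict hU.fromSpec).fromTildeΓ :=
    Scheme.Modules.isIso_fromTildeΓ_of_isQuasicoherent _
  haveI : IsIso (G.restrict hU.fromSpec).fromTildeΓ :=
    Scheme.Modules.isIso_fromTildeΓ_of_isQuasicoherent _
  obtain ⟨e2⟩ := nonempty_tensorMod_congr (asIso (F.restrict hU.fromSpec).fromTildeΓ).symm
    (asIso (G.restrict hU.fromSpec).fromTildeΓ).symm
  exact ⟨e ≪≫ e2 ≪≫ (TildeTensor.tildeTensorIso Γ(X, U) (secMod hU F) (secMod hU G)).symm⟩

end Affine

/-- The tensor product of quasi-coherent modules is quasi-coherent. -/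
instance isQuasicoherent_tensorMod {X : Scheme.{u}} (F G : X.Modules) [F.IsQuasicoherent]
    [G.IsQuasicoherent] : (CohB1.tensorMod F G).IsQuasicoherent := by
  apply isQuasicoherent_of_forall_affine
  intro U hU
  obtain ⟨e⟩ := nonempty_restrict_tensorMod_iso_tilde F G hU
  exact isQuasicoherent_of_iso e.symm

/-- The tensor product of quasi-coherent modules of finite type is of finite type. -/
theorem isFiniteType_tensorMod {X : Scheme.{u}} (F G : X.Modules) [F.IsQuasicoherent]
    [G.IsQuasicoherent] [SheafOfModules.IsFiniteType (R := X.ringCatSheaf) F]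
    [SheafOfModules.IsFiniteType (R := X.ringCatSheaf) G] :
    SheafOfModules.IsFiniteType (R := X.ringCatSheaf) (CohB1.tensorMod F G) := by
  haveI := isQuasicoherent_tensorMod F G
  apply isFiniteType_of_forall_affine_finite
  intro U
  have hU := U.2
  obtain ⟨e⟩ := nonempty_restrict_tensorMod_iso_tilde F G hU
  let K : ModuleCat.{u} Γ(X, (U : X.Opens)) :=
    ModuleCat.of Γ(X, (U : X.Opens)) (secMod hU F ⊗[Γ(X, (U : X.Opens))] secMod hU G)
  let e1 : secMod hU (CohB1.tensorMod F G) ≅ K :=
    (moduleSpecΓFunctor (R := Γ(X, (U : X.Opens)))).mapIso e ≪≫ (tilde.isoTop K).symm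
  haveI hF : Module.Finite Γ(X, (U : X.Opens)) (secMod hU F) := by
    haveI := finite_sections_of_isAffineOpen F hU
    exact Module.Finite.equiv (sectionsRestrictEquiv hU F).symm
  haveI hG : Module.Finite Γ(X, (U : X.Opens)) (secMod hU G) := by
    haveI := finite_sections_of_isAffineOpen G hU
    exact Module.Finite.equiv (sectionsRestrictEquiv hU G).symm
  haveI hK : Module.Finite Γ(X, (U : X.Opens)) K :=
    inferInstanceAs (Module.Finite Γ(X, (U : X.Opens))
      (secMod hU F ⊗[Γ(X, (U : X.Opens))] secMod hU G))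
  haveI hT : Module.Finite Γ(X, (U : X.Opens)) (secMod hU (CohB1.tensorMod F G)) :=
    Module.Finite.equiv e1.toLinearEquiv.symm
  exact Module.Finite.equiv (sectionsRestrictEquiv hU (CohB1.tensorMod F G))

end Groth.Agent.H8
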