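import Groth.Agent.H31.FlatSite
import Groth.Agent.H31.PullTensor
import Groth.Agent.H18.TensorModIso
import Groth.Prelude.Def_BrSev
import Groth.Agent.H18.TwistTensor
import Groth.Agent.H18.ProjSpaceGlobal
import Groth.Agent.H8.TensorQCoh

/-!
# Tensor products of finite direct sums; twisting sheaves on projective space

`sigmaFinProdIso`, `nonempty_tensorMod_pow` (`A^r ⊗ B^s ≅ (A ⊗ B)^{rs}`), `hcov1_polyGrading`,
`nonempty_twistProjSpace_tensor` (`O(j) ⊗ O(l) ≅ O(j+l)` on `P^n_R`), `isTwPow_tensorMod`.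
-/

set_option autoImplicit false
set_option backward.isDefEq.respectTransparency false
set_option linter.style.haveILetI false
universe u v
open CategoryTheory CategoryTheory.Limits AlgebraicGeometry Opposite

namespace Groth.Agent.H8.TensorPow

section Cat

variable {C : Type u} [Category.{v} C] [HasFiniteCoproducts C]

/-- An iterated finite coproduct of copies of an object. -/
noncomputable def sigmaFinProdIso (X : C) (r s : ℕ) :
    (∐ fun _ : Fin r => ∐ fun _ : Fin s => X) ≅ ∐ fun _ : Fin (r * s) => X where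
  hom := Sigma.desc fun i => Sigma.desc fun j =>
    Sigma.ι (fun _ : Fin (r * s) => X) (finProdFinEquiv (i, j))
  inv := Sigma.desc fun k =>
    Sigma.ι (fun _ : Fin s => X) (finProdFinEquiv.symm k).2 ≫
      Sigma.ι (fun _ : Fin r => ∐ fun _ : Fin s => X) (finProdFinEquiv.symm k).1
  hom_inv_id := by
    ext i j
    simp only [Sigma.ι_desc_assoc, Sigma.ι_desc, Category.comp_id]
    rw [Equiv.symm_apply_apply]
  inv_hom_id := by
    ext k
    simp only [Sigma.ι_desc_assoc, Sigma.ι_desc, Category.assoc, Category.comp_id]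
    rw [Prod.mk.eta, Equiv.apply_symm_apply]

end Cat

section Tensor

open Groth.Agent.H31

variable {Y : Scheme.{u}}

/-- `A^{⊕ r} ⊗ B^{⊕ s} ≅ (A ⊗ B)^{⊕ rs}`. -/
theorem nonempty_tensorMod_pow (A B : Y.Modules) (r s : ℕ) :
    Nonempty (CohB1.tensorMod (BrSev.pow A r) (BrSev.pow B s) ≅
      BrSev.pow (CohB1.tensorMod A B) (r * s)) := by
  let FB := (ModSite.tensorBi Y.sheaf).flip.obj (BrSev.pow B s)
  let GA := (ModSite.tensorBi Y.sheaf).obj A
  let e1 : CohB1.tensorMod (BrSev.pow A r) (BrSev.pow B s) ≅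
      ∐ fun _ : Fin r => CohB1.tensorMod A (BrSev.pow B s) :=
    PreservesCoproduct.iso FB (fun _ : Fin r => A)
  let e2 : CohB1.tensorMod A (BrSev.pow B s) ≅ ∐ fun _ : Fin s => CohB1.tensorMod A B :=
    PreservesCoproduct.iso GA (fun _ : Fin s => B)
  let e3 : (∐ fun _ : Fin r => CohB1.tensorMod A (BrSev.pow B s)) ≅
      ∐ fun _ : Fin r => ∐ fun _ : Fin s => CohB1.tensorMod A B :=
    Sigma.mapIso (fun _ => e2)
  exact ⟨e1 ≪≫ e3 ≪≫ sigmaFinProdIso _ r s⟩

end Tensor

section Twist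

open Groth.Agent.H18.TensorModIso

theorem hcov1_polyGrading (n : ℕ) (R : Type u) [CommRing R]
    (y : ProjectiveSpectrum (CohB1.polyGrading n R)) :
    ∃ g ∈ CohB1.polyGrading n R 1, g ∉ y.asHomogeneousIdeal := by
  by_contra hcon
  push Not at hcon
  apply y.not_irrelevant_le
  intro a ha
  have h1 := Groth.Agent.H18.ProjSpaceGlobal.irrelevant_le_span (n := n) (R := R) ha
  have h2 : Ideal.span (Set.range (MvPolynomial.X : Fin (n + 1) → MvPolynomial (Fin (n + 1)) R)) ≤
      y.asHomogeneousIdeal.toIdeal := by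
    rw [Ideal.span_le]
    rintro _ ⟨i, rfl⟩
    exact hcon _ (Groth.Agent.H18.ProjSpaceGlobal.Xmem n R i)
  exact h2 h1

theorem nonempty_twistProjSpace_tensor (n : ℕ) (R : Type u) [CommRing R] (j l : ℤ) :
    Nonempty (CohB1.tensorMod (Twist.twistProjSpace n R j) (Twist.twistProjSpace n R l) ≅
      Twist.twistProjSpace n R (j + l)) :=
  (Groth.Agent.H18.TwistTensor.twist_package (CohB1.polyGrading n R)
    (hcov1_polyGrading n R)).2.1 j l

/-- Tensor products of twisted powers over a splitting. -/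
theorem isTwPow_tensorMod (k : Type u) [Field k] {X : Scheme.{u}}
    (f : X ⟶ Spec (CommRingCat.of k)) (n : ℕ)
    (K : Type u) [Field K] [Algebra k K] (e : BrSev.Splitting f K n) (j l : ℤ) (r s : ℕ)
    (W W' : X.Modules) (hWt : BrSev.IsTwPow e j r W) (hW't : BrSev.IsTwPow e l s W') :
    BrSev.IsTwPow e (j + l) (r * s) (CohB1.tensorMod W W') := by
  obtain ⟨a⟩ := hWt
  obtain ⟨b⟩ := hW't
  obtain ⟨e1⟩ := Groth.Agent.H8.nonempty_pullback_tensorMod (BrSev.proj f K) W W'
  obtain ⟨e2⟩ := nonempty_tensorMod_congr a b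
  obtain ⟨e3⟩ := nonempty_tensorMod_pow (e.twist j) (e.twist l) r s
  obtain ⟨e4⟩ := Groth.Agent.H8.nonempty_pullback_tensorMod e.iso.hom
    (Twist.twistProjSpace n K j) (Twist.twistProjSpace n K l)
  obtain ⟨e5⟩ := nonempty_twistProjSpace_tensor n K j l
  let e6 : CohB1.tensorMod (e.twist j) (e.twist l) ≅ e.twist (j + l) :=
    e4.symm ≪≫ (Scheme.Modules.pullback e.iso.hom).mapIso e5
  exact ⟨e1 ≪≫ e2 ≪≫ e3 ≪≫ Sigma.mapIso (fun _ => e6)⟩

end Twist

end Groth.Agent.H8.TensorPow
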