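import Groth.Agent.H8.RelFPPullback
import Mathlib

/-!
Relative finite presentation and base change.
-/

set_option autoImplicit false
set_option linter.style.haveILetI false
universe u

open CategoryTheory CategoryTheory.Limits AlgebraicGeometry TopologicalSpace Opposite

namespace Groth.Agent.H8

open Function

section Ring

/-- Base change of relative finite presentation along an arbitrary change of the base ring. -/
theorem RFP.baseChange {R A R' A' : Type u} [CommRing R] [CommRing A] [CommRing R'] [CommRing A']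
    [Algebra R A] [Algebra R R'] [Algebra A A'] [Algebra R' A'] [Algebra R A']
    [IsScalarTower R A A'] [IsScalarTower R R' A'] [Algebra.IsPushout R A R' A']
    {N : Type u} [AddCommGroup N] [Module A N] (h : RFP (algebraMap R A) N) :
    RFP (algebraMap R' A') (TensorProduct A A' N) := by
  classical
  obtain ⟨n, φ, hc, hφ, hfp⟩ := (rfp_iff _ _).mp h
  let φ' : MvPolynomial (Fin n) R' →+* A' :=
    MvPolynomial.eval₂Hom (algebraMap R' A') (fun i => algebraMap A A' (φ (MvPolynomial.X i)))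
  letI aPP' : Algebra (MvPolynomial (Fin n) R) (MvPolynomial (Fin n) R') :=
    MvPolynomial.algebraMvPolynomial
  letI aPA : Algebra (MvPolynomial (Fin n) R) A := φ.toAlgebra
  letI aP'A' : Algebra (MvPolynomial (Fin n) R') A' := φ'.toAlgebra
  letI aPA' : Algebra (MvPolynomial (Fin n) R) A' := ((algebraMap A A').comp φ).toAlgebra
  have hφ'C : ∀ r' : R', φ' (MvPolynomial.C r') = algebraMap R' A' r' :=
    fun r' => MvPolynomial.eval₂_C _ _ _
  have hφ'X : ∀ i, φ' (MvPolynomial.X i) = algebraMap A A' (φ (MvPolynomial.X i)) :=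
    fun i => MvPolynomial.eval₂_X _ _ _
  have hφC : ∀ r : R, φ (MvPolynomial.C r) = algebraMap R A r :=
    fun r => congrFun (congrArg DFunLike.coe hc) r
  have hsq : φ'.comp (algebraMap (MvPolynomial (Fin n) R) (MvPolynomial (Fin n) R')) =
      (algebraMap A A').comp φ := by
    apply MvPolynomial.ringHom_ext
    · intro r
      show φ' (MvPolynomial.map (algebraMap R R') (MvPolynomial.C r)) =
        algebraMap A A' (φ (MvPolynomial.C r))
      rw [MvPolynomial.map_C, hφ'C, hφC, ← IsScalarTower.algebraMap_apply,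
        ← IsScalarTower.algebraMap_apply]
    · intro i
      show φ' (MvPolynomial.map (algebraMap R R') (MvPolynomial.X i)) =
        algebraMap A A' (φ (MvPolynomial.X i))
      rw [MvPolynomial.map_X, hφ'X]
  haveI t1 : IsScalarTower (MvPolynomial (Fin n) R) A A' := IsScalarTower.of_algebraMap_eq' rfl
  haveI t2 : IsScalarTower (MvPolynomial (Fin n) R) (MvPolynomial (Fin n) R') A' :=
    IsScalarTower.of_algebraMap_eq' hsq.symm
  haveI t3 : IsScalarTower R (MvPolynomial (Fin n) R) A :=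
    IsScalarTower.of_algebraMap_eq (fun r => (hφC r).symm)
  haveI t5 : IsScalarTower R' (MvPolynomial (Fin n) R') A' :=
    IsScalarTower.of_algebraMap_eq (fun r' => (hφ'C r').symm)
  haveI t6 : IsScalarTower R (MvPolynomial (Fin n) R') A' :=
    IsScalarTower.of_algebraMap_eq (fun r => by
      show algebraMap R A' r = φ' (MvPolynomial.C (algebraMap R R' r))
      rw [hφ'C, ← IsScalarTower.algebraMap_apply])
  haveI hpo : Algebra.IsPushout (MvPolynomial (Fin n) R) A (MvPolynomial (Fin n) R') A' :=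
    (Algebra.IsPushout.comp_iff R (MvPolynomial (Fin n) R) R' (MvPolynomial (Fin n) R')).mp
      inferInstance
  -- surjectivity
  have hsurj : Surjective φ' := by
    intro a'
    have hbc : IsBaseChange A (IsScalarTower.toAlgHom R R' A').toLinearMap :=
      Algebra.IsPushout.out
    refine hbc.inductionOn a' (fun y => ∃ p, φ' p = y) ⟨0, map_zero _⟩ ?_ ?_ ?_
    · intro r'
      exact ⟨MvPolynomial.C r', hφ'C r'⟩
    · rintro a y ⟨p, rfl⟩
      obtain ⟨q, rfl⟩ := hφ a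
      refine ⟨algebraMap _ _ q * p, ?_⟩
      rw [map_mul, Algebra.smul_def]
      congr 1
      exact congrFun (congrArg DFunLike.coe hsq) q
    · rintro y₁ y₂ ⟨p₁, rfl⟩ ⟨p₂, rfl⟩
      exact ⟨p₁ + p₂, map_add _ _ _⟩
  rw [rfp_iff]
  refine ⟨n, φ', ?_, hsurj, ?_⟩
  · ext r'
    exact hφ'C r'
  · letI mP : Module (MvPolynomial (Fin n) R) N := Module.compHom N φ
    haveI : IsScalarTower (MvPolynomial (Fin n) R) A N := ⟨fun q a m => by
      show (φ q * a) • m = φ q • (a • m)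
      rw [mul_smul]⟩
    haveI : Module.FinitePresentation (MvPolynomial (Fin n) R) N := hfp
    have h1 : Module.FinitePresentation (MvPolynomial (Fin n) R') (TensorProduct A A' N) :=
      H35.fp_baseChange_pushout (C := MvPolynomial (Fin n) R) (A := A)
        (C' := MvPolynomial (Fin n) R') (A' := A') N
    refine H35.fp_congr _ _ _ ?_ h1
    intro p' x
    induction x using TensorProduct.induction_on with
    | zero => exact (smul_zero _).trans (smul_zero _).symm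
    | tmul a' m => rfl
    | add x y hx hy =>
      exact (smul_add _ _ _).trans ((congrArg₂ (· + ·) hx hy).trans (smul_add _ _ _).symm)

end Ring

section Scheme

variable {X S X' S' : Scheme.{u}} {f : X ⟶ S} {g : S' ⟶ S} {f' : X' ⟶ S'} {g' : X' ⟶ X}

/-- The "product" open `g'⁻¹ U ∩ f'⁻¹ V'` of a pullback square is affine when `U`, `V`, `V'`
are. -/
theorem isAffineOpen_prodOpen (hc : IsPullback g' f' f g) {V : S.Opens} (hV : IsAffineOpen V)
    {V' : S'.Opens} (hV' : IsAffineOpen V') (hVV' : V' ≤ g ⁻¹ᵁ V) {U : X.Opens}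
    (hU : IsAffineOpen U) (hUV : U ≤ f ⁻¹ᵁ V) : IsAffineOpen (g' ⁻¹ᵁ U ⊓ f' ⁻¹ᵁ V') := by
  haveI : IsAffine V.toScheme := hV
  haveI : IsAffine V'.toScheme := hV'
  haveI : IsAffine U.toScheme := hU
  exact .of_isIso (Scheme.Hom.isPullback_resLE hc hVV' hUV rfl).isoPullback.hom

set_option backward.isDefEq.respectTransparency false in
/-- Base change of relative finite presentation, on affine opens of a pullback square. -/
theorem relFPOpens_baseChange (hc : IsPullback g' f' f g) (F : X.Modules) [F.IsQuasicoherent]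
    {V : S.Opens} (hV : IsAffineOpen V) {V' : S'.Opens} (hV' : IsAffineOpen V')
    (hVV' : V' ≤ g ⁻¹ᵁ V) {U : X.Opens} (hU : IsAffineOpen U) (hUV : U ≤ f ⁻¹ᵁ V)
    (H : RelFPOpens f F U V hUV) :
    RelFPOpens f' ((Scheme.Modules.pullback g').obj F) (g' ⁻¹ᵁ U ⊓ f' ⁻¹ᵁ V') V'
      inf_le_right := by
  have hU' : IsAffineOpen (g' ⁻¹ᵁ U ⊓ f' ⁻¹ᵁ V') := isAffineOpen_prodOpen hc hV hV' hVV' hU hUV
  have hpush : IsPushout (f.appLE V U hUV) (g.appLE V V' hVV')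
      (g'.appLE U (g' ⁻¹ᵁ U ⊓ f' ⁻¹ᵁ V') inf_le_left)
      (f'.appLE V' (g' ⁻¹ᵁ U ⊓ f' ⁻¹ᵁ V') inf_le_right) := by
    have := isIso_pushoutSection_of_isAffineOpen hc hVV' hUV rfl hV hV' hU
    exact (isIso_pushoutSection_iff hc hVV' hUV rfl).mp this
  letI a1 : Algebra Γ(S, V) Γ(X, U) := (f.appLE V U hUV).hom.toAlgebra
  letI a2 : Algebra Γ(S, V) Γ(S', V') := (g.appLE V V' hVV').hom.toAlgebra
  letI a3 : Algebra Γ(X, U) Γ(X', g' ⁻¹ᵁ U ⊓ f' ⁻¹ᵁ V') :=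
    (g'.appLE U (g' ⁻¹ᵁ U ⊓ f' ⁻¹ᵁ V') inf_le_left).hom.toAlgebra
  letI a4 : Algebra Γ(S', V') Γ(X', g' ⁻¹ᵁ U ⊓ f' ⁻¹ᵁ V') :=
    (f'.appLE V' (g' ⁻¹ᵁ U ⊓ f' ⁻¹ᵁ V') inf_le_right).hom.toAlgebra
  letI a5 : Algebra Γ(S, V) Γ(X', g' ⁻¹ᵁ U ⊓ f' ⁻¹ᵁ V') :=
    ((g'.appLE U (g' ⁻¹ᵁ U ⊓ f' ⁻¹ᵁ V') inf_le_left).hom.comp (f.appLE V U hUV).hom).toAlgebra
  haveI t1 : IsScalarTower Γ(S, V) Γ(X, U) Γ(X', g' ⁻¹ᵁ U ⊓ f' ⁻¹ᵁ V') :=
    IsScalarTower.of_algebraMap_eq' rfl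
  haveI t2 : IsScalarTower Γ(S, V) Γ(S', V') Γ(X', g' ⁻¹ᵁ U ⊓ f' ⁻¹ᵁ V') :=
    IsScalarTower.of_algebraMap_eq' (congrArg CommRingCat.Hom.hom hpush.w)
  haveI hpo : Algebra.IsPushout Γ(S, V) Γ(X, U) Γ(S', V') Γ(X', g' ⁻¹ᵁ U ⊓ f' ⁻¹ᵁ V') :=
    CommRingCat.isPushout_iff_isPushout.mp hpush
  have H' : RFP (algebraMap Γ(S, V) Γ(X, U)) Γ(F, U) := H
  have h1 : RFP (algebraMap Γ(S', V') Γ(X', g' ⁻¹ᵁ U ⊓ f' ⁻¹ᵁ V'))
      (TensorProduct Γ(X, U) Γ(X', g' ⁻¹ᵁ U ⊓ f' ⁻¹ᵁ V') Γ(F, U)) := RFP.baseChange H'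
  obtain ⟨E⟩ : Nonempty (Γ((Scheme.Modules.pullback g').obj F, g' ⁻¹ᵁ U ⊓ f' ⁻¹ᵁ V')
      ≃ₗ[Γ(X', g' ⁻¹ᵁ U ⊓ f' ⁻¹ᵁ V')]
      TensorProduct Γ(X, U) Γ(X', g' ⁻¹ᵁ U ⊓ f' ⁻¹ᵁ V') Γ(F, U)) :=
    ⟨sectionsPullbackEquiv g' F hU hU' inf_le_left⟩
  have hsm : ∀ (a : Γ(X', g' ⁻¹ᵁ U ⊓ f' ⁻¹ᵁ V'))
      (n : TensorProduct Γ(X, U) Γ(X', g' ⁻¹ᵁ U ⊓ f' ⁻¹ᵁ V') Γ(F, U)),
      E.symm (a • n) = a • E.symm n := fun a n => LinearEquiv.map_smul _ a n
  have h2 := RFP.of_equiv h1 (RingEquiv.refl Γ(X', g' ⁻¹ᵁ U ⊓ f' ⁻¹ᵁ V'))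
    (N' := Γ((Scheme.Modules.pullback g').obj F, g' ⁻¹ᵁ U ⊓ f' ⁻¹ᵁ V')) E.symm.toAddEquiv hsm
  exact RFP.congr h2 rfl

end Scheme

end Groth.Agent.H8
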