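import Groth.Agent.H8.FlatTensor
import Groth.Agent.H8.RelFPBaseChange
import Groth.Prelude.Def_FlatMod2
import Mathlib

/-!
Flatness over the base at a point is stable under base change (stalk-level statement for an
arbitrary module over the stalk).
-/

set_option autoImplicit false
set_option linter.style.haveILetI false
universe u

open CategoryTheory CategoryTheory.Limits AlgebraicGeometry TopologicalSpace Opposite TensorProduct

namespace Groth.Agent.H8

variable {X S X' S' : Scheme.{u}} {f : X ⟶ S} {g : S' ⟶ S} {f' : X' ⟶ S'} {g' : X' ⟶ X}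

lemma germ_stalkMap_eq {X Y : Scheme.{u}} (φ : X ⟶ Y) {V : Y.Opens} {U : X.Opens}
    (hUV : U ≤ φ ⁻¹ᵁ V) (x : X) (hxU : x ∈ U) :
    Y.presheaf.germ V (φ x) (hUV hxU) ≫ φ.stalkMap x =
      φ.appLE V U hUV ≫ X.presheaf.germ U x hxU := by
  rw [Scheme.Hom.germ_stalkMap, Scheme.Hom.appLE, Category.assoc, X.presheaf.germ_res]

set_option backward.isDefEq.respectTransparency false in
/-- In a cartesian square `X' = X ×_S S'`, let `x'` be a point of `X'`, `M` a module over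
`O_{X, g' x'}` flat over `O_{S, f (g' x')}`; then `O_{X',x'} ⊗ M` is flat over `O_{S', f' x'}`. -/
theorem flat_stalk_baseChange (hc : IsPullback g' f' f g) (x' : X')
    (M : Type u) [AddCommGroup M] [Module (X.presheaf.stalk (g' x')) M]
    (N : Type u) [AddCommGroup N] [Module (X'.presheaf.stalk x') N]
    (e : letI := (g'.stalkMap x').hom.toAlgebra
      N ≃ₗ[X'.presheaf.stalk x'] (X'.presheaf.stalk x') ⊗[X.presheaf.stalk (g' x')] M)
    (h : letI := Module.compHom M (f.stalkMap (g' x')).hom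
      Module.Flat (S.presheaf.stalk (f (g' x'))) M) :
    letI := Module.compHom N (f'.stalkMap x').hom
    Module.Flat (S'.presheaf.stalk (f' x')) N := by
  have hpt : g (f' x') = f (g' x') := by
    have := congrArg (fun φ : X' ⟶ S => φ x') hc.w
    simpa using this.symm
  obtain ⟨V, hV, hsV, -⟩ := exists_isAffineOpen_mem_and_subset (x := f (g' x'))
    (U := (⊤ : S.Opens)) trivial
  have hs'V : f' x' ∈ g ⁻¹ᵁ V := by
    show g (f' x') ∈ V
    rw [hpt]; exact hsV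
  obtain ⟨V', hV', hs'V', hVV'⟩ := exists_isAffineOpen_mem_and_subset (x := f' x')
    (U := g ⁻¹ᵁ V) hs'V
  obtain ⟨U, hU, hxU, hUV⟩ := exists_isAffineOpen_mem_and_subset (x := g' x')
    (U := f ⁻¹ᵁ V) hsV
  have hU' : IsAffineOpen (g' ⁻¹ᵁ U ⊓ f' ⁻¹ᵁ V') := isAffineOpen_prodOpen hc hV hV' hVV' hU hUV
  have hx'U' : x' ∈ g' ⁻¹ᵁ U ⊓ f' ⁻¹ᵁ V' := ⟨hxU, hs'V'⟩
  have hpush : IsPushout (f.appLE V U hUV) (g.appLE V V' hVV')
      (g'.appLE U (g' ⁻¹ᵁ U ⊓ f' ⁻¹ᵁ V') inf_le_left)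
      (f'.appLE V' (g' ⁻¹ᵁ U ⊓ f' ⁻¹ᵁ V') inf_le_right) := by
    have := isIso_pushoutSection_of_isAffineOpen hc hVV' hUV rfl hV hV' hU
    exact (isIso_pushoutSection_iff hc hVV' hUV rfl).mp this
  -- section rings
  letI a1 : Algebra Γ(S, V) Γ(X, U) := (f.appLE V U hUV).hom.toAlgebra
  letI a2 : Algebra Γ(S, V) Γ(S', V') := (g.appLE V V' hVV').hom.toAlgebra
  letI a3 : Algebra Γ(X, U) Γ(X', g' ⁻¹ᵁ U ⊓ f' ⁻¹ᵁ V') :=
    (g'.appLE U (g' ⁻¹ᵁ U ⊓ f' ⁻¹ᵁ V') inf_le_left).hom.toAlgebra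
  letI a4 : Algebra Γ(S', V') Γ(X', g' ⁻¹ᵁ U ⊓ f' ⁻¹ᵁ V') :=
    (f'.appLE V' (g' ⁻¹ᵁ U ⊓ f' ⁻¹ᵁ V') inf_le_right).hom.toAlgebra
  letI a5 : Algebra Γ(S, V) Γ(X', g' ⁻¹ᵁ U ⊓ f' ⁻¹ᵁ V') :=
    ((g'.appLE U (g' ⁻¹ᵁ U ⊓ f' ⁻¹ᵁ V') inf_le_left).hom.comp (f.appLE V U hUV).hom).toAlgebra
  haveI t1 : IsScalarTower Γ(S, V) Γ(X, U) Γ(X', g' ⁻¹ᵁ U ⊓ f' ⁻¹ᵁ V') :=
    IsScalarTower.of_algebraMap_eq' rfl
  haveI t2 : IsScalarTower Γ(S, V) Γ(S', V') Γ(X', g' ⁻¹ᵁ U ⊓ f' ⁻¹ᵁ V') :=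
    IsScalarTower.of_algebraMap_eq' (congrArg CommRingCat.Hom.hom hpush.w)
  haveI hpo : Algebra.IsPushout Γ(S, V) Γ(X, U) Γ(S', V') Γ(X', g' ⁻¹ᵁ U ⊓ f' ⁻¹ᵁ V') :=
    CommRingCat.isPushout_iff_isPushout.mp hpush
  -- stalks
  letI b1 : Algebra Γ(X, U) (X.presheaf.stalk (g' x')) :=
    X.presheaf.algebra_section_stalk ⟨g' x', hxU⟩
  haveI l1 := hU.isLocalization_stalk ⟨g' x', hxU⟩
  letI b2 : Algebra Γ(X', g' ⁻¹ᵁ U ⊓ f' ⁻¹ᵁ V') (X'.presheaf.stalk x') :=
    X'.presheaf.algebra_section_stalk ⟨x', hx'U'⟩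
  haveI l2 := hU'.isLocalization_stalk ⟨x', hx'U'⟩
  haveI fl2 : Module.Flat Γ(X', g' ⁻¹ᵁ U ⊓ f' ⁻¹ᵁ V') (X'.presheaf.stalk x') :=
    IsLocalization.flat _ (hU'.primeIdealOf ⟨x', hx'U'⟩).asIdeal.primeCompl
  letI b3 : Algebra (X.presheaf.stalk (g' x')) (X'.presheaf.stalk x') :=
    (g'.stalkMap x').hom.toAlgebra
  letI b4 : Algebra Γ(X, U) (X'.presheaf.stalk x') :=
    ((g'.stalkMap x').hom.comp (X.presheaf.germ U (g' x') hxU).hom).toAlgebra
  haveI t3 : IsScalarTower Γ(X, U) (X.presheaf.stalk (g' x')) (X'.presheaf.stalk x') :=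
    IsScalarTower.of_algebraMap_eq' rfl
  haveI t4 : IsScalarTower Γ(X, U) Γ(X', g' ⁻¹ᵁ U ⊓ f' ⁻¹ᵁ V') (X'.presheaf.stalk x') :=
    IsScalarTower.of_algebraMap_eq'
      (congrArg CommRingCat.Hom.hom (germ_stalkMap_eq g' inf_le_left x' hx'U'))
  letI b5 : Algebra Γ(S', V') (X'.presheaf.stalk x') :=
    ((f'.stalkMap x').hom.comp (S'.presheaf.germ V' (f' x') hs'V').hom).toAlgebra
  haveI t5 : IsScalarTower Γ(S', V') Γ(X', g' ⁻¹ᵁ U ⊓ f' ⁻¹ᵁ V') (X'.presheaf.stalk x') :=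
    IsScalarTower.of_algebraMap_eq'
      (congrArg CommRingCat.Hom.hom (germ_stalkMap_eq f' inf_le_right x' hx'U'))
  -- module structures on `M`
  letI mA : Module (S.presheaf.stalk (f (g' x'))) M := Module.compHom M (f.stalkMap (g' x')).hom
  letI c1 : Algebra Γ(S, V) (S.presheaf.stalk (f (g' x'))) :=
    S.presheaf.algebra_section_stalk ⟨f (g' x'), hsV⟩
  haveI l3 := hV.isLocalization_stalk ⟨f (g' x'), hsV⟩
  letI mD : Module Γ(X, U) M := Module.compHom M (algebraMap Γ(X, U) (X.presheaf.stalk (g' x')))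
  haveI t6 : IsScalarTower Γ(X, U) (X.presheaf.stalk (g' x')) M :=
    IsScalarTower.of_algebraMap_smul fun r m => rfl
  letI mR : Module Γ(S, V) M :=
    Module.compHom M (algebraMap Γ(S, V) (S.presheaf.stalk (f (g' x'))))
  haveI t7 : IsScalarTower Γ(S, V) (S.presheaf.stalk (f (g' x'))) M :=
    IsScalarTower.of_algebraMap_smul fun r m => rfl
  haveI t8 : IsScalarTower Γ(S, V) Γ(X, U) M := by
    refine IsScalarTower.of_algebraMap_smul fun r m => ?_
    have h1 := congrArg CommRingCat.Hom.hom (germ_stalkMap_eq f hUV (g' x') hxU)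
    have h2 := congrFun (congrArg DFunLike.coe h1) r
    show (X.presheaf.germ U (g' x') hxU (f.appLE V U hUV r)) • m =
      (f.stalkMap (g' x') (S.presheaf.germ V (f (g' x')) hsV r)) • m
    exact congrArg (· • m) h2.symm
  haveI hflR : Module.Flat Γ(S, V) M :=
    (Module.flat_iff_of_isLocalization (S.presheaf.stalk (f (g' x')))
      (hV.primeIdealOf ⟨f (g' x'), hsV⟩).asIdeal.primeCompl M).mp h
  -- module structures on `N`
  letI mA' : Module (S'.presheaf.stalk (f' x')) N := Module.compHom N (f'.stalkMap x').hom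
  letI c2 : Algebra Γ(S', V') (S'.presheaf.stalk (f' x')) :=
    S'.presheaf.algebra_section_stalk ⟨f' x', hs'V'⟩
  haveI l4 := hV'.isLocalization_stalk ⟨f' x', hs'V'⟩
  letI mR' : Module Γ(S', V') N := Module.compHom N (algebraMap Γ(S', V') (X'.presheaf.stalk x'))
  haveI t9 : IsScalarTower Γ(S', V') (X'.presheaf.stalk x') N :=
    IsScalarTower.of_algebraMap_smul fun r m => rfl
  haveI t10 : IsScalarTower Γ(S', V') (S'.presheaf.stalk (f' x')) N :=
    IsScalarTower.of_algebraMap_smul fun r m => rfl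
  have key : Module.Flat Γ(S', V') N :=
    flat_of_isPushout_of_isLocalization (R := Γ(S, V)) (D := Γ(X, U)) (R' := Γ(S', V'))
      (D' := Γ(X', g' ⁻¹ᵁ U ⊓ f' ⁻¹ᵁ V')) (B := X.presheaf.stalk (g' x'))
      (B' := X'.presheaf.stalk x') (hU.primeIdealOf ⟨g' x', hxU⟩).asIdeal.primeCompl M N e
  exact (Module.flat_iff_of_isLocalization (S'.presheaf.stalk (f' x'))
      (hV'.primeIdealOf ⟨f' x', hs'V'⟩).asIdeal.primeCompl N).mpr key

/-- Flatness of a morphism at a point is stable under base change: in a cartesian square, if `g`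
is flat at `f' x'` then `g'` is flat at `x'`. -/
theorem flat_stalkMap_baseChange (hc : IsPullback g' f' f g) (x' : X')
    (hg : (g.stalkMap (f' x')).hom.Flat) : (g'.stalkMap x').hom.Flat := by
  letI := (f'.stalkMap x').hom.toAlgebra
  exact flat_stalk_baseChange hc.flip x' (S'.presheaf.stalk (f' x')) (X'.presheaf.stalk x')
    (AlgebraTensorModule.rid (S'.presheaf.stalk (f' x')) (X'.presheaf.stalk x')
      (X'.presheaf.stalk x')).symm hg

/-- If `M` is flat over `S'` at `x'` and `g : S' ⟶ S` is flat at `f' x'`, then `M` is flat over `S`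
at `x'`. -/
theorem isFlatOverAt_comp_of_flat {X' S' S : Scheme.{u}} (f' : X' ⟶ S') (g : S' ⟶ S)
    (M : X'.Modules) (x' : X') (hg : (g.stalkMap (f' x')).hom.Flat)
    (h : FlatMod.IsFlatOverAt f' M x') : FlatMod.IsFlatOverAt (f' ≫ g) M x' := by
  letI a1 : Algebra (S.presheaf.stalk (g (f' x'))) (S'.presheaf.stalk (f' x')) :=
    (g.stalkMap (f' x')).hom.toAlgebra
  letI m1 : Module (S'.presheaf.stalk (f' x')) (M.presheaf.stalk x') :=
    Module.compHom _ (f'.stalkMap x').hom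
  letI m2 : Module (S.presheaf.stalk (g (f' x'))) (M.presheaf.stalk x') :=
    Module.compHom _ ((f' ≫ g).stalkMap x').hom
  haveI t : IsScalarTower (S.presheaf.stalk (g (f' x'))) (S'.presheaf.stalk (f' x'))
      (M.presheaf.stalk x') := by
    refine IsScalarTower.of_algebraMap_smul fun r m => ?_
    have h1 := congrArg CommRingCat.Hom.hom (Scheme.Hom.stalkMap_comp f' g x')
    have h2 := congrFun (congrArg DFunLike.coe h1) r
    show (f'.stalkMap x' (g.stalkMap (f' x') r)) • m = ((f' ≫ g).stalkMap x' r) • m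
    exact congrArg (· • m) h2.symm
  haveI : Module.Flat (S.presheaf.stalk (g (f' x'))) (S'.presheaf.stalk (f' x')) := hg
  haveI : Module.Flat (S'.presheaf.stalk (f' x')) (M.presheaf.stalk x') := h
  exact Module.Flat.trans (S.presheaf.stalk (g (f' x'))) (S'.presheaf.stalk (f' x'))
    (M.presheaf.stalk x')

end Groth.Agent.H8
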