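import Groth.Agent.H8.FlatBaseChange
import Groth.Agent.H8.QCohStalk
import Mathlib

/-!
Flatness of a quasi-coherent module over the base, in terms of sections over affine opens.
-/

set_option autoImplicit false
set_option linter.style.haveILetI false
universe u

open CategoryTheory CategoryTheory.Limits AlgebraicGeometry TopologicalSpace Opposite TensorProduct

namespace Groth.Agent.H8

section Algebra

/-- Flatness over `R` of a module over an `R`-algebra `D` can be checked after localizing at the
maximal ideals of `D`. -/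
theorem flat_of_forall_maximal_localized {R D : Type u} [CommRing R] [CommRing D] [Algebra R D]
    (N : Type u) [AddCommGroup N] [Module D N] [Module R N] [IsScalarTower R D N]
    (H : ∀ (P : Ideal D) [P.IsMaximal], Module.Flat R (LocalizedModule P.primeCompl N)) :
    Module.Flat R N :=
  Module.flat_of_isLocalized_maximal D N (fun P _ => LocalizedModule P.primeCompl N)
    (fun P _ => LocalizedModule.mkLinearMap P.primeCompl N) H

/-- A localization (with respect to a submonoid of `D`) of a `D`-module flat over `R` is flat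
over `R`. -/
theorem flat_of_isLocalizedModule_over {R D B : Type u} [CommRing R] [CommRing D] [CommRing B]
    [Algebra R D] [Algebra D B] [Algebra R B] [IsScalarTower R D B]
    (T : Submonoid D) [IsLocalization T B]
    (N : Type u) [AddCommGroup N] [Module D N] [Module R N] [IsScalarTower R D N]
    [Module.Flat R N]
    (Np : Type u) [AddCommGroup Np] [Module D Np] [Module B Np] [IsScalarTower D B Np]
    [Module R Np] [IsScalarTower R D Np]
    (l : N →ₗ[D] Np) [IsLocalizedModule T l] : Module.Flat R Np := by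
  haveI : Module.Flat D B := IsLocalization.flat B T
  haveI h1 : Module.Flat R (B ⊗[D] N) := flat_tensor_of_flat R D B N
  have hbc : IsBaseChange B l := IsLocalizedModule.isBaseChange T B l
  let e : B ⊗[D] N ≃ₗ[B] Np := hbc.equiv
  haveI : IsScalarTower R B Np := by
    refine ⟨fun r b n => ?_⟩
    rw [← algebraMap_smul D r (b • n), ← algebraMap_smul D r b, ← algebraMap_smul B
      (algebraMap R D r) (b • n), ← algebraMap_smul B (algebraMap R D r) b, smul_assoc]
  exact Module.Flat.of_linearEquiv (e.symm.restrictScalars R)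

end Algebra

section Scheme

variable {X S : Scheme.{u}} (f : X ⟶ S) (F : X.Modules)

/-- `IsFlatOverAt` in terms of the section ring of an affine open of the base. -/
theorem isFlatOverAt_iff_flat_sections_stalk {U : X.Opens} {V : S.Opens} (hV : IsAffineOpen V)
    (hUV : U ≤ f ⁻¹ᵁ V) (x : X) (hxU : x ∈ U) :
    FlatMod.IsFlatOverAt f F x ↔
      (letI := Module.compHom (F.presheaf.stalk x)
        ((X.presheaf.germ U x hxU).hom.comp (f.appLE V U hUV).hom)
       Module.Flat Γ(S, V) (F.presheaf.stalk x)) := by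
  letI mA : Module (S.presheaf.stalk (f x)) (F.presheaf.stalk x) :=
    Module.compHom _ (f.stalkMap x).hom
  letI c1 : Algebra Γ(S, V) (S.presheaf.stalk (f x)) :=
    S.presheaf.algebra_section_stalk ⟨f x, hUV hxU⟩
  haveI l3 := hV.isLocalization_stalk ⟨f x, hUV hxU⟩
  letI mR : Module Γ(S, V) (F.presheaf.stalk x) :=
    Module.compHom _ ((X.presheaf.germ U x hxU).hom.comp (f.appLE V U hUV).hom)
  haveI t : IsScalarTower Γ(S, V) (S.presheaf.stalk (f x)) (F.presheaf.stalk x) := by
    refine IsScalarTower.of_algebraMap_smul fun r m => ?_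
    have h1 := congrArg CommRingCat.Hom.hom (germ_stalkMap_eq f hUV x hxU)
    have h2 := congrFun (congrArg DFunLike.coe h1) r
    show (f.stalkMap x (S.presheaf.germ V (f x) (hUV hxU) r)) • m =
      (X.presheaf.germ U x hxU (f.appLE V U hUV r)) • m
    exact congrArg (· • m) h2
  exact Module.flat_iff_of_isLocalization (S.presheaf.stalk (f x))
    (hV.primeIdealOf ⟨f x, hUV hxU⟩).asIdeal.primeCompl (F.presheaf.stalk x)

variable [F.IsQuasicoherent]

/-- If the sections of `F` over an affine open `U ⊆ f⁻¹ V` are flat over `Γ(S, V)`, then `F` is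
flat over `S` at all points of `U`. -/
theorem isFlatOverAt_of_flat_sections {U : X.Opens} {V : S.Opens} (hU : IsAffineOpen U)
    (hV : IsAffineOpen V) (hUV : U ≤ f ⁻¹ᵁ V) (x : X) (hxU : x ∈ U)
    (h : letI := Module.compHom Γ(F, U) (f.appLE V U hUV).hom
      Module.Flat Γ(S, V) Γ(F, U)) : FlatMod.IsFlatOverAt f F x := by
  rw [isFlatOverAt_iff_flat_sections_stalk f F hV hUV x hxU]
  letI a1 : Algebra Γ(S, V) Γ(X, U) := (f.appLE V U hUV).hom.toAlgebra
  letI b1 : Algebra Γ(X, U) (X.presheaf.stalk x) := X.presheaf.algebra_section_stalk ⟨x, hxU⟩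
  letI b2 : Algebra Γ(S, V) (X.presheaf.stalk x) :=
    ((X.presheaf.germ U x hxU).hom.comp (f.appLE V U hUV).hom).toAlgebra
  haveI : IsScalarTower Γ(S, V) Γ(X, U) (X.presheaf.stalk x) := IsScalarTower.of_algebraMap_eq' rfl
  haveI := hU.isLocalization_stalk ⟨x, hxU⟩
  letI mN : Module Γ(S, V) Γ(F, U) := Module.compHom _ (f.appLE V U hUV).hom
  haveI : IsScalarTower Γ(S, V) Γ(X, U) Γ(F, U) := IsScalarTower.of_algebraMap_smul fun r m => rfl
  letI mD := moduleSectionStalk F x hxU
  haveI := isScalarTower_sectionStalk F x hxU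
  haveI := isLocalizedModule_germₗ F hU x hxU
  letI mR : Module Γ(S, V) (F.presheaf.stalk x) :=
    Module.compHom _ ((X.presheaf.germ U x hxU).hom.comp (f.appLE V U hUV).hom)
  haveI : IsScalarTower Γ(S, V) Γ(X, U) (F.presheaf.stalk x) :=
    IsScalarTower.of_algebraMap_smul fun r m => rfl
  haveI : Module.Flat Γ(S, V) Γ(F, U) := h
  exact flat_of_isLocalizedModule_over (R := Γ(S, V)) (D := Γ(X, U)) (B := X.presheaf.stalk x)
    (hU.primeIdealOf ⟨x, hxU⟩).asIdeal.primeCompl Γ(F, U) (F.presheaf.stalk x) (germₗ F x hxU)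

/-- If `F` is flat over `S` at all points of an affine open `U ⊆ f⁻¹ V`, then the sections of `F`
over `U` are flat over `Γ(S, V)`. -/
theorem flat_sections_of_isFlatOverAt {U : X.Opens} {V : S.Opens} (hU : IsAffineOpen U)
    (hV : IsAffineOpen V) (hUV : U ≤ f ⁻¹ᵁ V)
    (h : ∀ x ∈ U, FlatMod.IsFlatOverAt f F x) :
    letI := Module.compHom Γ(F, U) (f.appLE V U hUV).hom
    Module.Flat Γ(S, V) Γ(F, U) := by
  letI a1 : Algebra Γ(S, V) Γ(X, U) := (f.appLE V U hUV).hom.toAlgebra
  letI mN : Module Γ(S, V) Γ(F, U) := Module.compHom _ (f.appLE V U hUV).hom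
  haveI : IsScalarTower Γ(S, V) Γ(X, U) Γ(F, U) := IsScalarTower.of_algebraMap_smul fun r m => rfl
  refine flat_of_forall_maximal_localized (R := Γ(S, V)) (D := Γ(X, U)) Γ(F, U) ?_
  intro P hP
  obtain ⟨y, hy⟩ : ∃ y : PrimeSpectrum Γ(X, U), y.asIdeal = P := ⟨⟨P, hP.isPrime⟩, rfl⟩
  subst hy
  have hxU : hU.fromSpec y ∈ U := by
    rw [← SetLike.mem_coe, ← hU.range_fromSpec]
    exact ⟨y, rfl⟩
  have hprime : hU.primeIdealOf ⟨hU.fromSpec y, hxU⟩ = y := by
    apply hU.fromSpec.isOpenEmbedding.injective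
    rw [hU.fromSpec_primeIdealOf]
  have hflat := (isFlatOverAt_iff_flat_sections_stalk f F hV hUV (hU.fromSpec y) hxU).mp
    (h _ hxU)
  letI mD := moduleSectionStalk F (hU.fromSpec y) hxU
  haveI hloc := isLocalizedModule_germₗ F hU (hU.fromSpec y) hxU
  rw [hprime] at hloc
  letI mR : Module Γ(S, V) (F.presheaf.stalk (hU.fromSpec y)) :=
    Module.compHom _ ((X.presheaf.germ U (hU.fromSpec y) hxU).hom.comp (f.appLE V U hUV).hom)
  haveI : IsScalarTower Γ(S, V) Γ(X, U) (F.presheaf.stalk (hU.fromSpec y)) :=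
    IsScalarTower.of_algebraMap_smul fun r m => rfl
  haveI : Module.Flat Γ(S, V) (F.presheaf.stalk (hU.fromSpec y)) := hflat
  let e := IsLocalizedModule.linearEquiv y.asIdeal.primeCompl (germₗ F (hU.fromSpec y) hxU)
    (LocalizedModule.mkLinearMap y.asIdeal.primeCompl Γ(F, U))
  exact Module.Flat.of_linearEquiv (e.symm.restrictScalars Γ(S, V))

end Scheme

end Groth.Agent.H8
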