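import Mathlib
import Groth.Agent.H8.FlatAffine

/-!
Weakly étale algebras and localization.
-/

set_option autoImplicit false
universe u
open TensorProduct

namespace Groth.Agent.H8

/-- A localization is weakly étale. -/
theorem weaklyEtale_of_isLocalization {A : Type u} [CommRing A] (M : Submonoid A)
    (Aₘ : Type u) [CommRing Aₘ] [Algebra A Aₘ] [IsLocalization M Aₘ] :
    Algebra.WeaklyEtale A Aₘ := by
  haveI : Module.Flat A Aₘ := IsLocalization.flat Aₘ M
  refine ⟨inferInstance, ?_⟩
  have hepi : Algebra.IsEpi A Aₘ := by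
    rw [Algebra.isEpi_iff_forall_one_tmul_eq]
    intro a
    obtain ⟨⟨r, s⟩, hrs⟩ := IsLocalization.surj M a
    -- `a * s = r`
    obtain ⟨u, hu⟩ : ∃ u : Aₘ, u * algebraMap A Aₘ s = 1 :=
      ⟨_, (IsLocalization.map_units Aₘ s).val_inv_mul⟩
    have hu' : (s : A) • u = 1 := by rw [Algebra.smul_def, mul_comm]; exact hu
    have ha : a = r • u := by
      rw [Algebra.smul_def, ← hrs, mul_assoc, mul_comm (algebraMap A Aₘ s), hu, mul_one]
    have h1 : (1 : Aₘ) ⊗ₜ[A] u = u ⊗ₜ[A] (1 : Aₘ) := by
      calc (1 : Aₘ) ⊗ₜ[A] u = ((s : A) • u) ⊗ₜ[A] u := by rw [hu']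
        _ = u ⊗ₜ[A] ((s : A) • u) := by rw [TensorProduct.smul_tmul]
        _ = u ⊗ₜ[A] (1 : Aₘ) := by rw [hu']
    rw [ha, TensorProduct.tmul_smul, h1, TensorProduct.smul_tmul']
  refine RingHom.Flat.of_bijective ⟨?_, ?_⟩
  · exact hepi.injective_lift_mul
  · intro x
    exact ⟨x ⊗ₜ 1, by simp⟩

/-- Flatness of the multiplication map `B ⊗[A] B → B` can be checked after localizing at maximal
ideals of `B`. -/
theorem flat_lmul'_of_forall_maximal {A B : Type u} [CommRing A] [CommRing B] [Algebra A B]
    (H : ∀ (q : Ideal B) [q.IsMaximal], ∃ (B' : Type u) (_ : CommRing B') (_ : Algebra B B')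
      (_ : Algebra A B') (_ : IsScalarTower A B B') (_ : IsLocalization.AtPrime B' q),
      (Algebra.TensorProduct.lmul' A (S := B')).Flat) :
    (Algebra.TensorProduct.lmul' A (S := B)).Flat := by
  letI aR : Algebra (B ⊗[A] B) B := (Algebra.TensorProduct.lmul' A (S := B)).toRingHom.toAlgebra
  show Module.Flat (B ⊗[A] B) B
  haveI : IsScalarTower (B ⊗[A] B) B B := IsScalarTower.right
  refine flat_of_forall_maximal_localized (R := B ⊗[A] B) (D := B) B ?_
  intro q hq
  obtain ⟨B', _, _, _, _, hloc, hfl⟩ := H q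
  haveI := hloc
  -- the `B ⊗ B`-algebra `B' ⊗ B'`
  let g : B ⊗[A] B →ₐ[A] B' ⊗[A] B' :=
    Algebra.TensorProduct.map (IsScalarTower.toAlgHom A B B') (IsScalarTower.toAlgHom A B B')
  haveI : Module.Flat B B' := IsLocalization.flat B' q.primeCompl
  have hB : (algebraMap B B').Flat := RingHom.flat_algebraMap_iff.mpr inferInstance
  have hg : g.toRingHom.Flat := RingHom.Flat.tensorProductMap (f := IsScalarTower.toAlgHom A B B')
    (g := IsScalarTower.toAlgHom A B B') hB hB
  have hcomp : ((Algebra.TensorProduct.lmul' A (S := B')).toRingHom.comp g.toRingHom).Flat :=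
    RingHom.Flat.comp hg hfl
  have heq : (Algebra.TensorProduct.lmul' A (S := B')).toRingHom.comp g.toRingHom =
      (algebraMap B B').comp (Algebra.TensorProduct.lmul' A (S := B)).toRingHom := by
    apply RingHom.ext
    intro x
    show Algebra.TensorProduct.lmul' A (S := B') (g x) =
      algebraMap B B' (Algebra.TensorProduct.lmul' A (S := B) x)
    induction x using TensorProduct.induction_on with
    | zero => simp
    | tmul b c => simp [g]
    | add u v hu hv => rw [map_add, map_add, map_add, map_add, hu, hv]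
  rw [heq] at hcomp
  letI a3 : Algebra (B ⊗[A] B) B' :=
    ((algebraMap B B').comp (Algebra.TensorProduct.lmul' A (S := B)).toRingHom).toAlgebra
  haveI f3 : Module.Flat (B ⊗[A] B) B' := hcomp
  haveI t2 : IsScalarTower (B ⊗[A] B) B B' := IsScalarTower.of_algebraMap_eq fun x => rfl
  haveI : IsLocalizedModule q.primeCompl (Algebra.linearMap B B') :=
    (isLocalizedModule_iff_isLocalization' q.primeCompl B').mpr hloc
  let e := IsLocalizedModule.linearEquiv q.primeCompl (Algebra.linearMap B B')
    (LocalizedModule.mkLinearMap q.primeCompl B)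
  exact Module.Flat.of_linearEquiv (e.symm.restrictScalars (B ⊗[A] B))

end Groth.Agent.H8
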