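import Groth.Agent.H39.OmegaC
import Groth.Agent.H8.FinType
import Mathlib

/-!
Sections of the pullback of a quasi-coherent module over an affine open: a base change.
-/

set_option autoImplicit false
set_option linter.style.haveILetI false
universe u

open CategoryTheory CategoryTheory.Limits AlgebraicGeometry TopologicalSpace Opposite

namespace Groth.Agent.H8

section Ext

set_option backward.isDefEq.respectTransparency false in
/-- The underlying module of `extendScalars` is the tensor product. -/
noncomputable def extendScalarsEquiv {R S : Type u} [CommRing R] [CommRing S] (f : R →+* S)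
    (M : ModuleCat.{u} R) :
    letI := f.toAlgebra
    ((ModuleCat.extendScalars f).obj M) ≃ₗ[S] TensorProduct R S M :=
  letI := f.toAlgebra
  LinearEquiv.refl S _

end Ext

section PSI

variable {X' X : Scheme.{u}} (h : X' ⟶ X) (F : X.Modules) {U : X.Opens} (hU : IsAffineOpen U)
  {U' : X'.Opens} (hU' : IsAffineOpen U') (e : U' ≤ h ⁻¹ᵁ U)

/-- The restriction of `h^* F` to `Spec Γ(X', U')` is the tilde of a base change. -/
noncomputable def pullbackRestrictIso [F.IsQuasicoherent] :
    ((Scheme.Modules.pullback h).obj F).restrict hU'.fromSpec ≅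
      tilde ((ModuleCat.extendScalars (h.appLE U U' e).hom).obj
        ((modulesSpecToSheaf.obj (F.restrict hU.fromSpec)).presheaf.obj (.op ⊤))) :=
  haveI : (F.restrict hU.fromSpec).IsQuasicoherent :=
    Scheme.Modules.isQuasicoherent_restrictFunctor hU.fromSpec F
  haveI : IsIso (F.restrict hU.fromSpec).fromTildeΓ :=
    Scheme.Modules.isIso_fromTildeΓ_of_isQuasicoherent (F.restrict hU.fromSpec)
  (Scheme.Modules.restrictFunctorIsoPullback hU'.fromSpec).app _ ≪≫
  (Scheme.Modules.pullbackComp hU'.fromSpec h).app F ≪≫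
  (Scheme.Modules.pullbackCongr (hU.SpecMap_appLE_fromSpec h hU' e).symm).app F ≪≫
  ((Scheme.Modules.pullbackComp (Spec.map (h.appLE U U' e)) hU.fromSpec).app F).symm ≪≫
  (Scheme.Modules.pullback (Spec.map (h.appLE U U' e))).mapIso
    ((Scheme.Modules.restrictFunctorIsoPullback hU.fromSpec).app F).symm ≪≫
  (Scheme.Modules.pullback (Spec.map (h.appLE U U' e))).mapIso
    (asIso (F.restrict hU.fromSpec).fromTildeΓ).symm ≪≫
  (Groth.Agent.H39.OmegaC.pullbackTildeIso (h.appLE U U' e)).app _

set_option backward.isDefEq.respectTransparency false in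
/-- **Sections of a pullback over an affine open are a base change.** For `F` quasi-coherent on
`X`, `h : X' ⟶ X`, affine opens `U ⊆ X` and `U' ⊆ h⁻¹ U`, the `Γ(X', U')`-module `Γ(h^* F, U')`
is isomorphic to `Γ(X', U') ⊗_{Γ(X, U)} Γ(F, U)`. -/
noncomputable def sectionsPullbackEquiv [F.IsQuasicoherent] :
    letI := (h.appLE U U' e).hom.toAlgebra
    Γ((Scheme.Modules.pullback h).obj F, U') ≃ₗ[Γ(X', U')]
      TensorProduct Γ(X, U) Γ(X', U') Γ(F, U) :=
  letI := (h.appLE U U' e).hom.toAlgebra
  (sectionsRestrictEquiv hU' ((Scheme.Modules.pullback h).obj F)).symm ≪≫ₗ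
  ((moduleSpecΓFunctor (R := Γ(X', U'))).mapIso (pullbackRestrictIso h F hU hU' e)).toLinearEquiv ≪≫ₗ
  (tilde.isoTop _).symm.toLinearEquiv ≪≫ₗ
  extendScalarsEquiv (h.appLE U U' e).hom _ ≪≫ₗ
  LinearEquiv.baseChange Γ(X, U) Γ(X', U') _ _ (sectionsRestrictEquiv hU F)

end PSI

end Groth.Agent.H8
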