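import Groth.Agent.H8.FinType
import Groth.Agent.H8.CohAffine
import Mathlib.RingTheory.LocalProperties.FinitePresentation
import Mathlib.Algebra.Homology.ShortComplex.ModuleCat

/-!
# Finitely presented quasi-coherent modules have finitely presented sections on affine opens

`finitePresentation_sections_of_isAffineOpen`: for a module `M` of finite presentation on a
scheme `X` and an affine open `U`, `Γ(M, U)` is a finitely presented `Γ(X, U)`-module.
-/

set_option autoImplicit false
set_option linter.style.haveILetI false
universe u
open CategoryTheory CategoryTheory.Limits AlgebraicGeometry TopologicalSpace Opposite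
open AlgebraicGeometry.Scheme.Modules

namespace Groth.Agent.H8

section SpecCase

set_option backward.isDefEq.respectTransparency false in
/-- On `Spec R`, a module with a finite global presentation has finitely presented global
sections. -/
theorem spec_finitePresentation_of_presentation {R : CommRingCat.{u}} (N : (Spec R).Modules)
    (P : N.Presentation) [P.IsFinite] :
    Module.FinitePresentation R ((modulesSpecToSheaf.obj N).presheaf.obj (.op ⊤)) := by
  let g := (tilde.functor R).preimage <| (tildeFinsupp _).hom ≫ P.relations.π ≫ kernel.ι _ ≫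
    (tildeFinsupp _).inv
  let iso : cokernel ((tilde.functor R).map g) ≅ cokernel (P.relations.π ≫ kernel.ι _) := by
    refine cokernel.mapIso _ _ (tildeFinsupp _) (tildeFinsupp _) ?_
    simp only [g, (tilde.functor R).map_preimage]
    simp
  let e : (tilde.functor R).obj (cokernel g) ≅ N :=
    PreservesCokernel.iso (tilde.functor R) g ≪≫ iso ≪≫
      IsColimit.coconePointUniqueUpToIso (colimit.isColimit _) P.isColimit
  let e2 : cokernel g ≅ moduleSpecΓFunctor.obj N :=
    tilde.toTildeΓNatIso.app (cokernel g) ≪≫ moduleSpecΓFunctor.mapIso e
  haveI : Finite P.generators.I := SheafOfModules.GeneratingSections.IsFiniteType.finite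
  haveI : Finite P.relations.I := SheafOfModules.GeneratingSections.IsFiniteType.finite
  let C : ModuleCat.{u} R := cokernel g
  have hfp : Module.FinitePresentation R C := by
    haveI : Module.FinitePresentation R (P.generators.I →₀ R) :=
      Module.finitePresentation_of_projective _ _
    refine Module.finitePresentation_of_surjective (cokernel.π g).hom
      ((ModuleCat.epi_iff_surjective _).mp inferInstance) ?_
    have hS : (ShortComplex.mk g (cokernel.π g) (cokernel.condition g)).Exact :=
      ShortComplex.exact_of_g_is_cokernel _ (cokernelIsCokernel g)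
    rw [ShortComplex.moduleCat_exact_iff_range_eq_ker] at hS
    rw [← hS]
    exact Submodule.fg_range _
  exact Module.FinitePresentation.of_equiv e2.toLinearEquiv

end SpecCase

section Cover

set_option backward.isDefEq.respectTransparency false in
/-- A module of finite presentation on a scheme has, on an affine open cover, finite global
presentations. -/
lemma exists_isOpenCover_finite_presentation {X : Scheme.{u}} (M : X.Modules)
    [SheafOfModules.IsFinitePresentation (R := X.ringCatSheaf) M] :
    ∃ (ι : Type u) (U : ι → X.Opens),
      (∀ i, ∃ P : (M.restrict (U i).ι).Presentation, P.IsFinite) ∧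
      IsOpenCover U ∧ (∀ i, IsAffineOpen (U i)) := by
  obtain ⟨σ, hσ⟩ := SheafOfModules.IsFinitePresentation.exists_quasicoherentData M
  choose κ hsub heq using fun i ↦ Opens.isBasis_iff_cover.mp X.isBasis_affineOpens (σ.X i)
  refine ⟨Σ (i : σ.I), κ i, fun j ↦ j.2, fun i ↦ ?_, ?_, ?_⟩
  · let u := X.homOfLE (U := i.2) (V := σ.X i.1) (by simp [heq, le_sSup])
    have : PreservesColimitsOfSize.{u, u} (restrictFunctor u) := inferInstance
    let F := (overEquiv (σ.X i.1)).functor ⋙ restrictFunctor u
    let iso : SheafOfModules.overFunctor X.ringCatSheaf _ ⋙ F ≅ restrictFunctor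
      (Scheme.Opens.ι i.2.1) := (Functor.associator _ _ _).symm ≪≫
        Functor.isoWhiskerRight (Scheme.Modules.overFunctorEquiv _) _ ≪≫
        (restrictFunctorComp _ _).symm ≪≫ (restrictFunctorCongr (by simp [u]))
    haveI := hσ.isFinite_presentation i.1
    haveI : ((σ.presentation i.1).map F (Scheme.Modules.restrictUnitIso _).symm).IsFinite :=
      ⟨⟨inferInstanceAs (Finite (σ.presentation i.1).generators.I)⟩,
        ⟨inferInstanceAs (Finite (σ.presentation i.1).relations.I)⟩⟩
    exact ⟨SheafOfModules.Presentation.ofIsIso.{u, u, u} (iso.app M).hom <|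
      (σ.presentation i.1).map F (Scheme.Modules.restrictUnitIso _).symm, inferInstance⟩
  · have cov := σ.coversTop
    rw [Opens.coversTop_iff, IsOpenCover] at cov
    rw [IsOpenCover, iSup_sigma, ← cov]
    refine iSup_congr fun i ↦ ?_
    rw [heq i, sSup_eq_iSup']
  · intro j
    exact hsub _ j.2.2

end Cover

section Main

set_option backward.isDefEq.respectTransparency false in
lemma exists_presentation_fromSpec {X : Scheme.{u}} (M : X.Modules) {V : X.Opens}
    (hV : IsAffineOpen V) (P : (M.restrict V.ι).Presentation) [P.IsFinite] :
    ∃ P' : (M.restrict hV.fromSpec).Presentation, P'.IsFinite := by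
  let P1 := presentationRestrict hV.isoSpec.inv P
  haveI : P1.IsFinite :=
    ⟨⟨inferInstanceAs (Finite P.generators.I)⟩, ⟨inferInstanceAs (Finite P.relations.I)⟩⟩
  let e : (M.restrict V.ι).restrict hV.isoSpec.inv ≅ M.restrict hV.fromSpec :=
    ((restrictFunctorComp hV.isoSpec.inv V.ι).app M).symm ≪≫
      (restrictFunctorCongr (hV.isoSpec_inv_ι)).app M
  exact ⟨SheafOfModules.Presentation.ofIsIso.{u, u, u} e.hom P1, inferInstance⟩

variable {X : Scheme.{u}} (M : X.Modules) [M.IsQuasicoherent]

/-- Finite presentation passes to basic opens. -/
lemma finitePresentation_basicOpen {U : X.Opens} (hU : IsAffineOpen U) (a : Γ(X, U))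
    (h : Module.FinitePresentation Γ(X, U) Γ(M, U)) :
    Module.FinitePresentation Γ(X, X.basicOpen a) Γ(M, X.basicOpen a) := by
  letI := moduleSectionBasicOpen M a
  haveI := isScalarTower_sectionBasicOpen M a
  haveI := hU.isLocalization_basicOpen a
  haveI := isLocalizedModule_resBasicOpenₗ hU M a
  exact FinitePresentation.of_isBaseChange (resBasicOpenₗ M a)
    ((isLocalizedModule_iff_isBaseChange (Submonoid.powers a) _ _).mp inferInstance)

/-- Finite presentation can be checked on a cover by basic opens. -/
lemma finitePresentation_of_span {U : X.Opens} (hU : IsAffineOpen U) (s : Set Γ(X, U))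
    (hs : Ideal.span s = ⊤)
    (h : ∀ a : s, Module.FinitePresentation Γ(X, X.basicOpen a.1) Γ(M, X.basicOpen a.1)) :
    Module.FinitePresentation Γ(X, U) Γ(M, U) := by
  letI := fun a : s => moduleSectionBasicOpen M a.1
  haveI := fun a : s => isScalarTower_sectionBasicOpen M a.1
  haveI := fun a : s => hU.isLocalization_basicOpen a.1
  haveI := fun a : s => isLocalizedModule_resBasicOpenₗ hU M a.1
  exact Module.FinitePresentation.of_localizationSpan' s hs (fun a => resBasicOpenₗ M a.1) h

omit [M.IsQuasicoherent] in
/-- **Modules of finite presentation have finitely presented sections over affine opens.** -/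
theorem finitePresentation_sections_of_isAffineOpen
    [SheafOfModules.IsFinitePresentation (R := X.ringCatSheaf) M] {U : X.Opens}
    (hU : IsAffineOpen U) : Module.FinitePresentation Γ(X, U) Γ(M, U) := by
  obtain ⟨ι, W, hP, hcov, hW⟩ := exists_isOpenCover_finite_presentation M
  refine of_affine_open_cover
    (P := fun V : X.affineOpens => Module.FinitePresentation Γ(X, V.1) Γ(M, V.1))
    (fun i => ⟨W i, hW i⟩) hcov.iSup_eq_top ⟨U, hU⟩ ?_ ?_ ?_
  · intro V a h
    exact finitePresentation_basicOpen M V.2 a h
  · intro V s hs h
    exact finitePresentation_of_span M V.2 (s : Set Γ(X, V.1)) hs h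
  · intro i
    obtain ⟨P, hPf⟩ := hP i
    obtain ⟨P', hP'⟩ := exists_presentation_fromSpec M (hW i) P
    haveI := spec_finitePresentation_of_presentation _ P'
    exact Module.FinitePresentation.of_equiv (sectionsRestrictEquiv (hW i) M)

end Main

end Groth.Agent.H8
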