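import Groth.Agent.H8.SectionsExact
import Groth.Agent.H8.IsoCover
import Groth.Agent.H53.ModEpi

/-!
# Stalk maps of morphisms of `O_X`-modules: injectivity / surjectivity in terms of the stalks of
the kernel / cokernel
-/

set_option autoImplicit false
set_option linter.style.haveILetI false
universe u
open CategoryTheory CategoryTheory.Limits AlgebraicGeometry TopologicalSpace Opposite

namespace Groth.Agent.H8

variable {X : Scheme.{u}} {G F : X.Modules} (φ : G ⟶ F) (x : X)

/-- The map induced on stalks by a morphism of modules. -/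
noncomputable def stalkMap : G.presheaf.stalk x ⟶ F.presheaf.stalk x :=
  (TopCat.Presheaf.stalkFunctor Ab x).map φ.mapPresheaf

lemma stalkMap_germ {U : X.Opens} (hx : x ∈ U) (m : Γ(G, U)) :
    stalkMap φ x (G.presheaf.germ U x hx m) = F.presheaf.germ U x hx (φ.app U m) :=
  TopCat.Presheaf.stalkFunctor_map_germ_apply U x hx φ.mapPresheaf m

/-- A section with zero germ vanishes on a neighbourhood. -/
lemma exists_res_eq_zero_of_germ_eq_zero (M : X.Modules) {U : X.Opens} (hx : x ∈ U) (m : Γ(M, U))
    (h : M.presheaf.germ U x hx m = 0) :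
    ∃ (V : X.Opens) (hVU : V ≤ U), x ∈ V ∧ M.presheaf.map (homOfLE hVU).op m = 0 := by
  have h0 : M.presheaf.germ U x hx m = M.presheaf.germ U x hx 0 := by rw [h, map_zero]
  obtain ⟨W, hxW, iU, _iV, hW⟩ := TopCat.Presheaf.germ_eq M.presheaf x hx hx m 0 h0
  rw [map_zero] at hW
  exact ⟨W, leOfHom iU, hxW, hW⟩

lemma germ_res (M : X.Modules) {U V : X.Opens} (hVU : V ≤ U) (hx : x ∈ V) (m : Γ(M, U)) :
    M.presheaf.germ V x hx (M.presheaf.map (homOfLE hVU).op m) =
      M.presheaf.germ U x (hVU hx) m :=
  TopCat.Presheaf.germ_res_apply M.presheaf (homOfLE hVU) x hx m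

lemma subsingleton_stalk_iff (M : X.Modules) :
    Subsingleton ↑(M.presheaf.stalk x) ↔ ∀ t : ↑(M.presheaf.stalk x), t = 0 :=
  ⟨fun _ t => Subsingleton.elim _ _, fun h => ⟨fun a b => (h a).trans (h b).symm⟩⟩

theorem stalkMap_injective_iff :
    Function.Injective (stalkMap φ x) ↔ Subsingleton ↑((kernel φ).presheaf.stalk x) := by
  let S : ShortComplex X.Modules := ShortComplex.mk (kernel.ι φ) φ (kernel.condition φ)
  have hS : S.Exact := ShortComplex.exact_of_f_is_kernel S (kernelIsKernel φ)
  haveI : Mono S.f := inferInstanceAs (Mono (kernel.ι φ))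
  rw [subsingleton_stalk_iff]
  constructor
  · intro hinj t
    obtain ⟨U, hxU, k, rfl⟩ := TopCat.Presheaf.exists_germ_eq (kernel φ).presheaf t
    have h1 : stalkMap φ x (stalkMap (kernel.ι φ) x ((kernel φ).presheaf.germ U x hxU k)) = 0 := by
      rw [stalkMap_germ, stalkMap_germ]
      have : φ.app U ((kernel.ι φ).app U k) = 0 := app_comp_eq_zero S U k
      rw [this, map_zero]
    have h2 : stalkMap (kernel.ι φ) x ((kernel φ).presheaf.germ U x hxU k) = 0 :=
      hinj (h1.trans (map_zero _).symm)
    rw [stalkMap_germ] at h2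
    obtain ⟨V, hVU, hxV, hV⟩ := exists_res_eq_zero_of_germ_eq_zero x G hxU _ h2
    rw [← app_res] at hV
    have h3 : (kernel φ).presheaf.map (homOfLE hVU).op k = 0 :=
      app_injective_of_mono (kernel.ι φ) V (hV.trans (map_zero _).symm)
    rw [← germ_res x (kernel φ) hVU hxV, h3, map_zero]
  · intro hK a b hab
    suffices h : ∀ g : ↑(G.presheaf.stalk x), stalkMap φ x g = 0 → g = 0 by
      have := h (a - b) (by rw [map_sub, hab, sub_self])
      exact sub_eq_zero.mp this
    intro g hg
    obtain ⟨U, hxU, g, rfl⟩ := TopCat.Presheaf.exists_germ_eq G.presheaf g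
    rw [stalkMap_germ] at hg
    obtain ⟨V, hVU, hxV, hV⟩ := exists_res_eq_zero_of_germ_eq_zero x F hxU _ hg
    rw [← app_res] at hV
    obtain ⟨k, hk⟩ := exists_app_eq_of_exact S hS V _ hV
    have hk' : (kernel.ι φ).app V k = G.presheaf.map (homOfLE hVU).op g := hk
    rw [← germ_res x G hVU hxV, ← hk', ← stalkMap_germ,
      hK ((kernel φ).presheaf.germ V x hxV k), map_zero]

theorem stalkMap_surjective_iff :
    Function.Surjective (stalkMap φ x) ↔ Subsingleton ↑((cokernel φ).presheaf.stalk x) := by
  let S : ShortComplex X.Modules := ShortComplex.mk φ (cokernel.π φ) (cokernel.condition φ)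
  let S' : ShortComplex X.Modules :=
    ShortComplex.mk (Abelian.image.ι φ) (cokernel.π φ) (kernel.condition (cokernel.π φ))
  have hS' : S'.Exact := ShortComplex.exact_of_f_is_kernel S' (kernelIsKernel (cokernel.π φ))
  haveI : Mono S'.f := inferInstanceAs (Mono (Abelian.image.ι φ))
  have hfac : Abelian.factorThruImage φ ≫ Abelian.image.ι φ = φ := Abelian.image.fac φ
  rw [subsingleton_stalk_iff]
  constructor
  · intro hsurj t
    obtain ⟨U, hxU, q, rfl⟩ := TopCat.Presheaf.exists_germ_eq (cokernel φ).presheaf t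
    obtain ⟨V, hVU, f, hxV, hf⟩ :=
      Groth.Agent.H53.modules_epi_locally_surjective (cokernel.π φ) U q x hxU
    obtain ⟨gx, hgx⟩ := hsurj (F.presheaf.germ V x hxV f)
    obtain ⟨V', hxV', g', rfl⟩ := TopCat.Presheaf.exists_germ_eq G.presheaf gx
    rw [stalkMap_germ] at hgx
    obtain ⟨W, hxW, iV', iV, hW⟩ := TopCat.Presheaf.germ_eq F.presheaf x hxV' hxV _ _ hgx
    have hW' : F.presheaf.map (homOfLE (leOfHom iV')).op (φ.app V' g') =
        F.presheaf.map (homOfLE (leOfHom iV)).op f := hW
    rw [← app_res] at hW'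
    have h1 : (cokernel φ).presheaf.map (homOfLE ((leOfHom iV).trans hVU)).op q = 0 := by
      have h2 : (cokernel φ).presheaf.map (homOfLE ((leOfHom iV).trans hVU)).op q =
          (cokernel φ).presheaf.map (homOfLE (leOfHom iV)).op
            ((cokernel φ).presheaf.map (homOfLE hVU).op q) := by
        rw [← ConcreteCategory.comp_apply, ← Functor.map_comp]
        rfl
      rw [h2, ← hf, ← app_res, ← hW']
      exact app_comp_eq_zero S W _
    rw [← germ_res x (cokernel φ) ((leOfHom iV).trans hVU) hxW, h1, map_zero]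
  · intro hQ fx
    obtain ⟨U, hxU, f, rfl⟩ := TopCat.Presheaf.exists_germ_eq F.presheaf fx
    have h0 : (cokernel φ).presheaf.germ U x hxU ((cokernel.π φ).app U f) = 0 := hQ _
    obtain ⟨V, hVU, hxV, hV⟩ := exists_res_eq_zero_of_germ_eq_zero x (cokernel φ) hxU _ h0
    rw [← app_res] at hV
    obtain ⟨k, hk⟩ := exists_app_eq_of_exact S' hS' V _ hV
    have hk' : (Abelian.image.ι φ).app V k = F.presheaf.map (homOfLE hVU).op f := hk
    obtain ⟨W, hWV, g, hxW, hg⟩ :=
      Groth.Agent.H53.modules_epi_locally_surjective (Abelian.factorThruImage φ) V k x hxV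
    refine ⟨G.presheaf.germ W x hxW g, ?_⟩
    rw [stalkMap_germ]
    have h1 : φ.app W g = F.presheaf.map (homOfLE (hWV.trans hVU)).op f := by
      have h2 : φ.app W g = (Abelian.image.ι φ).app W ((Abelian.factorThruImage φ).app W g) := by
        conv_lhs => rw [← hfac]
        rfl
      rw [h2, hg, app_res, hk', ← ConcreteCategory.comp_apply, ← Functor.map_comp]
      rfl
    rw [h1, germ_res]

theorem stalkMap_bijective_iff :
    Function.Bijective (stalkMap φ x) ↔ Subsingleton ↑((kernel φ).presheaf.stalk x) ∧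
      Subsingleton ↑((cokernel φ).presheaf.stalk x) := by
  rw [Function.Bijective, stalkMap_injective_iff, stalkMap_surjective_iff]

end Groth.Agent.H8
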