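import Mathlib
import Groth.Prelude.Def_CohB1

/-!
Zero modules and stalks.
-/

set_option autoImplicit false
universe u
open CategoryTheory CategoryTheory.Limits AlgebraicGeometry TopologicalSpace Opposite

namespace Groth.Agent.H8

variable {X : Scheme.{u}}

/-- A module all of whose stalks vanish is zero. -/
theorem isZero_of_subsingleton_stalk (M : X.Modules)
    (h : ∀ x : X, Subsingleton (M.presheaf.stalk x)) : IsZero M := by
  rw [IsZero.iff_id_eq_zero]
  apply SheafOfModules.hom_ext
  apply PresheafOfModules.hom_ext
  intro U
  ext s
  show s = 0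
  let F : TopCat.Sheaf AddCommGrpCat.{u} X := ⟨M.presheaf, M.isSheaf⟩
  refine TopCat.Presheaf.section_ext F U.unop s 0 (fun y hy => ?_)
  haveI := h y
  exact Subsingleton.elim _ _

/-- The stalks of a zero module vanish. -/
theorem subsingleton_stalk_of_isZero (M : X.Modules) (h : IsZero M) (x : X) :
    Subsingleton (M.presheaf.stalk x) := by
  refine ⟨fun a b => ?_⟩
  have hz : ∀ c : M.presheaf.stalk x, c = 0 := by
    intro c
    obtain ⟨U, hxU, s, rfl⟩ := TopCat.Presheaf.exists_germ_eq M.presheaf c
    have h1 : (𝟙 M : M ⟶ M) = 0 := (IsZero.iff_id_eq_zero M).mp h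
    have h2 : s = 0 := by
      have := congrArg (fun φ : M ⟶ M => φ.app U s) h1
      exact this
    rw [h2, map_zero]
  rw [hz a, hz b]

/-- A module is zero iff its support is empty. -/
theorem isZero_iff_support_eq_empty (M : X.Modules) : IsZero M ↔ CohB1.support M = ∅ := by
  constructor
  · intro h
    ext x
    simp only [Set.mem_empty_iff_false, iff_false]
    intro hx
    exact hx (subsingleton_stalk_of_isZero M h x)
  · intro h
    apply isZero_of_subsingleton_stalk
    intro x
    by_contra hne
    have : x ∈ CohB1.support M := hne
    rw [h] at this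
    exact this

end Groth.Agent.H8
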