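import Groth.Agent.H8.AssPoints2
import Groth.Agent.H8.SectionsExact
import Groth.Prelude.Def_FDesc

/-!
# Associated points of quasi-coherent modules on locally Noetherian schemes
-/

set_option autoImplicit false
set_option linter.style.haveILetI false
universe u
open CategoryTheory CategoryTheory.Limits AlgebraicGeometry TopologicalSpace Opposite

namespace Groth.Agent.H8

section Affine

variable {X : Scheme.{u}} {U : X.Opens} (hU : IsAffineOpen U) (M : X.Modules) [M.IsQuasicoherent]

include hU in
/-- On a Noetherian affine open `U`, a point `x ∈ U` is associated to the quasi-coherent module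
`M` iff its prime is an associated prime of `Γ(M, U)`. -/
theorem isAssPoint_iff_isAssociatedPrime [IsNoetherianRing Γ(X, U)] (x : X) (hxU : x ∈ U) :
    Curv2.IsAssPoint M x ↔ IsAssociatedPrime (hU.primeIdealOf ⟨x, hxU⟩).asIdeal Γ(M, U) := by
  letI := X.presheaf.algebra_section_stalk ⟨x, hxU⟩
  haveI := hU.isLocalization_stalk ⟨x, hxU⟩
  letI := moduleSectionStalk M x hxU
  haveI := isScalarTower_sectionStalk M x hxU
  haveI := isLocalizedModule_germₗ M hU x hxU
  have hcomap : (IsLocalRing.maximalIdeal (X.presheaf.stalk x)).comap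
      (algebraMap Γ(X, U) (X.presheaf.stalk x)) = (hU.primeIdealOf ⟨x, hxU⟩).asIdeal :=
    IsLocalization.AtPrime.comap_maximalIdeal _ _
  constructor
  · intro h
    have h2 := Module.associatedPrimes.comap_mem_associatedPrimes_of_mem_associatedPrimes_of_isLocalizedModule_of_fg
      (hU.primeIdealOf ⟨x, hxU⟩).asIdeal.primeCompl (germₗ M x hxU)
      (IsLocalRing.maximalIdeal (X.presheaf.stalk x)) h
      ((isNoetherianRing_iff_ideal_fg _).mp inferInstance _)
    rw [hcomap] at h2
    exact h2
  · intro h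
    refine Module.associatedPrimes.mem_associatedPrimes_of_comap_mem_associatedPrimes_of_isLocalizedModule
      (hU.primeIdealOf ⟨x, hxU⟩).asIdeal.primeCompl (germₗ M x hxU) _ ?_
    rw [hcomap]
    exact h

include hU in
omit [M.IsQuasicoherent] in
/-- If the prime of `x` lies in the radical of the annihilator of the section `s` over the affine
open `U`, the germ of `s` vanishes at every point of `U` which is not a specialisation of `x`. -/
lemma germ_eq_zero_of_not_specializes (x : X) (hxU : x ∈ U) (s : Γ(M, U))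
    (hs : (hU.primeIdealOf ⟨x, hxU⟩).asIdeal ≤
      (Submodule.colon (⊥ : Submodule Γ(X, U) Γ(M, U)) {s}).radical)
    (y : X) (hyU : y ∈ U) (hxy : ¬ x ⤳ y) : M.presheaf.germ U y hyU s = 0 := by
  have hnle : ¬ (hU.primeIdealOf ⟨x, hxU⟩).asIdeal ≤ (hU.primeIdealOf ⟨y, hyU⟩).asIdeal := by
    intro hle
    apply hxy
    have h1 := pointOfPrime_specializes hU (hU.primeIdealOf ⟨x, hxU⟩).asIdeal y hyU hle
    rwa [pointOfPrime_primeIdealOf] at h1
  obtain ⟨a, hax, hay⟩ := SetLike.not_le_iff_exists.mp hnle
  obtain ⟨n, hn⟩ := hs hax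
  rw [Submodule.mem_colon_singleton, Submodule.mem_bot] at hn
  letI := X.presheaf.algebra_section_stalk ⟨y, hyU⟩
  haveI := hU.isLocalization_stalk ⟨y, hyU⟩
  have hmem : a ^ n ∈ (hU.primeIdealOf ⟨y, hyU⟩).asIdeal.primeCompl :=
    Submonoid.pow_mem _ hay n
  have hu : IsUnit (algebraMap Γ(X, U) (X.presheaf.stalk y) (a ^ n)) :=
    IsLocalization.map_units (X.presheaf.stalk y)
      (⟨a ^ n, hmem⟩ : (hU.primeIdealOf ⟨y, hyU⟩).asIdeal.primeCompl)
  have h0 : X.presheaf.germ U y hyU (a ^ n) • M.presheaf.germ U y hyU s = 0 := by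
    rw [← germ_smul, hn, map_zero]
  exact (IsUnit.smul_eq_zero hu).mp h0

include hU in
/-- An associated point `x` of `M` in a Noetherian affine open `U` comes with a nonzero section of
`M` over `U` whose germs vanish outside the closure of `x`. -/
theorem exists_section_of_isAssPoint [IsNoetherianRing Γ(X, U)] (x : X) (hxU : x ∈ U)
    (h : Curv2.IsAssPoint M x) :
    ∃ s : Γ(M, U), s ≠ 0 ∧
      ∀ (y : X) (hyU : y ∈ U), ¬ x ⤳ y → M.presheaf.germ U y hyU s = 0 := by
  obtain ⟨hp, s, hs⟩ := (isAssPoint_iff_isAssociatedPrime hU M x hxU).mp h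
  refine ⟨s, ?_, fun y hyU hxy =>
    germ_eq_zero_of_not_specializes hU M x hxU s hs.le y hyU hxy⟩
  rintro rfl
  apply hp.ne_top
  rw [hs, Ideal.radical_eq_top, Ideal.eq_top_iff_one, Submodule.mem_colon_singleton]
  simp

end Affine

section Global

variable {X : Scheme.{u}} [IsLocallyNoetherian X]

/-- The stalk of a module at an associated point is nontrivial. -/
lemma nontrivial_stalk_of_isAssPoint (M : X.Modules) (x : X) (h : Curv2.IsAssPoint M x) :
    Nontrivial (M.presheaf.stalk x) := by
  by_contra hnt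
  rw [not_nontrivial_iff_subsingleton] at hnt
  exact not_isAssociatedPrime_of_subsingleton h

/-- Associated points of a quasi-coherent submodule are associated points. -/
theorem isAssPoint_of_mono {M N : X.Modules} [M.IsQuasicoherent] [N.IsQuasicoherent]
    (φ : M ⟶ N) [Mono φ] (x : X) (h : Curv2.IsAssPoint M x) : Curv2.IsAssPoint N x := by
  obtain ⟨_, ⟨U, hU, rfl⟩, hxU, -⟩ := X.isBasis_affineOpens.exists_subset_of_mem_open
    (Set.mem_univ x) isOpen_univ
  haveI : IsNoetherianRing Γ(X, U) := IsLocallyNoetherian.component_noetherian ⟨U, hU⟩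
  rw [isAssPoint_iff_isAssociatedPrime hU M x hxU] at h
  rw [isAssPoint_iff_isAssociatedPrime hU N x hxU]
  exact h.map_of_injective (appₗ φ U) (appₗ_injective_of_mono φ U)

/-- Associated points of the middle term of a left exact sequence of quasi-coherent modules are
associated points of one of the outer terms. -/
theorem isAssPoint_of_exact (S : ShortComplex X.Modules) (hS : S.Exact) [Mono S.f]
    [S.X₁.IsQuasicoherent] [S.X₂.IsQuasicoherent] [S.X₃.IsQuasicoherent] (x : X)
    (h : Curv2.IsAssPoint S.X₂ x) : Curv2.IsAssPoint S.X₁ x ∨ Curv2.IsAssPoint S.X₃ x := by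
  obtain ⟨_, ⟨U, hU, rfl⟩, hxU, -⟩ := X.isBasis_affineOpens.exists_subset_of_mem_open
    (Set.mem_univ x) isOpen_univ
  haveI : IsNoetherianRing Γ(X, U) := IsLocallyNoetherian.component_noetherian ⟨U, hU⟩
  rw [isAssPoint_iff_isAssociatedPrime hU S.X₂ x hxU] at h
  rw [isAssPoint_iff_isAssociatedPrime hU S.X₁ x hxU, isAssPoint_iff_isAssociatedPrime hU S.X₃ x hxU]
  exact associatedPrimes.subset_union_of_exact (appₗ_injective_of_mono S.f U)
    (appₗ_exact S hS U) h

/-- Every point of the support of a quasi-coherent module on a locally Noetherian scheme is a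
specialisation of an associated point. -/
theorem exists_isAssPoint_specializes (M : X.Modules) [M.IsQuasicoherent] (y : X)
    [hy : Nontrivial (M.presheaf.stalk y)] : ∃ z, Curv2.IsAssPoint M z ∧ z ⤳ y := by
  obtain ⟨_, ⟨U, hU, rfl⟩, hyU, -⟩ := X.isBasis_affineOpens.exists_subset_of_mem_open
    (Set.mem_univ y) isOpen_univ
  haveI : IsNoetherianRing Γ(X, U) := IsLocallyNoetherian.component_noetherian ⟨U, hU⟩
  letI := X.presheaf.algebra_section_stalk ⟨y, hyU⟩
  haveI := hU.isLocalization_stalk ⟨y, hyU⟩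
  letI := moduleSectionStalk M y hyU
  haveI := isScalarTower_sectionStalk M y hyU
  haveI := isLocalizedModule_germₗ M hU y hyU
  obtain ⟨Q, hQ⟩ := associatedPrimes.nonempty (X.presheaf.stalk y) (M.presheaf.stalk y)
  haveI hQprime : Q.IsPrime := hQ.isPrime
  have hq := Module.associatedPrimes.comap_mem_associatedPrimes_of_mem_associatedPrimes_of_isLocalizedModule_of_fg
      (hU.primeIdealOf ⟨y, hyU⟩).asIdeal.primeCompl (germₗ M y hyU) Q hQ
      ((isNoetherianRing_iff_ideal_fg _).mp inferInstance _)
  haveI hqprime : (Q.comap (X.presheaf.germ U y hyU).hom).IsPrime := Ideal.comap_isPrime _ Q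
  have hzU : pointOfPrime hU (Q.comap (X.presheaf.germ U y hyU).hom) ∈ U :=
    pointOfPrime_mem hU _
  refine ⟨pointOfPrime hU (Q.comap (X.presheaf.germ U y hyU).hom), ?_,
    pointOfPrime_specializes hU _ y hyU (comap_le_primeIdealOf hU y hyU Q)⟩
  rw [isAssPoint_iff_isAssociatedPrime hU M _ hzU]
  have hpz : (hU.primeIdealOf ⟨pointOfPrime hU (Q.comap (X.presheaf.germ U y hyU).hom), hzU⟩).asIdeal
      = Q.comap (X.presheaf.germ U y hyU).hom :=
    congrArg PrimeSpectrum.asIdeal (primeIdealOf_pointOfPrime hU _)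
  rw [hpz]
  exact hq

end Global

end Groth.Agent.H8
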