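import Groth.Agent.H8.LocFreeSections
import Mathlib.RingTheory.Flat.Stability

/-!
# Stalks of quasi-coherent modules: flatness, finiteness, freeness; local freeness from a free
stalk
-/

set_option autoImplicit false
set_option linter.style.haveILetI false
universe u
open CategoryTheory CategoryTheory.Limits AlgebraicGeometry TopologicalSpace Opposite
open AlgebraicGeometry.Scheme.Modules

namespace Groth.Agent.H8

section Algebra

/-- A finitely presented module with a free localisation at `S` becomes free of finite rank after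
inverting a single `r ∈ S`. -/
lemma exists_free_away_of_free {R : Type u} [CommRing R] (P : Type u) [AddCommGroup P]
    [Module R P] [Module.FinitePresentation R P] (S : Submonoid R)
    (Rₛ : Type u) [CommRing Rₛ] [Algebra R Rₛ] [IsLocalization S Rₛ] [Nontrivial Rₛ]
    {P' : Type u} [AddCommGroup P'] [Module R P'] [Module Rₛ P'] [IsScalarTower R Rₛ P']
    (f : P →ₗ[R] P') [IsLocalizedModule S f] [Module.Free Rₛ P'] :
    ∃ r ∈ S, ∃ n : ℕ, Nonempty (LocalizedModule.Away r P ≃ₗ[Localization.Away r]
      (Fin n → Localization.Away r)) := by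
  obtain ⟨r, hr, hfree, -⟩ :=
    Module.FinitePresentation.exists_free_localizedModule_powers S f Rₛ
  haveI := hfree
  haveI : Nontrivial (Localization (.powers r)) :=
    (show Localization (.powers r) →+* Rₛ from
      IsLocalization.map (M := .powers r) (T := S) _ (RingHom.id _)
        (Submonoid.powers_le.mpr hr)).domain_nontrivial
  exact ⟨r, hr, _, ⟨(Module.finBasis (Localization.Away r) (LocalizedModule.Away r P)).equivFun⟩⟩

end Algebra

variable {X : Scheme.{u}} (F : X.Modules) [F.IsQuasicoherent] {U : X.Opens} (hU : IsAffineOpen U)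

include hU in
/-- Stalks of a quasi-coherent module with flat sections are flat. -/
theorem flat_stalk_of_flat_sections [Module.Flat Γ(X, U) Γ(F, U)] (x : X) (hx : x ∈ U) :
    Module.Flat (X.presheaf.stalk x) (F.presheaf.stalk x) := by
  letI := X.presheaf.algebra_section_stalk ⟨x, hx⟩
  haveI := hU.isLocalization_stalk ⟨x, hx⟩
  letI := moduleSectionStalk F x hx
  haveI := isScalarTower_sectionStalk F x hx
  haveI := isLocalizedModule_germₗ F hU x hx
  exact Module.Flat.of_isLocalizedModule (X.presheaf.stalk x)
    (hU.primeIdealOf ⟨x, hx⟩).asIdeal.primeCompl (germₗ F x hx)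

include hU in
/-- Stalks of a quasi-coherent module with finite sections are finite. -/
theorem finite_stalk_of_finite_sections [Module.Finite Γ(X, U) Γ(F, U)] (x : X) (hx : x ∈ U) :
    Module.Finite (X.presheaf.stalk x) (F.presheaf.stalk x) := by
  letI := X.presheaf.algebra_section_stalk ⟨x, hx⟩
  haveI := hU.isLocalization_stalk ⟨x, hx⟩
  letI := moduleSectionStalk F x hx
  haveI := isScalarTower_sectionStalk F x hx
  haveI := isLocalizedModule_germₗ F hU x hx
  exact Module.Finite.of_isLocalizedModule
    (hU.primeIdealOf ⟨x, hx⟩).asIdeal.primeCompl (germₗ F x hx)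

include hU in
/-- Stalks of a quasi-coherent module with finite flat sections are free. -/
theorem free_stalk_of_finite_flat_sections [Module.Finite Γ(X, U) Γ(F, U)]
    [Module.Flat Γ(X, U) Γ(F, U)] (x : X) (hx : x ∈ U) :
    Module.Free (X.presheaf.stalk x) (F.presheaf.stalk x) := by
  haveI := flat_stalk_of_flat_sections F hU x hx
  haveI := finite_stalk_of_finite_sections F hU x hx
  exact Module.free_of_flat_of_isLocalRing

set_option backward.isDefEq.respectTransparency false in
include hU in
/-- If `Γ(F, U)` is finitely presented and the stalk `F_x` is free, then `F` is free of finite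
rank on a basic open neighbourhood of `x`. -/
theorem exists_basicOpen_restrict_iso_freeMod_of_free_stalk
    [Module.FinitePresentation Γ(X, U) Γ(F, U)] (x : X) (hx : x ∈ U)
    [Module.Free (X.presheaf.stalk x) (F.presheaf.stalk x)] :
    ∃ f : Γ(X, U), x ∈ X.basicOpen f ∧ ∃ n : ℕ,
      Nonempty (F.restrict (X.basicOpen f).ι ≅ FlatMod.freeMod (X.basicOpen f) n) := by
  obtain ⟨r, hr, n, ⟨e⟩⟩ : ∃ r ∈ (hU.primeIdealOf ⟨x, hx⟩).asIdeal.primeCompl, ∃ n : ℕ,
      Nonempty (LocalizedModule.Away r Γ(F, U) ≃ₗ[Localization.Away r]
        (Fin n → Localization.Away r)) := by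
    letI := X.presheaf.algebra_section_stalk ⟨x, hx⟩
    haveI := hU.isLocalization_stalk ⟨x, hx⟩
    letI := moduleSectionStalk F x hx
    haveI := isScalarTower_sectionStalk F x hx
    haveI := isLocalizedModule_germₗ F hU x hx
    exact exists_free_away_of_free Γ(F, U) (hU.primeIdealOf ⟨x, hx⟩).asIdeal.primeCompl
      (X.presheaf.stalk x) (germₗ F x hx)
  refine ⟨r, (mem_basicOpen_iff_notMem_primeIdealOf hU x hx r).mpr hr, n, ?_⟩
  letI := moduleSectionBasicOpen F r
  haveI : IsScalarTower Γ(X, U) Γ(X, X.basicOpen r) Γ(F, X.basicOpen r) :=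
    IsScalarTower.of_algebraMap_smul fun _ _ => rfl
  haveI := isLocalizedModule_resBasicOpenₗ hU F r
  haveI : IsLocalization (Submonoid.powers r) Γ(X, X.basicOpen r) := hU.isLocalization_basicOpen r
  exact nonempty_restrict_iso_freeMod (hU.basicOpen r) F n
    (linearEquivOfIsLocalizedModule (Submonoid.powers r)
      (LocalizedModule.mkLinearMap (Submonoid.powers r) Γ(F, U)) (resBasicOpenₗ F r) e)

end Groth.Agent.H8
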