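import Groth.Agent.H8.LocFree
import Groth.Agent.H8.FPAffine
import Mathlib.RingTheory.Flat.Localization
import Mathlib.RingTheory.Flat.EquationalCriterion

/-!
# Sections of finite locally free modules over affine opens are finite projective
-/

set_option autoImplicit false
set_option linter.style.haveILetI false
universe u
open CategoryTheory CategoryTheory.Limits AlgebraicGeometry TopologicalSpace Opposite
open AlgebraicGeometry.Scheme.Modules

namespace Groth.Agent.H8

variable {X : Scheme.{u}} (F : X.Modules) [F.IsQuasicoherent]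

/-- Flatness of sections can be checked on a cover by basic opens. -/
lemma flat_of_span {U : X.Opens} (hU : IsAffineOpen U) (s : Set Γ(X, U))
    (hs : Ideal.span s = ⊤)
    (h : ∀ a : s, Module.Flat Γ(X, X.basicOpen a.1) Γ(F, X.basicOpen a.1)) :
    Module.Flat Γ(X, U) Γ(F, U) := by
  letI := fun a : s => moduleSectionBasicOpen F a.1
  haveI := fun a : s => isScalarTower_sectionBasicOpen F a.1
  haveI := fun a : s => hU.isLocalization_basicOpen a.1
  haveI := fun a : s => isLocalizedModule_resBasicOpenₗ hU F a.1
  refine Module.flat_of_isLocalized_span Γ(X, U) Γ(F, U) s hs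
    (fun a => Γ(F, X.basicOpen a.1)) (fun a => resBasicOpenₗ F a.1) (fun a => ?_)
  exact (Module.flat_iff_of_isLocalization Γ(X, X.basicOpen a.1) (Submonoid.powers a.1)
    Γ(F, X.basicOpen a.1)).mp (h a)

/-- The sections of a finite locally free quasi-coherent module over an affine open form a
finitely presented projective module. -/
theorem finitePresentation_projective_sections_of_isFinLocFree (hF : FlatMod.IsFinLocFree F)
    {U : X.Opens} (hU : IsAffineOpen U) :
    Module.FinitePresentation Γ(X, U) Γ(F, U) ∧ Module.Projective Γ(X, U) Γ(F, U) := by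
  let s : Set Γ(X, U) := {r | ∃ n : ℕ, Nonempty (Γ(F, X.basicOpen r) ≃ₗ[Γ(X, X.basicOpen r)]
    (Fin n → Γ(X, X.basicOpen r)))}
  have hs : Ideal.span s = ⊤ := by
    apply hU.self_le_iSup_basicOpen_iff.mp
    intro x hx
    obtain ⟨V, n, hxV, ⟨e⟩⟩ := hF x
    obtain ⟨r, hrV, hxr⟩ := hU.exists_basicOpen_le ⟨x, hxV⟩ hx
    have hr : r ∈ s := ⟨n, nonempty_sections_equiv_of_le F e hrV⟩
    exact Opens.mem_iSup.mpr ⟨⟨r, hr⟩, hxr⟩
  have hfp : Module.FinitePresentation Γ(X, U) Γ(F, U) := by
    refine finitePresentation_of_span F hU s hs (fun a => ?_)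
    obtain ⟨n, ⟨e⟩⟩ := a.2
    exact Module.FinitePresentation.of_equiv e.symm
  have hflat : Module.Flat Γ(X, U) Γ(F, U) := by
    refine flat_of_span F hU s hs (fun a => ?_)
    obtain ⟨n, ⟨e⟩⟩ := a.2
    exact Module.Flat.of_linearEquiv e
  exact ⟨hfp, Module.Flat.projective_of_finitePresentation⟩

end Groth.Agent.H8
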