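import Groth.Agent.H8.SemilocalFree
import Groth.Agent.H8.LocFreeSections

/-!
# Locally free modules of constant rank are free near finitely many points of an affine open
-/

set_option autoImplicit false
set_option linter.style.haveILetI false
universe u
open CategoryTheory CategoryTheory.Limits AlgebraicGeometry TopologicalSpace Opposite
open AlgebraicGeometry.Scheme.Modules

namespace Groth.Agent.H8

variable {X : Scheme.{u}}

set_option backward.isDefEq.respectTransparency false in
/-- Finite locally free modules are quasi-coherent. -/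
theorem isQuasicoherent_of_isFinLocFree (E : X.Modules) (hE : FlatMod.IsFinLocFree E) :
    E.IsQuasicoherent := by
  have hcov : IsOpenCover (fun i : {U : X.affineOpens // ∃ n : ℕ,
      Nonempty (E.restrict (U : X.Opens).ι ≅ FlatMod.freeMod (↑(U : X.Opens)) n)} =>
      ((i.1 : X.affineOpens) : X.Opens)) := by
    refine eq_top_iff.mpr fun x _ => ?_
    obtain ⟨W, n, hxW, ⟨e⟩⟩ := hE x
    obtain ⟨U, hU, hxU, hUW⟩ := exists_isAffineOpen_mem_and_subset (x := x) (U := W) hxW
    exact Opens.mem_iSup.mpr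
      ⟨⟨⟨U, hU⟩, n, nonempty_restrict_iso_freeMod_of_le E hUW n e⟩, hxU⟩
  have hP : ∀ i : {U : X.affineOpens // ∃ n : ℕ,
      Nonempty (E.restrict (U : X.Opens).ι ≅ FlatMod.freeMod (↑(U : X.Opens)) n)},
      Nonempty (E.restrict ((i.1 : X.affineOpens) : X.Opens).ι).Presentation := by
    rintro ⟨U, n, ⟨e⟩⟩
    haveI : (E.restrict U.2.fromSpec).IsQuasicoherent := by
      have i1 : E.restrict U.2.fromSpec ≅ FlatMod.freeMod (Spec Γ(X, (U : X.Opens))) n :=
        (restrictFunctorCongr (U.2.isoSpec_inv_ι).symm).app E ≪≫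
          (restrictFunctorComp U.2.isoSpec.inv (U : X.Opens).ι).app E ≪≫
          (restrictFunctor U.2.isoSpec.inv).mapIso e ≪≫ restrictFreeIso U.2.isoSpec.inv n
      exact (SheafOfModules.isQuasicoherent (Spec Γ(X, (U : X.Opens))).ringCatSheaf).prop_of_iso
        i1.symm (isQuasicoherent_freeMod _ n)
    exact nonempty_presentation_restrict_ι U.2 E
  exact isQuasicoherent_of_presentation_cover E _ hcov (fun i => (hP i).some)

lemma isFinLocFree_of_isFinLocFreeOfRank {r : ℕ} {E : X.Modules}
    (hE : FlatMod.IsFinLocFreeOfRank r E) : FlatMod.IsFinLocFree E := fun x => by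
  obtain ⟨U, hx, h⟩ := hE x
  exact ⟨U, r, hx, h⟩

set_option backward.isDefEq.respectTransparency false in
/-- The sections over an affine open of a locally free module of rank `r` have rank `r` at every
prime. -/
theorem rankAtStalk_sections_of_isFinLocFreeOfRank (E : X.Modules) [E.IsQuasicoherent] (r : ℕ)
    (hE : FlatMod.IsFinLocFreeOfRank r E) {V : X.Opens} (hV : IsAffineOpen V)
    [Module.Finite Γ(X, V) Γ(E, V)] [Module.Flat Γ(X, V) Γ(E, V)]
    (q : PrimeSpectrum Γ(X, V)) : Module.rankAtStalk (R := Γ(X, V)) Γ(E, V) q = r := by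
  have hyV : hV.fromSpec q ∈ V := by
    have := Set.mem_range_self (f := hV.fromSpec) q
    rwa [hV.range_fromSpec] at this
  obtain ⟨W, hyW, ⟨e⟩⟩ := hE (hV.fromSpec q)
  obtain ⟨f, hfW, hyf⟩ := hV.exists_basicOpen_le ⟨hV.fromSpec q, hyW⟩ hyV
  obtain ⟨eD⟩ := nonempty_sections_equiv_of_le E e hfW
  have hfq : q ∈ PrimeSpectrum.basicOpen f := by
    have : q ∈ hV.fromSpec ⁻¹ᵁ X.basicOpen f := hyf
    rwa [hV.fromSpec_preimage_basicOpen] at this
  letI := moduleSectionBasicOpen E f
  haveI : IsScalarTower Γ(X, V) Γ(X, X.basicOpen f) Γ(E, X.basicOpen f) :=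
    IsScalarTower.of_algebraMap_smul fun _ _ => rfl
  haveI := isLocalizedModule_resBasicOpenₗ hV E f
  haveI : IsLocalization.Away f Γ(X, X.basicOpen f) := hV.isLocalization_basicOpen f
  obtain ⟨p, hp⟩ : q ∈ Set.range (PrimeSpectrum.comap (algebraMap Γ(X, V) Γ(X, X.basicOpen f))) := by
    rw [PrimeSpectrum.localization_away_comap_range Γ(X, X.basicOpen f) f]
    exact hfq
  have h1 := Module.rankAtStalk_isBaseChange
    (IsLocalizedModule.isBaseChange (Submonoid.powers f) Γ(X, X.basicOpen f)
      (resBasicOpenₗ E f)) p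
  rw [hp] at h1
  rw [← h1, Module.rankAtStalk_eq_of_equiv eD]
  haveI : Nontrivial Γ(X, X.basicOpen f) := p.nontrivial
  have := congrFun (Module.rankAtStalk_eq_finrank_of_free (R := Γ(X, X.basicOpen f))
    (M := Fin r → Γ(X, X.basicOpen f))) p
  rw [this]
  simp

set_option backward.isDefEq.respectTransparency false in
/-- A locally free module of rank `r` is free of rank `r` on a neighbourhood of any finite set of
points contained in an affine open. -/
theorem exists_restrict_iso_freeMod_near_finite (E : X.Modules) (r : ℕ)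
    (hE : FlatMod.IsFinLocFreeOfRank r E) (Z : Set X) (hZ : Z.Finite) {V : X.Opens}
    (hV : IsAffineOpen V) (hZV : Z ⊆ V) :
    ∃ U : X.Opens, Z ⊆ U ∧ U ≤ V ∧
      Nonempty (E.restrict U.ι ≅ FlatMod.freeMod (U : Scheme.{u}) r) := by
  classical
  have hflf := isFinLocFree_of_isFinLocFreeOfRank hE
  haveI := isQuasicoherent_of_isFinLocFree E hflf
  obtain ⟨hfp, hproj⟩ := finitePresentation_projective_sections_of_isFinLocFree E hflf hV
  haveI := hfp
  haveI := hproj
  have hrank := rankAtStalk_sections_of_isFinLocFreeOfRank E r hE hV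
  let ps : Finset (Ideal Γ(X, V)) := hZ.toFinset.attach.image
    (fun z => (hV.primeIdealOf ⟨z.1, hZV (hZ.mem_toFinset.mp z.2)⟩).asIdeal)
  have hps : ∀ p ∈ ps, p.IsPrime := by
    intro p hp
    obtain ⟨z, -, rfl⟩ := Finset.mem_image.mp hp
    exact (hV.primeIdealOf _).isPrime
  obtain ⟨s, hs, ⟨e⟩⟩ := exists_free_away_of_rankAtStalk_eq Γ(E, V) r hrank ps hps
  refine ⟨X.basicOpen s, ?_, X.basicOpen_le s, ?_⟩
  · intro z hz
    refine (mem_basicOpen_iff_notMem_primeIdealOf hV z (hZV hz) s).mpr ?_
    exact hs _ (Finset.mem_image.mpr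
      ⟨⟨z, hZ.mem_toFinset.mpr hz⟩, Finset.mem_attach _ _, rfl⟩)
  · letI := moduleSectionBasicOpen E s
    haveI : IsScalarTower Γ(X, V) Γ(X, X.basicOpen s) Γ(E, X.basicOpen s) :=
      IsScalarTower.of_algebraMap_smul fun _ _ => rfl
    haveI := isLocalizedModule_resBasicOpenₗ hV E s
    haveI : IsLocalization (Submonoid.powers s) Γ(X, X.basicOpen s) :=
      hV.isLocalization_basicOpen s
    exact nonempty_restrict_iso_freeMod (hV.basicOpen s) E r
      (linearEquivOfIsLocalizedModule (Submonoid.powers s)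
        (LocalizedModule.mkLinearMap (Submonoid.powers s) Γ(E, V)) (resBasicOpenₗ E s) e)

end Groth.Agent.H8
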