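import Groth.Agent.H8.LocFreeStalk
import Mathlib.RingTheory.LocalRing.Module
import Mathlib.LinearAlgebra.Dimension.OrzechProperty
import Mathlib.RingTheory.Localization.Integer
import Mathlib.RingTheory.Localization.Module
import Groth.Agent.H8.CohAffine

/-!
# Local freeness from generators of a stalk

* `exists_basicOpen_span_eq_top`: sections whose germs generate the stalk at `x` generate on a
  basic open neighbourhood of `x` (for a quasi-coherent module with finite sections).
* `exists_affine_sections_germ_eq`: finitely many elements of a stalk are germs of sections over a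
  common affine open neighbourhood.
* `linearIndependent_of_stalks`, `linearIndependent_of_fibres`: linear independence of sections
  checked on stalks / on fibres (reduced case).
-/

set_option autoImplicit false
set_option linter.style.haveILetI false
universe u
open CategoryTheory CategoryTheory.Limits AlgebraicGeometry TopologicalSpace Opposite
open AlgebraicGeometry.Scheme.Modules

namespace Groth.Agent.H8

section Algebra

lemma exists_smul_mem_span_of_span_localized {A K M V : Type*} [CommRing A] [CommRing K]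
    [Algebra A K] (S : Submonoid A) [IsLocalization S K]
    [AddCommGroup M] [Module A M] [AddCommGroup V] [Module A V] [Module K V] [IsScalarTower A K V]
    (g : M →ₗ[A] V) [IsLocalizedModule S g] {ι : Type*} [Fintype ι] (s : ι → M)
    (hspan : Submodule.span K (Set.range (fun i => g (s i))) = ⊤) (m : M) :
    ∃ a ∈ S, a • m ∈ Submodule.span A (Set.range s) := by
  have hm : g m ∈ Submodule.span K (Set.range (fun i => g (s i))) := by rw [hspan]; trivial
  obtain ⟨k, hk⟩ := (Submodule.mem_span_range_iff_exists_fun K).mp hm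
  obtain ⟨d, hd⟩ := IsLocalization.exist_integer_multiples S Finset.univ k
  choose c hc using fun i => hd i (Finset.mem_univ i)
  have hz : g ((d : A) • m) = g (∑ i, c i • s i) := by
    rw [_root_.map_smul, map_sum, ← hk, Finset.smul_sum]
    refine Finset.sum_congr rfl fun i _ => ?_
    rw [_root_.map_smul, ← algebraMap_smul K (c i) (g (s i)), hc i, smul_assoc]
  obtain ⟨a, ha⟩ := IsLocalizedModule.exists_of_eq (S := S) hz
  refine ⟨a * d, S.mul_mem a.2 d.2, ?_⟩
  rw [mul_smul]
  have h1 : (a : A) • ((d : A) • m) = (a : A) • ∑ i, c i • s i := ha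
  rw [h1]
  exact Submodule.smul_mem _ _ (Submodule.sum_mem _ fun i _ =>
    Submodule.smul_mem _ _ (Submodule.subset_span ⟨i, rfl⟩))

lemma exists_smul_all_mem {A M : Type*} [CommRing A] [AddCommGroup M] [Module A M]
    [Module.Finite A M] (S : Submonoid A) (N : Submodule A M)
    (h : ∀ m : M, ∃ a ∈ S, a • m ∈ N) : ∃ f ∈ S, ∀ m : M, f • m ∈ N := by
  classical
  obtain ⟨T, hT⟩ := (Module.Finite.fg_top : (⊤ : Submodule A M).FG)
  choose a haS ha using h
  refine ⟨∏ t ∈ T, a t, S.prod_mem (fun t _ => haS t), ?_⟩
  intro m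
  have hm : m ∈ Submodule.span A (T : Set M) := by rw [hT]; trivial
  have hle : Submodule.span A (T : Set M) ≤ N.comap (LinearMap.lsmul A M (∏ t ∈ T, a t)) := by
    rw [Submodule.span_le]
    intro t ht
    change (∏ t ∈ T, a t) • t ∈ N
    obtain ⟨q, hq⟩ : a t ∣ ∏ t ∈ T, a t := Finset.dvd_prod_of_mem a ht
    rw [hq, mul_comm, mul_smul]
    exact N.smul_mem _ (ha t)
  exact hle hm

open TensorProduct in
/-- Generators of a module over a local ring give generators of the fibre. -/
lemma span_tmul_eq_top {R : Type*} [CommRing R] [IsLocalRing R] {N : Type*} [AddCommGroup N]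
    [Module R N] {ι : Type*} (f : ι → N) (hf : Submodule.span R (Set.range f) = ⊤) :
    Submodule.span (IsLocalRing.ResidueField R)
      (Set.range fun i => (1 : IsLocalRing.ResidueField R) ⊗ₜ[R] f i) = ⊤ := by
  have h1 : (Submodule.span R (Set.range f)).map
      (TensorProduct.mk R (IsLocalRing.ResidueField R) N 1) = ⊤ := by
    rw [hf, Submodule.map_top, LinearMap.range_eq_top]
    exact TensorProduct.mk_surjective R N _ Ideal.Quotient.mk_surjective
  rw [Submodule.map_span, ← Set.range_comp] at h1
  rw [← Submodule.restrictScalars_eq_top_iff (S := R) (R := IsLocalRing.ResidueField R),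
    Submodule.restrictScalars_span R (IsLocalRing.ResidueField R)
      (IsLocalRing.residue_surjective (R := R))]
  exact h1

end Algebra

section Sheaf

variable {X : Scheme.{u}} (F : X.Modules)

/-- Finitely many elements of a stalk are germs of sections over a common affine open
neighbourhood, which may be chosen inside a given neighbourhood. -/
theorem exists_affine_sections_germ_eq (x : X) (W₀ : X.Opens) (hxW : x ∈ W₀) {n : ℕ}
    (v : Fin n → F.presheaf.stalk x) :
    ∃ (U : X.Opens) (_ : IsAffineOpen U) (hxU : x ∈ U), U ≤ W₀ ∧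
      ∃ s : Fin n → Γ(F, U), ∀ i, F.presheaf.germ U x hxU (s i) = v i := by
  choose W hxWi t ht using fun i => TopCat.Presheaf.exists_germ_eq F.presheaf (v i)
  have hmem : x ∈ W₀ ⊓ ⨅ i, W i := by
    refine ⟨hxW, ?_⟩
    change x ∈ ((⨅ i, W i : X.Opens) : Set X)
    rw [Opens.coe_iInf]
    exact Set.mem_iInter.mpr hxWi
  obtain ⟨U, hU, hxU, hUW⟩ := exists_isAffineOpen_mem_and_subset hmem
  have hUW' : U ≤ W₀ ⊓ ⨅ i, W i := hUW
  have hUi : ∀ i, U ≤ W i := fun i => hUW'.trans (inf_le_right.trans (iInf_le W i))
  refine ⟨U, hU, hxU, hUW'.trans inf_le_left,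
    fun i => F.presheaf.map (homOfLE (hUi i)).op (t i), fun i => ?_⟩
  rw [TopCat.Presheaf.germ_res_apply F.presheaf (homOfLE (hUi i)) x hxU (t i)]
  exact ht i

/-- Linear independence of sections can be checked on stalks. -/
theorem linearIndependent_of_stalks {U : X.Opens} {n : ℕ} (t : Fin n → Γ(F, U))
    (h : ∀ (y : X) (hy : y ∈ U), LinearIndependent (X.presheaf.stalk y)
      (fun i => F.presheaf.germ U y hy (t i))) :
    LinearIndependent Γ(X, U) t := by
  rw [Fintype.linearIndependent_iff]
  intro c hc i
  refine TopCat.Presheaf.section_ext X.sheaf U (c i) 0 (fun y hy => ?_)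
  rw [map_zero]
  have h1 := congrArg (F.presheaf.germ U y hy) hc
  rw [map_sum, map_zero] at h1
  have h2 : ∑ j, X.presheaf.germ U y hy (c j) • F.presheaf.germ U y hy (t j) = 0 := by
    rw [← h1]
    exact Finset.sum_congr rfl fun j _ => (germ_smul F y hy (c j) (t j)).symm
  exact (Fintype.linearIndependent_iff.mp (h y hy)) _ h2 i

open TensorProduct in
/-- On a reduced scheme, linear independence of sections can be checked on fibres. -/
theorem linearIndependent_of_fibres [IsReduced X] {U : X.Opens} {n : ℕ} (t : Fin n → Γ(F, U))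
    (h : ∀ (y : X) (hy : y ∈ U), LinearIndependent (IsLocalRing.ResidueField (X.presheaf.stalk y))
      (fun i => (1 : IsLocalRing.ResidueField (X.presheaf.stalk y)) ⊗ₜ[X.presheaf.stalk y]
        F.presheaf.germ U y hy (t i))) :
    LinearIndependent Γ(X, U) t := by
  rw [Fintype.linearIndependent_iff]
  intro c hc i
  rw [← basicOpen_eq_bot_iff, eq_bot_iff]
  intro y hy
  have hyU : y ∈ U := X.basicOpen_le _ hy
  have hunit : IsUnit (X.presheaf.germ U y hyU (c i)) := (Scheme.mem_basicOpen _ _ _ hyU).mp hy
  have h1 := congrArg (F.presheaf.germ U y hyU) hc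
  rw [map_sum, map_zero] at h1
  have h2 : ∑ j, X.presheaf.germ U y hyU (c j) • F.presheaf.germ U y hyU (t j) = 0 := by
    rw [← h1]
    exact Finset.sum_congr rfl fun j _ => (germ_smul F y hyU (c j) (t j)).symm
  have h3 : ∑ j, IsLocalRing.residue (X.presheaf.stalk y) (X.presheaf.germ U y hyU (c j)) •
      ((1 : IsLocalRing.ResidueField (X.presheaf.stalk y)) ⊗ₜ[X.presheaf.stalk y]
        F.presheaf.germ U y hyU (t j)) = 0 := by
    have h4 := congrArg (TensorProduct.mk (X.presheaf.stalk y)
      (IsLocalRing.ResidueField (X.presheaf.stalk y)) (F.presheaf.stalk y) 1) h2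
    rw [map_sum, map_zero] at h4
    rw [← h4]
    refine Finset.sum_congr rfl fun j _ => ?_
    rw [_root_.map_smul]
    exact (algebraMap_smul (IsLocalRing.ResidueField (X.presheaf.stalk y))
      (X.presheaf.germ U y hyU (c j)) _)
  have h5 := (Fintype.linearIndependent_iff.mp (h y hyU)) _ h3 i
  have h6 : X.presheaf.germ U y hyU (c i) ∈ IsLocalRing.maximalIdeal (X.presheaf.stalk y) :=
    (IsLocalRing.residue_eq_zero_iff _).mp h5
  exact ((IsLocalRing.mem_maximalIdeal _).mp h6) hunit

variable [F.IsQuasicoherent] {U : X.Opens} (hU : IsAffineOpen U)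

include hU in
/-- Generators of `Γ(F, U)` give generators of the stalks at points of `U`. -/
theorem span_germ_eq_top_of_span_eq_top {n : ℕ} (t : Fin n → Γ(F, U))
    (ht : Submodule.span Γ(X, U) (Set.range t) = ⊤) (y : X) (hy : y ∈ U) :
    Submodule.span (X.presheaf.stalk y) (Set.range fun i => F.presheaf.germ U y hy (t i)) = ⊤ := by
  letI := X.presheaf.algebra_section_stalk ⟨y, hy⟩
  haveI := hU.isLocalization_stalk ⟨y, hy⟩
  letI := moduleSectionStalk F y hy
  haveI := isScalarTower_sectionStalk F y hy
  haveI := isLocalizedModule_germₗ F hU y hy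
  have h := span_eq_top_of_isLocalizedModule (X.presheaf.stalk y)
    (hU.primeIdealOf ⟨y, hy⟩).asIdeal.primeCompl (germₗ F y hy) ht
  rw [← Set.range_comp] at h
  exact h

set_option backward.isDefEq.respectTransparency false in
include hU in
/-- Sections whose germs generate the stalk at `x` generate on a basic open neighbourhood. -/
theorem exists_basicOpen_span_eq_top [Module.Finite Γ(X, U) Γ(F, U)] (x : X) (hx : x ∈ U)
    {n : ℕ} (s : Fin n → Γ(F, U))
    (hspan : Submodule.span (X.presheaf.stalk x)
      (Set.range fun i => F.presheaf.germ U x hx (s i)) = ⊤) :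
    ∃ b : Γ(X, U), x ∈ X.basicOpen b ∧
      Submodule.span Γ(X, X.basicOpen b)
        (Set.range fun i => F.presheaf.map (homOfLE (X.basicOpen_le b)).op (s i)) = ⊤ := by
  obtain ⟨b, hbS, hb⟩ : ∃ b ∈ (hU.primeIdealOf ⟨x, hx⟩).asIdeal.primeCompl,
      ∀ m : Γ(F, U), b • m ∈ Submodule.span Γ(X, U) (Set.range s) := by
    letI := X.presheaf.algebra_section_stalk ⟨x, hx⟩
    haveI := hU.isLocalization_stalk ⟨x, hx⟩
    letI := moduleSectionStalk F x hx
    haveI := isScalarTower_sectionStalk F x hx
    haveI := isLocalizedModule_germₗ F hU x hx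
    exact exists_smul_all_mem (hU.primeIdealOf ⟨x, hx⟩).asIdeal.primeCompl
      (Submodule.span Γ(X, U) (Set.range s))
      (fun m => exists_smul_mem_span_of_span_localized
        (hU.primeIdealOf ⟨x, hx⟩).asIdeal.primeCompl (germₗ F x hx) s hspan m)
  refine ⟨b, (mem_basicOpen_iff_notMem_primeIdealOf hU x hx b).mpr hbS, ?_⟩
  have hV₀ : X.basicOpen b ≤ U := X.basicOpen_le b
  rw [eq_top_iff]
  intro m _
  obtain ⟨k, m', hm'⟩ := exists_smul_eq_res hU F b m
  obtain ⟨c, hc⟩ := (Submodule.mem_span_range_iff_exists_fun _).mp (hb m')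
  have hu : IsUnit (X.presheaf.map (homOfLE hV₀).op b) :=
    RingedSpace.isUnit_res_basicOpen X.toRingedSpace b
  have h1 : (X.presheaf.map (homOfLE hV₀).op b) ^ (k + 1) • m =
      ∑ i, X.presheaf.map (homOfLE hV₀).op (c i) • F.presheaf.map (homOfLE hV₀).op (s i) := by
    rw [pow_succ', mul_smul, hm', ← Scheme.Modules.map_smul, ← hc, map_sum]
    refine Finset.sum_congr rfl fun i _ => ?_
    exact Scheme.Modules.map_smul F (homOfLE hV₀) (c i) (s i)
  obtain ⟨u, hu'⟩ := (hu.pow (k + 1)).exists_left_inv
  have h2 : m = u • ∑ i, X.presheaf.map (homOfLE hV₀).op (c i) •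
      F.presheaf.map (homOfLE hV₀).op (s i) := by
    rw [← h1, smul_smul, hu', one_smul]
  rw [h2]
  exact Submodule.smul_mem _ _ (Submodule.sum_mem _ fun i _ =>
    Submodule.smul_mem _ _ (Submodule.subset_span ⟨i, rfl⟩))

end Sheaf

section Assembly

variable {X : Scheme.{u}} (F : X.Modules) [F.IsQuasicoherent]

set_option backward.isDefEq.respectTransparency false in
/-- Local freeness at `x` from generators of the stalk, given that spanning families of `n`
sections over small affine opens are linearly independent. -/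
theorem exists_restrict_iso_freeMod_of_span_stalk
    [SheafOfModules.IsFiniteType (R := X.ringCatSheaf) F] (x : X) (W₀ : X.Opens)
    (hxW : x ∈ W₀) {n : ℕ} (v : Fin n → F.presheaf.stalk x)
    (hv : Submodule.span (X.presheaf.stalk x) (Set.range v) = ⊤)
    (hLI : ∀ (U : X.Opens), IsAffineOpen U → U ≤ W₀ → ∀ t : Fin n → Γ(F, U),
      Submodule.span Γ(X, U) (Set.range t) = ⊤ → LinearIndependent Γ(X, U) t) :
    ∃ U : X.Opens, x ∈ U ∧ Nonempty (F.restrict U.ι ≅ FlatMod.freeMod (↑U) n) := by
  obtain ⟨U, hU, hxU, hUW, s, hs⟩ := exists_affine_sections_germ_eq F x W₀ hxW v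
  haveI : Module.Finite Γ(X, U) Γ(F, U) := finite_sections_of_isAffineOpen F hU
  have hspan : Submodule.span (X.presheaf.stalk x)
      (Set.range fun i => F.presheaf.germ U x hxU (s i)) = ⊤ := by
    rw [← hv]
    congr 1
    exact congrArg Set.range (funext hs)
  obtain ⟨b, hxb, hb⟩ := exists_basicOpen_span_eq_top F hU x hxU s hspan
  have hli := hLI (X.basicOpen b) (hU.basicOpen b) ((X.basicOpen_le b).trans hUW) _ hb
  exact ⟨X.basicOpen b, hxb, nonempty_restrict_iso_freeMod (hU.basicOpen b) F n
    (Module.Basis.mk hli hb.ge).equivFun⟩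

set_option backward.isDefEq.respectTransparency false in
/-- If `F |_ U ≅ O_U^n`, the stalks of `F` at points of `U` are free of rank `n`. -/
theorem exists_basis_stalk_of_restrict_iso {U : X.Opens} {n : ℕ}
    (e : F.restrict U.ι ≅ FlatMod.freeMod (↑U) n) (y : X) (hy : y ∈ U) :
    Nonempty (Module.Basis (Fin n) (X.presheaf.stalk y) (F.presheaf.stalk y)) := by
  obtain ⟨V, hV, hyV, hVU⟩ := exists_isAffineOpen_mem_and_subset hy
  obtain ⟨e'⟩ := nonempty_sections_equiv_of_le F e (show V ≤ U from hVU)
  letI := X.presheaf.algebra_section_stalk ⟨y, hyV⟩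
  haveI := hV.isLocalization_stalk ⟨y, hyV⟩
  letI := moduleSectionStalk F y hyV
  haveI := isScalarTower_sectionStalk F y hyV
  haveI := isLocalizedModule_germₗ F hV y hyV
  exact ⟨(Module.Basis.ofEquivFun e').ofIsLocalizedModule (X.presheaf.stalk y)
    (hV.primeIdealOf ⟨y, hyV⟩).asIdeal.primeCompl (germₗ F y hyV)⟩

open TensorProduct in
/-- The fibre rank of a module with a free stalk of rank `n` is `n`. -/
theorem finrank_fibre_eq_of_basis (y : X) {n : ℕ}
    (b : Module.Basis (Fin n) (X.presheaf.stalk y) (F.presheaf.stalk y)) :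
    Module.finrank (IsLocalRing.ResidueField (X.presheaf.stalk y))
      (IsLocalRing.ResidueField (X.presheaf.stalk y) ⊗[X.presheaf.stalk y]
        (F.presheaf.stalk y)) = n := by
  haveI : Module.Free (X.presheaf.stalk y) (F.presheaf.stalk y) := Module.Free.of_basis b
  rw [Module.finrank_baseChange, Module.finrank_eq_card_basis b, Fintype.card_fin]

end Assembly

end Groth.Agent.H8
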