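import Groth.Agent.H8.FreeMod
import Groth.Agent.H8.QCohStalk
import Groth.Agent.H22.QCohLimits
import Mathlib.RingTheory.Localization.Free
import Mathlib.RingTheory.LocalRing.Module

/-!
# Finite locally free modules from finite projective sections

* `isQuasicoherent_freeMod`: `O_X^n` is quasi-coherent.
* `linearEquivOfIsLocalizedModule`: freeness is independent of the model of the localisation.
* `exists_free_away_of_projective`: a finite projective module is free after inverting some
  `r ∉ p`.
* `exists_basicOpen_restrict_iso_freeMod`: if `Γ(F, U)` is finite projective (`U` affine, `F`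
  quasi-coherent), every point of `U` has a basic open neighbourhood on which `F` is free.
* `isFinLocFree_of_projective_sections`.
* `isQuasicoherent_of_retract`, `projective_sections_of_retract_freeMod`.
-/

set_option autoImplicit false
set_option linter.style.haveILetI false
universe u
open CategoryTheory CategoryTheory.Limits AlgebraicGeometry TopologicalSpace Opposite
open AlgebraicGeometry.Scheme.Modules

namespace Groth.Agent.H8

section QCoh

set_option backward.isDefEq.respectTransparency false in
/-- `O_X^n` is quasi-coherent. -/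
instance isQuasicoherent_freeMod (X : Scheme.{u}) (n : ℕ) :
    (FlatMod.freeMod X n).IsQuasicoherent := by
  apply isQuasicoherent_of_forall_affine
  intro U hU
  have h1 : (tilde (ModuleCat.of Γ(X, U) (ULift.{u} (Fin n) →₀ Γ(X, U)))).IsQuasicoherent :=
    inferInstance
  exact (SheafOfModules.isQuasicoherent (Spec Γ(X, U)).ringCatSheaf).prop_of_iso
    (tildeFinsupp (ULift.{u} (Fin n)) ≪≫ freeIsoFreeMod (Spec Γ(X, U)) n ≪≫
      (restrictFreeIso hU.fromSpec n).symm) h1

/-- A retract of a quasi-coherent module is quasi-coherent. -/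
theorem isQuasicoherent_of_retract {X : Scheme.{u}} {M Q : X.Modules} [Q.IsQuasicoherent]
    (i : M ⟶ Q) (q : Q ⟶ M) (h : i ≫ q = 𝟙 M) : M.IsQuasicoherent := by
  haveI : Mono i := mono_of_mono_fac (h.trans rfl)
  refine Groth.Agent.H22.QCohLimits.isQuasicoherent_of_mono i ?_
  intro U hU a y
  obtain ⟨n, x, hx⟩ := exists_smul_eq_res hU Q a (i.app _ y)
  refine ⟨n, q.app U x, ?_⟩
  have h1 : q.app _ (i.app _ y) = y := by
    have := congrArg (fun ψ : M ⟶ M => ψ.app (X.basicOpen a) y) h
    exact this
  rw [← Groth.Agent.H22.QCohLimits.app_res q (X.basicOpen_le a) x, ← hx,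
    Scheme.Modules.Hom.app_smul, h1]

end QCoh

section Algebra

/-- Freeness of a localised module does not depend on the model of the localisation. -/
noncomputable def linearEquivOfIsLocalizedModule {R : Type*} [CommRing R] (S : Submonoid R)
    {A₁ A₂ : Type*} [CommRing A₁] [CommRing A₂] [Algebra R A₁] [Algebra R A₂]
    [IsLocalization S A₁] [IsLocalization S A₂]
    {M M₁ M₂ : Type*} [AddCommGroup M] [AddCommGroup M₁] [AddCommGroup M₂]
    [Module R M] [Module R M₁] [Module R M₂]
    [Module A₁ M₁] [Module A₂ M₂] [IsScalarTower R A₁ M₁] [IsScalarTower R A₂ M₂]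
    (g₁ : M →ₗ[R] M₁) (g₂ : M →ₗ[R] M₂) [IsLocalizedModule S g₁] [IsLocalizedModule S g₂]
    {n : ℕ} (e : M₁ ≃ₗ[A₁] (Fin n → A₁)) : M₂ ≃ₗ[A₂] (Fin n → A₂) :=
  LinearEquiv.extendScalarsOfIsLocalization S A₂
    ((IsLocalizedModule.linearEquiv S g₂ g₁) ≪≫ₗ e.restrictScalars R ≪≫ₗ
      LinearEquiv.piCongrRight (fun _ => (IsLocalization.algEquiv S A₁ A₂).toLinearEquiv))

/-- A finite projective module becomes free after inverting some `r ∉ p`. -/
lemma exists_free_away_of_projective {R : Type u} [CommRing R] (P : Type u) [AddCommGroup P]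
    [Module R P] [Module.Finite R P] [Module.Projective R P] (p : Ideal R) [p.IsPrime] :
    ∃ r ∉ p, ∃ n : ℕ, Nonempty (LocalizedModule.Away r P ≃ₗ[Localization.Away r]
      (Fin n → Localization.Away r)) := by
  haveI : Module.FinitePresentation R P := Module.finitePresentation_of_projective R P
  haveI : Module.Free (Localization.AtPrime p) (LocalizedModule p.primeCompl P) :=
    Module.free_of_flat_of_isLocalRing
  obtain ⟨r, hr, hfree, -⟩ := Module.FinitePresentation.exists_free_localizedModule_powers
    p.primeCompl (LocalizedModule.mkLinearMap p.primeCompl P) (Localization.AtPrime p)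
  haveI := hfree
  haveI : Nontrivial (Localization (.powers r)) :=
    (show Localization (.powers r) →+* Localization.AtPrime p from
      IsLocalization.map (M := .powers r) (T := p.primeCompl) _ (RingHom.id _)
        (Submonoid.powers_le.mpr hr)).domain_nontrivial
  exact ⟨r, hr, _, ⟨(Module.finBasis (Localization.Away r) (LocalizedModule.Away r P)).equivFun⟩⟩

end Algebra

section Sheaf

variable {X : Scheme.{u}} (F : X.Modules) [F.IsQuasicoherent] {U : X.Opens} (hU : IsAffineOpen U)

set_option backward.isDefEq.respectTransparency false in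
include hU in
/-- If `Γ(F, U)` is finite projective, every point of `U` has a basic open neighbourhood on
which `F` is free of finite rank. -/
theorem exists_basicOpen_restrict_iso_freeMod [Module.Finite Γ(X, U) Γ(F, U)]
    [Module.Projective Γ(X, U) Γ(F, U)] (x : X) (hx : x ∈ U) :
    ∃ f : Γ(X, U), x ∈ X.basicOpen f ∧ ∃ n : ℕ,
      Nonempty (F.restrict (X.basicOpen f).ι ≅ FlatMod.freeMod (X.basicOpen f) n) := by
  obtain ⟨r, hr, n, ⟨e⟩⟩ := exists_free_away_of_projective Γ(F, U)
    (hU.primeIdealOf ⟨x, hx⟩).asIdeal
  refine ⟨r, (mem_basicOpen_iff_notMem_primeIdealOf hU x hx r).mpr hr, n, ?_⟩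
  letI := moduleSectionBasicOpen F r
  haveI : IsScalarTower Γ(X, U) Γ(X, X.basicOpen r) Γ(F, X.basicOpen r) :=
    IsScalarTower.of_algebraMap_smul fun _ _ => rfl
  haveI := isLocalizedModule_resBasicOpenₗ hU F r
  haveI : IsLocalization (Submonoid.powers r) Γ(X, X.basicOpen r) := hU.isLocalization_basicOpen r
  exact nonempty_restrict_iso_freeMod (hU.basicOpen r) F n
    (linearEquivOfIsLocalizedModule (Submonoid.powers r)
      (LocalizedModule.mkLinearMap (Submonoid.powers r) Γ(F, U)) (resBasicOpenₗ F r) e)

/-- A quasi-coherent module with finite projective sections on an affine neighbourhood of every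
point is finite locally free. -/
theorem isFinLocFree_of_projective_sections
    (h : ∀ x : X, ∃ U : X.Opens, IsAffineOpen U ∧ x ∈ U ∧ Module.Finite Γ(X, U) Γ(F, U) ∧
      Module.Projective Γ(X, U) Γ(F, U)) : FlatMod.IsFinLocFree F := by
  intro x
  obtain ⟨U, hU, hxU, hfin, hproj⟩ := h x
  obtain ⟨f, hxf, n, hn⟩ := exists_basicOpen_restrict_iso_freeMod F hU x hxU
  exact ⟨X.basicOpen f, n, hxf, hn⟩

end Sheaf

end Groth.Agent.H8
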