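import Groth.Agent.H8.StalkExact
import Groth.Agent.H8.SuppClosed

/-!
# Spreading out properties of stalks to neighbourhoods

* `isZero_restrict_of_stalks`: vanishing of all stalks on `W` gives `M |_ W = 0`.
* `mono_restrict_of_stalks`, `epi_restrict_of_stalks`, `isIso_restrict_of_stalks`.
* finite type versions at a point: `exists_isZero_restrict`, ...
-/

set_option autoImplicit false
set_option linter.style.haveILetI false
universe u
open CategoryTheory CategoryTheory.Limits AlgebraicGeometry TopologicalSpace Opposite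
open AlgebraicGeometry.Scheme.Modules

namespace Groth.Agent.H8

variable {X : Scheme.{u}}

lemma section_eq_zero_of_stalks (M : X.Modules) (V : X.Opens)
    (h : ∀ y ∈ V, Subsingleton ↑(M.presheaf.stalk y)) (t : Γ(M, V)) : t = 0 :=
  TopCat.Presheaf.section_ext ⟨M.presheaf, M.isSheaf⟩ V t 0
    (fun y hy => haveI := h y hy; Subsingleton.elim _ _)

lemma mono_of_app_injective {M N : X.Modules} (ψ : M ⟶ N)
    (h : ∀ O : X.Opens, Function.Injective (ψ.app O)) : Mono ψ := by
  haveI : ∀ O : (Opens X)ᵒᵖ, Mono (((Scheme.Modules.toPresheaf X).map ψ).app O) := fun O =>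
    (AddCommGrpCat.mono_iff_injective _).mpr (h O.unop)
  haveI : Mono ((Scheme.Modules.toPresheaf X).map ψ) := NatTrans.mono_of_mono_app _
  exact (Scheme.Modules.toPresheaf X).mono_of_mono_map this

theorem isZero_restrict_of_stalks (M : X.Modules) (W : X.Opens)
    (h : ∀ y ∈ W, Subsingleton ↑(M.presheaf.stalk y)) : IsZero (M.restrict W.ι) := by
  rw [IsZero.iff_id_eq_zero]
  apply Scheme.Modules.hom_ext
  intro O
  ext t
  change t = 0
  exact section_eq_zero_of_stalks M (W.ι ''ᵁ O) (fun y hy => h y (W.ι_image_le O hy)) t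

theorem app_injective_of_stalks {G F : X.Modules} (φ : G ⟶ F) (V : X.Opens)
    (h : ∀ y ∈ V, Subsingleton ↑((kernel φ).presheaf.stalk y)) :
    Function.Injective (φ.app V) := by
  let S : ShortComplex X.Modules := ShortComplex.mk (kernel.ι φ) φ (kernel.condition φ)
  have hS : S.Exact := ShortComplex.exact_of_f_is_kernel S (kernelIsKernel φ)
  haveI : Mono S.f := inferInstanceAs (Mono (kernel.ι φ))
  intro a b hab
  have h0 : φ.app V (a - b) = 0 := by rw [map_sub, hab, sub_self]
  obtain ⟨k, hk⟩ := exists_app_eq_of_exact S hS V (a - b) h0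
  have hk0 : k = 0 := section_eq_zero_of_stalks (kernel φ) V h k
  have : a - b = 0 := by rw [← hk, hk0, map_zero]
  exact sub_eq_zero.mp this

theorem mono_restrict_of_stalks {G F : X.Modules} (φ : G ⟶ F) (W : X.Opens)
    (h : ∀ y ∈ W, Subsingleton ↑((kernel φ).presheaf.stalk y)) :
    Mono ((restrictFunctor W.ι).map φ) := by
  apply mono_of_app_injective
  intro O
  exact app_injective_of_stalks φ (W.ι ''ᵁ O) (fun y hy => h y (W.ι_image_le O hy))

set_option backward.isDefEq.respectTransparency false in
theorem epi_restrict_of_stalks {G F : X.Modules} (φ : G ⟶ F) (W : X.Opens)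
    (h : ∀ y ∈ W, Subsingleton ↑((cokernel φ).presheaf.stalk y)) :
    Epi ((restrictFunctor W.ι).map φ) := by
  haveI : PreservesColimitsOfSize.{u, u} (restrictFunctor W.ι) := inferInstance
  have hZ : IsZero ((restrictFunctor W.ι).obj (cokernel φ)) :=
    isZero_restrict_of_stalks (cokernel φ) W h
  have hZ' : IsZero (cokernel ((restrictFunctor W.ι).map φ)) :=
    hZ.of_iso (PreservesCokernel.iso (restrictFunctor W.ι) φ).symm
  exact Preadditive.epi_of_isZero_cokernel _ hZ'

theorem isIso_restrict_of_stalks {G F : X.Modules} (φ : G ⟶ F) (W : X.Opens)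
    (h : ∀ y ∈ W, Subsingleton ↑((kernel φ).presheaf.stalk y))
    (h' : ∀ y ∈ W, Subsingleton ↑((cokernel φ).presheaf.stalk y)) :
    IsIso ((restrictFunctor W.ι).map φ) := by
  haveI := mono_restrict_of_stalks φ W h
  haveI := epi_restrict_of_stalks φ W h'
  exact isIso_of_mono_of_epi _

end Groth.Agent.H8
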