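import Groth.Agent.H8.FreeMod
import Groth.Agent.H8.IsoCover

/-!
# Restriction maps of locally free modules

If `F |_ U ≅ O_U^n` and `V' ≤ V ≤ U` are opens such that `O(V) → O(V')` is bijective, then so is
`F(V) → F(V')`. Also: a morphism of modules which is bijective on a basis of opens is an
isomorphism.
-/

set_option autoImplicit false
set_option linter.style.haveILetI false
universe u
open CategoryTheory CategoryTheory.Limits AlgebraicGeometry TopologicalSpace Opposite
open AlgebraicGeometry.Scheme.Modules

namespace Groth.Agent.H8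

variable {X : Scheme.{u}}

/-- A morphism of modules which is bijective on the sections over a basis is an isomorphism. -/
theorem isIso_of_bijective_basis {A B : X.Modules} (φ : A ⟶ B) {ι : Type*} (Bs : ι → X.Opens)
    (hB : Opens.IsBasis (Set.range Bs)) (h : ∀ i, Function.Bijective (φ.app (Bs i))) :
    IsIso φ := by
  haveI : IsIso ((SheafOfModules.toSheaf.{u} X.ringCatSheaf).map φ) := by
    refine TopCat.Sheaf.isIso_iff_isIso_basis (X := X.toTopCat) (B := Bs) hB (fun i => ?_)
    exact (ConcreteCategory.isIso_iff_bijective _).mpr (h i)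
  have key : ∀ {A' B' : SheafOfModules.{u} X.ringCatSheaf} (ψ : A' ⟶ B'),
      IsIso ((SheafOfModules.toSheaf.{u} X.ringCatSheaf).map ψ) → IsIso ψ :=
    fun ψ _ => isIso_of_reflects_iso ψ (SheafOfModules.toSheaf.{u} X.ringCatSheaf)
  exact key φ this

lemma bijective_map_congr (M : X.Modules) {A A' B B' : X.Opens} (hA : A' = A) (hB : B' = B)
    (h : B ≤ A) (h' : B' ≤ A') :
    Function.Bijective (M.presheaf.map (homOfLE h).op) ↔
      Function.Bijective (M.presheaf.map (homOfLE h').op) := by
  subst hA hB
  rfl

lemma bijective_presheaf_map_congr {A A' B B' : X.Opens} (hA : A' = A) (hB : B' = B)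
    (h : B ≤ A) (h' : B' ≤ A') :
    Function.Bijective (X.presheaf.map (homOfLE h).op) ↔
      Function.Bijective (X.presheaf.map (homOfLE h').op) := by
  subst hA hB
  rfl

section

variable {U : X.Opens} (F : X.Modules) {n : ℕ}
  (e : F.restrict U.ι ≅ FlatMod.freeMod (↑U) n)

/-- The trivialisation of the sections is compatible with restriction. -/
lemma sectionsEquivOfRestrictIso_res {A B : U.toScheme.Opens} (h : B ≤ A)
    (x : Γ(F, U.ι ''ᵁ A)) (i : Fin n) :
    sectionsEquivOfRestrictIso F e B (F.presheaf.map (homOfLE (U.ι.image_mono h)).op x) i =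
      X.presheaf.map (homOfLE (U.ι.image_mono h)).op (sectionsEquivOfRestrictIso F e A x i) := by
  change (freeπ (↑U) n i).app B (e.hom.app B ((F.restrict U.ι).presheaf.map (homOfLE h).op
    (show Γ(F.restrict U.ι, A) from x))) = _
  rw [app_res, app_res]
  rfl

include e in
theorem bijective_res_of_restrict_iso {A B : U.toScheme.Opens} (h : B ≤ A)
    (hO : Function.Bijective (X.presheaf.map (homOfLE (U.ι.image_mono h)).op)) :
    Function.Bijective (F.presheaf.map (homOfLE (U.ι.image_mono h)).op) := by
  have hnat : ∀ x, sectionsEquivOfRestrictIso F e B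
      (F.presheaf.map (homOfLE (U.ι.image_mono h)).op x) =
      fun i => X.presheaf.map (homOfLE (U.ι.image_mono h)).op
        (sectionsEquivOfRestrictIso F e A x i) :=
    fun x => funext fun i => sectionsEquivOfRestrictIso_res F e h x i
  constructor
  · intro x y hxy
    have h1 : (fun i => X.presheaf.map (homOfLE (U.ι.image_mono h)).op
        (sectionsEquivOfRestrictIso F e A x i)) =
        fun i => X.presheaf.map (homOfLE (U.ι.image_mono h)).op
          (sectionsEquivOfRestrictIso F e A y i) := by
      rw [← hnat, ← hnat, hxy]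
    have h2 : sectionsEquivOfRestrictIso F e A x = sectionsEquivOfRestrictIso F e A y := by
      funext i
      exact hO.1 (congrFun h1 i)
    exact (sectionsEquivOfRestrictIso F e A).injective h2
  · intro z
    choose a ha using fun i => hO.2 (sectionsEquivOfRestrictIso F e B z i)
    refine ⟨(sectionsEquivOfRestrictIso F e A).symm a, ?_⟩
    apply (sectionsEquivOfRestrictIso F e B).injective
    rw [hnat, LinearEquiv.apply_symm_apply]
    funext i
    exact ha i

include e in
/-- If `F |_ U ≅ O_U^n` and `V' ≤ V ≤ U` with `O(V) → O(V')` bijective, then `F(V) → F(V')` is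
bijective. -/
theorem bijective_res_of_restrict_iso_of_le {V V' : X.Opens} (hV : V ≤ U) (h : V' ≤ V)
    (hO : Function.Bijective (X.presheaf.map (homOfLE h).op)) :
    Function.Bijective (F.presheaf.map (homOfLE h).op) := by
  have eV : U.ι ''ᵁ (U.ι ⁻¹ᵁ V) = V := by
    rw [Scheme.Hom.image_preimage_eq_opensRange_inf, Scheme.Opens.opensRange_ι]
    exact inf_eq_right.mpr hV
  have eV' : U.ι ''ᵁ (U.ι ⁻¹ᵁ V') = V' := by
    rw [Scheme.Hom.image_preimage_eq_opensRange_inf, Scheme.Opens.opensRange_ι]
    exact inf_eq_right.mpr (h.trans hV)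
  have hBA : U.ι ⁻¹ᵁ V' ≤ U.ι ⁻¹ᵁ V := U.ι.preimage_mono h
  rw [bijective_map_congr F eV eV' h (U.ι.image_mono hBA)]
  apply bijective_res_of_restrict_iso F e hBA
  rw [← bijective_presheaf_map_congr eV eV' h (U.ι.image_mono hBA)]
  exact hO

end

end Groth.Agent.H8
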