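import Groth.Agent.H8.PullbackFaithful
import Groth.Agent.H8.FlatBaseChange
import Groth.Agent.H8.Coh

/-!
Morphisms of coherent modules vanishing on all infinitesimal thickenings of a closed subscheme.
-/

set_option autoImplicit false
set_option backward.isDefEq.respectTransparency false
universe u
open CategoryTheory CategoryTheory.Limits AlgebraicGeometry TensorProduct

namespace Groth.Agent.H8

section Algebra

/-- If `R → R'` is surjective and `1 ⊗ g = 0` in `R' ⊗[R] N`, then `g ∈ K • N` for `K` the kernel. -/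
theorem mem_ker_smul_top_of_one_tmul_eq_zero {R R' : Type u} [CommRing R] [CommRing R']
    [Algebra R R'] (hsurj : Function.Surjective (algebraMap R R'))
    (N : Type u) [AddCommGroup N] [Module R N] (g : N)
    (h : (1 : R') ⊗ₜ[R] g = 0) :
    g ∈ (RingHom.ker (algebraMap R R')) • (⊤ : Submodule R N) := by
  set K := RingHom.ker (algebraMap R R') with hK
  let σ : R ⧸ K ≃+* R' := RingHom.quotientKerEquivOfSurjective hsurj
  let l : R' →ₗ[R] R ⧸ K :=
    { toFun := σ.symm
      map_add' := map_add _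
      map_smul' := fun r x => by
        apply σ.injective
        show σ (σ.symm (r • x)) = σ (r • σ.symm x)
        rw [σ.apply_symm_apply, Algebra.smul_def, Algebra.smul_def, map_mul, σ.apply_symm_apply]
        congr 1 }
  have h1 : (LinearMap.rTensor N l) ((1 : R') ⊗ₜ[R] g) = 0 := by rw [h, map_zero]
  rw [LinearMap.rTensor_tmul] at h1
  have h2 : l 1 = 1 := map_one σ.symm
  rw [h2] at h1
  have h3 := congrArg (TensorProduct.quotTensorEquivQuotSMul N K) h1
  rw [TensorProduct.quotTensorEquivQuotSMul_mk_one_tmul, map_zero,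
    Submodule.Quotient.mk_eq_zero] at h3
  exact h3

end Algebra

section Geometry

variable {X : Scheme.{u}}

/-- The kernel of the stalk map of the closed immersion defined by an ideal sheaf `I` is contained
in any ideal of the local ring containing the germs of the sections of `I` over an affine open. -/
theorem ker_stalkMap_subschemeι_le (I : X.IdealSheafData) (z : I.subscheme)
    (W : X.affineOpens) (hzW : I.subschemeι z ∈ W.1)
    (𝔞 : Ideal (X.presheaf.stalk (I.subschemeι z)))
    (h𝔞 : ∀ s ∈ I.ideal W, X.presheaf.germ W.1 _ hzW s ∈ 𝔞) :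
    RingHom.ker (I.subschemeι.stalkMap z).hom ≤ 𝔞 := by
  intro a ha
  letI := X.presheaf.algebra_section_stalk ⟨I.subschemeι z, hzW⟩
  haveI := W.2.isLocalization_stalk ⟨I.subschemeι z, hzW⟩
  have hW' : IsAffineOpen (I.subschemeι ⁻¹ᵁ W.1) := W.2.preimage I.subschemeι
  have hzW' : z ∈ I.subschemeι ⁻¹ᵁ W.1 := hzW
  letI := I.subscheme.presheaf.algebra_section_stalk ⟨z, hzW'⟩
  haveI := hW'.isLocalization_stalk ⟨z, hzW'⟩
  obtain ⟨⟨s, t⟩, hst⟩ :=
    IsLocalization.surj (W.2.primeIdealOf ⟨I.subschemeι z, hzW⟩).asIdeal.primeCompl a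
  have ht : IsUnit (algebraMap Γ(X, W.1) (X.presheaf.stalk (I.subschemeι z)) t) :=
    IsLocalization.map_units _ t
  have hgs : ∀ r : Γ(X, W.1), (I.subschemeι.stalkMap z).hom
      (algebraMap Γ(X, W.1) (X.presheaf.stalk (I.subschemeι z)) r) =
      algebraMap Γ(I.subscheme, I.subschemeι ⁻¹ᵁ W.1) (I.subscheme.presheaf.stalk z)
        ((I.subschemeι.app W.1).hom r) := by
    intro r
    have := congrArg (fun φ => φ.hom r) (Scheme.Hom.germ_stalkMap I.subschemeι W.1 z hzW)
    exact this
  have h1 : (I.subschemeι.stalkMap z).hom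
      (algebraMap Γ(X, W.1) (X.presheaf.stalk (I.subschemeι z)) s) = 0 := by
    rw [← hst, map_mul, (RingHom.mem_ker).mp ha, zero_mul]
  rw [hgs] at h1
  obtain ⟨⟨t', ht'⟩, h3⟩ := (IsLocalization.map_eq_zero_iff
    (hW'.primeIdealOf ⟨z, hzW'⟩).asIdeal.primeCompl (I.subscheme.presheaf.stalk z) _).mp h1
  obtain ⟨t'', rfl⟩ := I.subschemeι_app_surjective W t'
  have h4 : t'' * s ∈ I.ideal W := by
    rw [← I.ker_subschemeι_app W, RingHom.mem_ker, map_mul]
    exact h3
  have h5 := h𝔞 _ h4
  have h6 : IsUnit (algebraMap Γ(X, W.1) (X.presheaf.stalk (I.subschemeι z)) t'') := by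
    have hu : IsUnit ((I.subschemeι.stalkMap z).hom
        (algebraMap Γ(X, W.1) (X.presheaf.stalk (I.subschemeι z)) t'')) := by
      rw [hgs]
      exact IsLocalization.map_units _ (⟨_, ht'⟩ :
        (hW'.primeIdealOf ⟨z, hzW'⟩).asIdeal.primeCompl)
    exact isUnit_of_map_unit (I.subschemeι.stalkMap z).hom _ hu
  have h7 : algebraMap Γ(X, W.1) (X.presheaf.stalk (I.subschemeι z)) s ∈ 𝔞 := by
    have h5' : algebraMap Γ(X, W.1) (X.presheaf.stalk (I.subschemeι z)) (t'' * s) ∈ 𝔞 := h5
    rw [map_mul] at h5'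
    exact (Ideal.unit_mul_mem_iff_mem 𝔞 h6).mp h5'
  rw [← hst] at h7
  exact (Ideal.mul_unit_mem_iff_mem 𝔞 ht).mp h7

open Groth.Agent.H31.Stalk

/-- If the pullback of `u` along a closed immersion `ι` (defined by an ideal sheaf) vanishes, then
on the stalk at `ι z` the image of `u` lies in `K • G_x` for `K` the kernel of the stalk map. -/
theorem stk_map_mem_ker_smul_top (I : X.IdealSheafData) (z : I.subscheme) {F G : X.Modules}
    (u : F ⟶ G) (h0 : (Scheme.Modules.pullback I.subschemeι).map u = 0)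
    (m : (stk (shX X) (I.subschemeι z)).obj F) :
    ((stk (shX X) (I.subschemeι z)).map u).hom m ∈
      (RingHom.ker (I.subschemeι.stalkMap z).hom) •
        (⊤ : Submodule (X.presheaf.stalk (I.subschemeι z))
          ((stk (shX X) (I.subschemeι z)).obj G)) := by
  have hnat := (stkPullbackIso I.subschemeι z).hom.naturality u
  have h1 : (Scheme.Modules.pullback I.subschemeι ⋙ stk (shX I.subscheme) z).map u = 0 := by
    rw [Functor.comp_map, h0]
    exact Functor.map_zero (stk (shX I.subscheme) z) _ _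
  rw [h1, zero_comp] at hnat
  have h2 : (ModuleCat.extendScalars.{u, u, u} (φx I.subschemeι z)).map ((stk (shX X) (I.subschemeι z)).map u) = 0 := by
    rw [← cancel_epi ((stkPullbackIso I.subschemeι z).hom.app F), comp_zero]
    exact hnat.symm
  letI := (I.subschemeι.stalkMap z).hom.toAlgebra
  have h3 := congrArg (fun g => g.hom ((1 : I.subscheme.presheaf.stalk z) ⊗ₜ m)) h2
  simp only [ModuleCat.ExtendScalars.map_tmul] at h3
  have h4 : (1 : I.subscheme.presheaf.stalk z) ⊗ₜ[X.presheaf.stalk (I.subschemeι z)]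
      (((stk (shX X) (I.subschemeι z)).map u).hom m) = 0 := h3
  exact mem_ker_smul_top_of_one_tmul_eq_zero (R := X.presheaf.stalk (I.subschemeι z))
    (R' := I.subscheme.presheaf.stalk z) (Scheme.Hom.stalkMap_surjective I.subschemeι z) _ _ h4

/-- If `u : F ⟶ G` (with `G` coherent on a locally Noetherian scheme) vanishes after pullback to
all the thickenings `V(J ^ (n + 1))`, then `u` vanishes on the stalks at points of `V(J)`. -/
theorem stk_map_eq_zero_of_forall_thickening [IsLocallyNoetherian X] {F G : X.Modules}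
    (hG : Coh.IsCoh G) (u : F ⟶ G) (J : X.IdealSheafData)
    (h : ∀ n : ℕ, (Scheme.Modules.pullback (J ^ (n + 1)).subschemeι).map u = 0)
    (x : X) (hx : x ∈ J.support) : (stk (shX X) x).map u = 0 := by
  ext m
  show ((stk (shX X) x).map u).hom m = 0
  haveI : Module.Finite (X.presheaf.stalk x) ((stk (shX X) x).obj G) :=
    finite_stalk_of_isCoh G hG x
  have hkrull := Ideal.iInf_pow_smul_eq_bot_of_isLocalRing (M := (stk (shX X) x).obj G)
    (IsLocalRing.maximalIdeal (X.presheaf.stalk x)) (IsLocalRing.maximalIdeal.isMaximal _).ne_top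
  have hmem : ((stk (shX X) x).map u).hom m ∈
      (⨅ i : ℕ, (IsLocalRing.maximalIdeal (X.presheaf.stalk x)) ^ i •
        (⊤ : Submodule (X.presheaf.stalk x) ((stk (shX X) x).obj G))) := by
    rw [Submodule.mem_iInf]
    intro i
    cases i with
    | zero => simp
    | succ n =>
      have hx' : x ∈ Set.range (J ^ (n + 1)).subschemeι := by
        rw [Scheme.IdealSheafData.range_subschemeι, Scheme.IdealSheafData.support_pow_succ]
        exact hx
      obtain ⟨z, rfl⟩ := hx'
      have h1 := stk_map_mem_ker_smul_top (J ^ (n + 1)) z u (h n) m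
      refine Submodule.smul_mono_left ?_ h1
      obtain ⟨_, ⟨W, hW, rfl⟩, hzW, -⟩ := X.isBasis_affineOpens.exists_subset_of_mem_open
        (Set.mem_univ ((J ^ (n + 1)).subschemeι z)) isOpen_univ
      apply ker_stalkMap_subschemeι_le (J ^ (n + 1)) z ⟨W, hW⟩ hzW
      intro s hs
      have hle : Ideal.map (X.presheaf.germ W _ hzW).hom (J.ideal ⟨W, hW⟩) ≤
          IsLocalRing.maximalIdeal (X.presheaf.stalk ((J ^ (n + 1)).subschemeι z)) := by
        rw [Ideal.map_le_iff_le_comap]
        intro r hr
        rw [Ideal.mem_comap, IsLocalRing.mem_maximalIdeal, mem_nonunits_iff]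
        intro hunit
        have hx2 : (J ^ (n + 1)).subschemeι z ∈ X.zeroLocus (U := W) (J.ideal ⟨W, hW⟩) :=
          (Scheme.IdealSheafData.mem_support_iff_of_mem (U := ⟨W, hW⟩) hzW).mp hx
        rw [Scheme.mem_zeroLocus_iff] at hx2
        exact hx2 r hr ((X.mem_basicOpen _ _ hzW).mpr hunit)
      have h2 : (X.presheaf.germ W _ hzW).hom s ∈
          Ideal.map (X.presheaf.germ W _ hzW).hom ((J.ideal ⟨W, hW⟩) ^ (n + 1)) :=
        Ideal.mem_map_of_mem _ hs
      rw [Ideal.map_pow] at h2
      exact Ideal.pow_right_mono hle _ h2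
  rw [hkrull] at hmem
  exact (Submodule.mem_bot _).mp hmem

end Geometry

end Groth.Agent.H8
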