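import Groth.Agent.H39.PullTrack5
import Groth.Agent.H8.IsoCover
import Groth.Agent.H8.QCohPush
import Groth.Agent.H8.PullbackStalk
import Groth.Agent.H8.Thickening
import Groth.Agent.H8.SectionsExact

/-!
# The unit `G ⟶ i_* i^* G` for a closed immersion `i` and a quasi-coherent module `G`

* `unit_app_bijective_iff`: over an affine open `U`, the unit is bijective on sections iff the ideal
  of `i` over `U` kills `Γ(G, U)`; it is always surjective on sections over affine opens.
* `isIso_unit_iff`: the unit is an isomorphism iff the ideal sheaf of `i` kills `G`.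
-/

set_option autoImplicit false
set_option linter.style.haveILetI false
universe u
open CategoryTheory CategoryTheory.Limits AlgebraicGeometry TopologicalSpace Opposite OmegaSh
open scoped TensorProduct

namespace Groth.Agent.H8

section Algebra

variable {R R' : Type u} [CommRing R] [CommRing R'] [Algebra R R']

/-- If `R → R'` is surjective then `n ↦ 1 ⊗ n : N → R' ⊗[R] N` is surjective. -/
theorem one_tmul_surjective (hsurj : Function.Surjective (algebraMap R R'))
    (N : Type u) [AddCommGroup N] [Module R N] :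
    Function.Surjective (fun n : N => (1 : R') ⊗ₜ[R] n) := by
  intro z
  induction z using TensorProduct.induction_on with
  | zero => exact ⟨0, TensorProduct.tmul_zero _ _⟩
  | tmul b n =>
    obtain ⟨a, rfl⟩ := hsurj b
    refine ⟨a • n, ?_⟩
    show (1 : R') ⊗ₜ[R] (a • n) = algebraMap R R' a ⊗ₜ[R] n
    rw [← TensorProduct.smul_tmul, Algebra.smul_def, mul_one]
  | add x y hx hy =>
    obtain ⟨a, rfl⟩ := hx
    obtain ⟨b, rfl⟩ := hy
    exact ⟨a + b, TensorProduct.tmul_add _ _ _⟩

/-- If `R → R'` is surjective then `n ↦ 1 ⊗ n : N → R' ⊗[R] N` is injective iff the kernel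
kills `N`. -/
theorem one_tmul_injective_iff (hsurj : Function.Surjective (algebraMap R R'))
    (N : Type u) [AddCommGroup N] [Module R N] :
    Function.Injective (fun n : N => (1 : R') ⊗ₜ[R] n) ↔
      ∀ a ∈ RingHom.ker (algebraMap R R'), ∀ n : N, a • n = 0 := by
  constructor
  · intro hinj a ha n
    apply hinj
    show (1 : R') ⊗ₜ[R] (a • n) = (1 : R') ⊗ₜ[R] (0 : N)
    rw [← TensorProduct.smul_tmul, Algebra.smul_def, mul_one, (RingHom.mem_ker).mp ha,
      TensorProduct.zero_tmul, TensorProduct.tmul_zero]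
  · intro h n n' hnn'
    have h0 : (1 : R') ⊗ₜ[R] (n - n') = 0 := by
      rw [TensorProduct.tmul_sub]
      exact sub_eq_zero.mpr hnn'
    have hmem := mem_ker_smul_top_of_one_tmul_eq_zero hsurj N (n - n') h0
    have hz : ∀ x ∈ (RingHom.ker (algebraMap R R')) • (⊤ : Submodule R N), x = 0 := by
      intro x hx
      refine Submodule.smul_induction_on hx (fun a ha m _ => h a ha m) ?_
      intro x y hx hy
      rw [hx, hy, add_zero]
    exact sub_eq_zero.mp (hz _ hmem)

end Algebra

section Geometry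

variable {Z X : Scheme.{u}} (i : Z ⟶ X) [IsClosedImmersion i] (G : X.Modules) [G.IsQuasicoherent]

set_option backward.isDefEq.respectTransparency false in
/-- Sections of the unit `G ⟶ i_* i^* G` over an affine open, in terms of the base change. -/
theorem exists_unit_app_equiv (U : X.affineOpens) :
    letI := (i.appLE U.1 (i ⁻¹ᵁ U.1) le_rfl).hom.toAlgebra
    ∃ E : Γ((Scheme.Modules.pullback i).obj G, i ⁻¹ᵁ U.1) ≃ₗ[Γ(Z, i ⁻¹ᵁ U.1)]
        TensorProduct Γ(X, U.1) Γ(Z, i ⁻¹ᵁ U.1) Γ(G, U.1),
      ∀ s : Γ(G, U.1),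
        E (((Scheme.Modules.pullbackPushforwardAdjunction i).unit.app G).app U.1 s) =
          (1 : Γ(Z, i ⁻¹ᵁ U.1)) ⊗ₜ[Γ(X, U.1)] s := by
  letI := (i.appLE U.1 (i ⁻¹ᵁ U.1) le_rfl).hom.toAlgebra
  have hU' : IsAffineOpen (i ⁻¹ᵁ U.1) := U.2.preimage i
  obtain ⟨E, hE⟩ := Groth.Agent.H39.PullTrack.exists_sectionsPullbackEquiv i G U.2 hU' le_rfl
  refine ⟨E, fun s => ?_⟩
  rw [← hE s, Groth.Agent.H39.PullTrack.pullSectLE_self]
  rfl

set_option backward.isDefEq.respectTransparency false in
lemma algebraMap_surjective_of_isClosedImmersion (U : X.affineOpens) :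
    letI := (i.appLE U.1 (i ⁻¹ᵁ U.1) le_rfl).hom.toAlgebra
    Function.Surjective (algebraMap Γ(X, U.1) Γ(Z, i ⁻¹ᵁ U.1)) := by
  letI := (i.appLE U.1 (i ⁻¹ᵁ U.1) le_rfl).hom.toAlgebra
  have h := i.app_surjective U.1 U.2
  intro b
  obtain ⟨a, ha⟩ := h b
  refine ⟨a, ?_⟩
  rw [← ha]
  show (i.appLE U.1 (i ⁻¹ᵁ U.1) le_rfl).hom a = (i.app U.1).hom a
  rw [Scheme.Hom.app_eq_appLE]

set_option backward.isDefEq.respectTransparency false in
lemma ker_algebraMap_of_isClosedImmersion (U : X.affineOpens) :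
    letI := (i.appLE U.1 (i ⁻¹ᵁ U.1) le_rfl).hom.toAlgebra
    RingHom.ker (algebraMap Γ(X, U.1) Γ(Z, i ⁻¹ᵁ U.1)) = i.ker.ideal U := by
  letI := (i.appLE U.1 (i ⁻¹ᵁ U.1) le_rfl).hom.toAlgebra
  rw [Scheme.Hom.ker_apply]
  ext a
  rw [RingHom.mem_ker, RingHom.mem_ker]
  show (i.appLE U.1 (i ⁻¹ᵁ U.1) le_rfl).hom a = 0 ↔ (i.app U.1).hom a = 0
  rw [Scheme.Hom.app_eq_appLE]

/-- The unit `G ⟶ i_* i^* G` is surjective on sections over affine opens. -/
theorem unit_app_surjective (U : X.affineOpens) :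
    Function.Surjective
      (((Scheme.Modules.pullbackPushforwardAdjunction i).unit.app G).app U.1) := by
  letI := (i.appLE U.1 (i ⁻¹ᵁ U.1) le_rfl).hom.toAlgebra
  obtain ⟨E, hE⟩ := exists_unit_app_equiv i G U
  intro t
  obtain ⟨s, hs⟩ := one_tmul_surjective (algebraMap_surjective_of_isClosedImmersion i U)
    Γ(G, U.1) (E t)
  refine ⟨s, E.injective ?_⟩
  rw [hE s]
  exact hs

/-- The unit `G ⟶ i_* i^* G` is injective on sections over an affine open `U` iff the ideal of
`i` over `U` kills `Γ(G, U)`. -/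
theorem unit_app_injective_iff (U : X.affineOpens) :
    Function.Injective
      (((Scheme.Modules.pullbackPushforwardAdjunction i).unit.app G).app U.1) ↔
      ∀ a ∈ i.ker.ideal U, ∀ s : Γ(G, U.1), a • s = 0 := by
  letI := (i.appLE U.1 (i ⁻¹ᵁ U.1) le_rfl).hom.toAlgebra
  obtain ⟨E, hE⟩ := exists_unit_app_equiv i G U
  rw [← ker_algebraMap_of_isClosedImmersion i U,
    ← one_tmul_injective_iff (algebraMap_surjective_of_isClosedImmersion i U) Γ(G, U.1)]
  constructor
  · intro h s s' hss'
    apply h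
    apply E.injective
    rw [hE, hE]
    exact hss'
  · intro h s s' hss'
    apply h
    show (1 : Γ(Z, i ⁻¹ᵁ U.1)) ⊗ₜ[Γ(X, U.1)] s = (1 : Γ(Z, i ⁻¹ᵁ U.1)) ⊗ₜ[Γ(X, U.1)] s'
    rw [← hE, ← hE, hss']

theorem unit_app_bijective_iff (U : X.affineOpens) :
    Function.Bijective
      (((Scheme.Modules.pullbackPushforwardAdjunction i).unit.app G).app U.1) ↔
      ∀ a ∈ i.ker.ideal U, ∀ s : Γ(G, U.1), a • s = 0 := by
  rw [← unit_app_injective_iff]
  exact ⟨fun h => h.1, fun h => ⟨h, unit_app_surjective i G U⟩⟩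

/-- An isomorphism of modules is bijective on sections. -/
theorem app_bijective_of_isIso {M N : X.Modules} (φ : M ⟶ N) [IsIso φ] (U : X.Opens) :
    Function.Bijective (φ.app U) := by
  have h : IsIso ((sectionsFunctor U).map φ) := inferInstance
  rw [sectionsFunctor_map] at h
  exact (ConcreteCategory.isIso_iff_bijective _).mp h

/-- **The unit `G ⟶ i_* i^* G` of a closed immersion is an isomorphism iff the ideal sheaf of `i`
kills the quasi-coherent module `G`.** -/
theorem isIso_unit_iff :
    IsIso ((Scheme.Modules.pullbackPushforwardAdjunction i).unit.app G) ↔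
      ∀ (U : X.affineOpens) (a : Γ(X, U.1)), a ∈ i.ker.ideal U → ∀ s : Γ(G, U.1), a • s = 0 := by
  constructor
  · intro h U
    exact (unit_app_bijective_iff i G U).mp (app_bijective_of_isIso _ U.1)
  · intro h
    haveI : ((Scheme.Modules.pullback i).obj G).IsQuasicoherent := isQuasicoherent_pullback i G
    haveI : ((Scheme.Modules.pushforward i).obj ((Scheme.Modules.pullback i).obj G)).IsQuasicoherent :=
      isQuasicoherent_pushforward i _
    haveI : ((𝟭 X.Modules).obj G).IsQuasicoherent := ‹G.IsQuasicoherent›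
    haveI : ((Scheme.Modules.pullback i ⋙ Scheme.Modules.pushforward i).obj G).IsQuasicoherent :=
      ‹((Scheme.Modules.pushforward i).obj ((Scheme.Modules.pullback i).obj G)).IsQuasicoherent›
    exact isIso_of_bijective_affine_cover _ (fun U : X.affineOpens => U.1)
      (iSup_affineOpens_eq_top X) (fun U => U.2)
      (fun U => (unit_app_bijective_iff i G U).mpr (h U))

end Geometry

end Groth.Agent.H8
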