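import Groth.Agent.H8.FpqcPushInv
import Groth.Agent.H8.ClosedImmUnit

/-!
# Flat base change of `O_S ≅ f_* O_X` (helper8)

* `canPush g : O_S ⟶ g_* O_X`, the canonical map; on sections it is `g.app`.
* `app_bijective_of_flat_baseChange` : in a cartesian square with `f` qcqs, `g` flat,
  if `f.app V` is bijective for all `V`, then `f'.app V'` is bijective for all `V'`.
-/

set_option autoImplicit false
set_option linter.style.haveILetI false
universe u
open CategoryTheory CategoryTheory.Limits AlgebraicGeometry TopologicalSpace Opposite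
open AlgebraicGeometry.Scheme.Modules OmegaSh

namespace Groth.Agent.H8

open Groth.Agent.H8.AffBC Groth.Agent.H8.FlatBC Groth.Agent.H22.PullGen
open Groth.Agent.H18.SecTw Groth.Agent.H39.PullTrack

section Can

variable {X S : Scheme.{u}} (g : X ⟶ S)

/-- The canonical map `O_S ⟶ g_* O_X`. -/
noncomputable def canPush :
    Coh.structureModule S ⟶ (Scheme.Modules.pushforward g).obj (Coh.structureModule X) :=
  SheafOfModules.unitToPushforwardObjUnit g.toRingCatSheafHom

set_option backward.isDefEq.respectTransparency.types false in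
lemma canPush_app (V : S.Opens) (a : Γ(S, V)) :
    (canPush g).app V a = g.app V a := rfl

set_option backward.isDefEq.respectTransparency.types false in
lemma unit_comp_pullbackUnitIso :
    (pullbackPushforwardAdjunction g).unit.app (Coh.structureModule S) ≫
      (Scheme.Modules.pushforward g).map (pullbackUnitIso g).hom = canPush g := by
  have h3 : (pullbackPushforwardAdjunction g).homEquiv _ _ (pullbackUnitIso g).hom = canPush g :=
    SheafOfModules.pullbackPushforwardAdjunction_homEquiv_pullbackObjUnitToUnit _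
  rwa [Adjunction.homEquiv_unit] at h3

set_option backward.isDefEq.respectTransparency.types false in
lemma pullbackUnitIso_hom_pullSect (V : S.Opens) (a : Γ(S, V)) :
    (pullbackUnitIso g).hom.app (g ⁻¹ᵁ V) (pullSect g (Coh.structureModule S) V a) = g.app V a := by
  have := congrArg (fun t : Coh.structureModule S ⟶
      (Scheme.Modules.pushforward g).obj (Coh.structureModule X) =>
      (Scheme.Modules.Hom.app t V) (show Γ(Coh.structureModule S, V) from a))
    (unit_comp_pullbackUnitIso g)
  exact this

set_option backward.isDefEq.respectTransparency.types false in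
lemma pullbackUnitIso_hom_pullSectLE (V : S.Opens) (W : X.Opens) (hle : W ≤ g ⁻¹ᵁ V)
    (a : Γ(S, V)) :
    (pullbackUnitIso g).hom.app W (pullSectLE g (Coh.structureModule S) V W hle
      (show Γ(Coh.structureModule S, V) from a)) = g.appLE V W hle a := by
  rw [pullSectLE_apply, app_res, pullbackUnitIso_hom_pullSect]
  rfl

end Can

section BC

variable {X S X' S' : Scheme.{u}} {f : X ⟶ S} {g : S' ⟶ S} {g' : X' ⟶ X} {f' : X' ⟶ S'}
  (h : IsPullback g' f' f g)

lemma sv_eq_app {Y : Scheme.{u}} {N : Y.Modules} (s : Coh.structureModule Y ⟶ N) (W : Y.Opens) :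
    sv s W = s.app W (show Γ(Coh.structureModule Y, W) from (1 : Γ(Y, W))) := rfl

/-- The base-changed canonical map. -/
noncomputable def canPushBC :
    Coh.structureModule S' ⟶ (Scheme.Modules.pushforward f').obj (Coh.structureModule X') :=
  (pullbackUnitIso g).inv ≫ (Scheme.Modules.pullback g).map (canPush f) ≫
    uMap f g g' f' h.w (Coh.structureModule X) ≫
    (Scheme.Modules.pushforward f').map (pullbackUnitIso g').hom

set_option backward.isDefEq.respectTransparency.types false in
theorem canPushBC_eq : canPushBC h = canPush f' := by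
  apply hom_ext_sv_top'
  have key : ∀ V : S.Opens, sv (canPushBC h) (g ⁻¹ᵁ V) = sv (canPush f') (g ⁻¹ᵁ V) := by
    intro V
    rw [sv_eq_app, sv_eq_app, canPush_app, map_one]
    have e1 : (show Γ(Coh.structureModule S', g ⁻¹ᵁ V) from (1 : Γ(S', g ⁻¹ᵁ V))) =
        (pullbackUnitIso g).hom.app (g ⁻¹ᵁ V) (pullSect g (Coh.structureModule S) V
          (show Γ(Coh.structureModule S, V) from (1 : Γ(S, V)))) := by
      rw [pullbackUnitIso_hom_pullSect, map_one]
    rw [e1]
    unfold canPushBC
    have e2 : ∀ y, (pullbackUnitIso g).inv.app (g ⁻¹ᵁ V) ((pullbackUnitIso g).hom.app (g ⁻¹ᵁ V) y) = y :=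
      fun y => congrArg (fun t : (Scheme.Modules.pullback g).obj (Coh.structureModule S) ⟶
        (Scheme.Modules.pullback g).obj (Coh.structureModule S) =>
          (Scheme.Modules.Hom.app t (g ⁻¹ᵁ V)) y) (pullbackUnitIso g).hom_inv_id
    have e3 := map_pullSect g (canPush f) V (show Γ(Coh.structureModule S, V) from (1 : Γ(S, V)))
    rw [canPush_app, map_one] at e3
    have e4 := uMap_pullSect f g g' f' h.w (Coh.structureModule X) V
      (show Γ(Coh.structureModule X, f ⁻¹ᵁ V) from (1 : Γ(X, f ⁻¹ᵁ V)))
    rw [vMap_app] at e4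
    have e5 : eqToHom (preimage_eq f g g' f' h.w V).symm =
        homOfLE (le_of_eq (preimage_eq f g g' f' h.w V).symm) := Subsingleton.elim _ _
    rw [e5, ← pullSectLE_apply] at e4
    have e6 := pullbackUnitIso_hom_pullSectLE g' (f ⁻¹ᵁ V) (f' ⁻¹ᵁ (g ⁻¹ᵁ V))
      (le_of_eq (preimage_eq f g g' f' h.w V).symm) (1 : Γ(X, f ⁻¹ᵁ V))
    have e7 : g'.appLE (f ⁻¹ᵁ V) (f' ⁻¹ᵁ (g ⁻¹ᵁ V))
      (le_of_eq (preimage_eq f g g' f' h.w V).symm) (1 : Γ(X, f ⁻¹ᵁ V)) = 1 := map_one _
    rw [e7] at e6
    simp only [Scheme.Modules.Hom.comp_app, ConcreteCategory.comp_apply]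
    rw [e2, e3]
    erw [e4]
    exact e6
  exact key ⊤

set_option backward.isDefEq.respectTransparency.types false in
theorem isIso_canPush {Y T : Scheme.{u}} (p : Y ⟶ T)
    (hp : ∀ U : T.Opens, Function.Bijective (p.app U)) : IsIso (canPush p) := by
  apply isIso_of_bijective_basis (canPush p) (fun V : T.Opens => V)
  · rw [Opens.isBasis_iff_nbhd]
    intro W x hx
    exact ⟨W, ⟨W, rfl⟩, hx, le_rfl⟩
  · intro V
    exact hp V

set_option backward.isDefEq.respectTransparency.types false in
include h in
/-- **Flat base change of `O_S ≅ f_* O_X`.** -/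
theorem app_bijective_of_flat_baseChange [QuasiCompact f] [QuasiSeparated f] [Flat g]
    (hf : ∀ V : S.Opens, Function.Bijective (f.app V)) (V' : S'.Opens) :
    Function.Bijective (f'.app V') := by
  haveI : (Coh.structureModule X).IsQuasicoherent := isQuasicoherent_structureModule' X
  haveI := isIso_uMap_of_flat h (Coh.structureModule X)
  haveI : IsIso (canPush f) := isIso_canPush f hf
  haveI : IsIso (canPushBC h) := by unfold canPushBC; infer_instance
  haveI : IsIso (canPush f') := by rw [← canPushBC_eq h]; infer_instance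
  exact app_bijective_of_isIso (canPush f') V'

end BC

section FF

variable {X S : Scheme.{u}} (f : X ⟶ S)

/-- If `O_S ≅ f_* O_X`, a morphism between pullbacks of finite locally free modules whose direct
image is an isomorphism is an isomorphism. -/
theorem isIso_of_isIso_pushforward_of_pullback_iso
    (hf : ∀ U : S.Opens, Function.Bijective (f.app U)) {P₁ P₂ : X.Modules} {N₁ N₂ : S.Modules}
    (hN₁ : FlatMod.IsFinLocFree N₁) (hN₂ : FlatMod.IsFinLocFree N₂)
    (e₁ : P₁ ≅ (Scheme.Modules.pullback f).obj N₁) (e₂ : P₂ ≅ (Scheme.Modules.pullback f).obj N₂)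
    (ψ : P₁ ⟶ P₂) (hψ : IsIso ((Scheme.Modules.pushforward f).map ψ)) : IsIso ψ := by
  haveI := UnitFLF.isIso_unit_of_isFinLocFree f hf N₁ hN₁
  haveI := UnitFLF.isIso_unit_of_isFinLocFree f hf N₂ hN₂
  obtain ⟨χ, hχ⟩ := (UnitFLF.pullback_map_bijective f hf N₁ N₂ hN₂).2 (e₁.inv ≫ ψ ≫ e₂.hom)
  have hχ' : (Scheme.Modules.pullback f).map χ = e₁.inv ≫ ψ ≫ e₂.hom := hχ
  have h1 : IsIso ((Scheme.Modules.pushforward f).map ((Scheme.Modules.pullback f).map χ)) := by
    rw [hχ', Functor.map_comp, Functor.map_comp]
    infer_instance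
  have h2 := (pullbackPushforwardAdjunction f).unit.naturality χ
  simp only [Functor.id_obj, Functor.id_map, Functor.comp_obj, Functor.comp_map] at h2
  have h3 : χ = (pullbackPushforwardAdjunction f).unit.app N₁ ≫
      (Scheme.Modules.pushforward f).map ((Scheme.Modules.pullback f).map χ) ≫
      inv ((pullbackPushforwardAdjunction f).unit.app N₂) := by
    rw [← Category.assoc, ← h2, Category.assoc, IsIso.hom_inv_id, Category.comp_id]
  haveI : IsIso χ := by rw [h3]; infer_instance
  have h4 : ψ = e₁.hom ≫ (Scheme.Modules.pullback f).map χ ≫ e₂.inv := by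
    rw [hχ']; simp
  rw [h4]
  infer_instance

end FF

end Groth.Agent.H8
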