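import Groth.Agent.H8.FpqcDescent
import Groth.Agent.H8.LocFreeSections
import Groth.Agent.H8.RankLocFree
import Groth.Agent.H8.Coh
import Groth.Agent.H17.LocFreeRank
import Groth.Agent.H90.QCohHom

/-!
# fpqc descent of "finite locally free of rank `n`" for quasi-coherent modules (helper8)

* `free_of_tensor_free` : flat local `A → B`, `M` finite over `A`, `B ⊗ M` free of rank `n` over `B`
  ⟹ `M ≃ (Fin n → A)`.
* `isFinLocFreeOfRank_of_pullback` : `f` flat, surjective, quasi-compact, `M` quasi-coherent and
  `f^* M` finite locally free of rank `n` ⟹ `M` finite locally free of rank `n`.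
-/

set_option autoImplicit false
set_option linter.style.haveILetI false
universe u
open CategoryTheory CategoryTheory.Limits AlgebraicGeometry TopologicalSpace Opposite TensorProduct

namespace Groth.Agent.H8

/-- Descent of freeness of rank `n` along a flat local homomorphism of local rings. -/
theorem free_of_tensor_free {A B M : Type u} [CommRing A] [CommRing B] [IsLocalRing A]
    [IsLocalRing B] [Algebra A B] [IsLocalHom (algebraMap A B)] [Module.Flat A B]
    [AddCommGroup M] [Module A M] [Module.Finite A M] (n : ℕ)
    (e : (B ⊗[A] M) ≃ₗ[B] (Fin n → B)) : Nonempty (M ≃ₗ[A] (Fin n → A)) := by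
  haveI : Module.FaithfullyFlat A B := Module.FaithfullyFlat.of_flat_of_isLocalHom
  haveI : Module.Flat B (B ⊗[A] M) := Module.Flat.of_linearEquiv e
  haveI : Module.Flat A M := Module.Flat.of_flat_tensorProduct A M B
  haveI : Module.Free A M := Module.free_of_flat_of_isLocalRing
  have h1 : Module.finrank B (B ⊗[A] M) = Module.finrank A M := Module.finrank_baseChange
  have h2 : Module.finrank B (B ⊗[A] M) = n := by
    rw [e.finrank_eq, Module.finrank_pi, Fintype.card_fin]
  have h3 : Module.finrank A M = n := h1.symm.trans h2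
  exact ⟨(Module.finBasisOfFinrankEq A M h3).equivFun⟩

variable {X' X : Scheme.{u}} (f : X' ⟶ X) (M : X.Modules) [M.IsQuasicoherent]

set_option backward.isDefEq.respectTransparency false in
/-- fpqc descent of "finite locally free of rank `n`" for quasi-coherent modules. -/
theorem isFinLocFreeOfRank_of_pullback [Flat f] [Surjective f] [QuasiCompact f] (n : ℕ)
    (h : FlatMod.IsFinLocFreeOfRank n ((Scheme.Modules.pullback f).obj M)) :
    FlatMod.IsFinLocFreeOfRank n M := by
  haveI := isQuasicoherent_pullback f M
  have hflf : FlatMod.IsFinLocFree ((Scheme.Modules.pullback f).obj M) := fun x => by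
    obtain ⟨U, hxU, e⟩ := h x
    exact ⟨U, n, hxU, e⟩
  have hcoh' := Groth.Agent.H90.QH.isCoh_of_isFinLocFree hflf
  haveI : SheafOfModules.IsFiniteType (R := X'.ringCatSheaf) ((Scheme.Modules.pullback f).obj M) :=
    hcoh'.2
  haveI hft : SheafOfModules.IsFiniteType (R := X.ringCatSheaf) M := isFiniteType_of_pullback f M
  have hcoh : Coh.IsCoh M := ⟨inferInstance, hft⟩
  apply Groth.Agent.H17.LocFreeRank.isFinLocFreeOfRank_of_free_stalk (F := M) n
  · intro U hU
    exact finitePresentation_sections_of_pullback f M hU (fun W _ =>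
      (finitePresentation_projective_sections_of_isFinLocFree _ hflf W.2).1)
  · intro x
    obtain ⟨x', rfl⟩ := f.surjective x
    obtain ⟨U, hxU, ⟨e⟩⟩ := h x'
    obtain ⟨b⟩ := exists_basis_stalk_of_restrict_iso ((Scheme.Modules.pullback f).obj M) e x' hxU
    letI := (f.stalkMap x').hom.toAlgebra
    obtain ⟨E⟩ := nonempty_stalk_pullback_equiv f M x'
    haveI : IsLocalHom (algebraMap (X.presheaf.stalk (f x')) (X'.presheaf.stalk x')) :=
      (inferInstance : IsLocalHom (f.stalkMap x').hom)
    haveI : Module.Flat (X.presheaf.stalk (f x')) (X'.presheaf.stalk x') := Flat.stalkMap f x'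
    haveI : Module.Finite (X.presheaf.stalk (f x')) (M.presheaf.stalk (f x')) :=
      finite_stalk_of_isCoh M hcoh (f x')
    exact free_of_tensor_free n (E.symm.trans b.equivFun)

end Groth.Agent.H8
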