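import Groth.Agent.H8.FreeRes

/-!
# Locally free modules and opens `U` with `O(V) = O(V ∩ U)`

If restriction of functions from `V` to `V ∩ U` is bijective for all opens `V`, then for every
finite locally free module `E` on `X` the unit `E ⟶ j_* j^* E` is an isomorphism, and restriction
to `U` is fully faithful on morphisms into finite locally free modules.
-/

set_option autoImplicit false
set_option linter.style.haveILetI false
universe u
open CategoryTheory CategoryTheory.Limits AlgebraicGeometry TopologicalSpace Opposite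
open AlgebraicGeometry.Scheme.Modules

namespace Groth.Agent.H8

variable {X : Scheme.{u}}

/-- The structure sheaf is free of rank one. -/
noncomputable def structureModuleIsoFreeModOne (X : Scheme.{u}) :
    Coh.structureModule X ≅ FlatMod.freeMod X 1 :=
  (coproductUniqueIso (fun _ : Fin 1 => Coh.structureModule X)).symm

/-- Invertible modules are finite locally free. -/
theorem isFinLocFree_of_isInvertible {L : X.Modules} (hL : PicF.IsInvertible L) :
    FlatMod.IsFinLocFree L := by
  intro x
  obtain ⟨W, hx, ⟨e⟩⟩ := hL x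
  exact ⟨W, 1, hx, ⟨e ≪≫ structureModuleIsoFreeModOne _⟩⟩

/-- Invertible modules are locally free of rank one. -/
theorem isFinLocFreeOfRank_one_of_isInvertible {L : X.Modules} (hL : PicF.IsInvertible L) :
    FlatMod.IsFinLocFreeOfRank 1 L := by
  intro x
  obtain ⟨W, hx, ⟨e⟩⟩ := hL x
  exact ⟨W, hx, ⟨e ≪≫ structureModuleIsoFreeModOne _⟩⟩

/-- Locally free modules of rank one are invertible. -/
theorem isInvertible_of_isFinLocFreeOfRank_one {L : X.Modules}
    (hL : FlatMod.IsFinLocFreeOfRank 1 L) : PicF.IsInvertible L := by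
  intro x
  obtain ⟨W, hx, ⟨e⟩⟩ := hL x
  exact ⟨W, hx, ⟨e ≪≫ (structureModuleIsoFreeModOne _).symm⟩⟩

/-- `IsFinLocFree` is invariant under isomorphism. -/
theorem isFinLocFree_of_iso {E E' : X.Modules} (i : E ≅ E') (hE : FlatMod.IsFinLocFree E) :
    FlatMod.IsFinLocFree E' := by
  intro x
  obtain ⟨W, n, hx, ⟨ψ⟩⟩ := hE x
  exact ⟨W, n, hx, ⟨(restrictFunctor W.ι).mapIso i.symm ≪≫ ψ⟩⟩

/-- `IsInvertible` is invariant under isomorphism. -/
theorem isInvertible_of_iso {E E' : X.Modules} (i : E ≅ E') (hE : PicF.IsInvertible E) :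
    PicF.IsInvertible E' := by
  intro x
  obtain ⟨W, hx, ⟨ψ⟩⟩ := hE x
  exact ⟨W, hx, ⟨(restrictFunctor W.ι).mapIso i.symm ≪≫ ψ⟩⟩

variable (U : X.Opens)
  (h : ∀ V : X.Opens, Function.Bijective (X.presheaf.map (homOfLE (inf_le_left : V ⊓ U ≤ V)).op))

include h in
/-- If `O(V) → O(V ∩ U)` is bijective for all `V`, the unit `E ⟶ j_* j^* E` is an isomorphism for
`E` finite locally free. -/
theorem isIso_unit_of_isFinLocFree (E : X.Modules) (hE : FlatMod.IsFinLocFree E) :
    IsIso ((restrictAdjunction U.ι).unit.app E) := by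
  apply isIso_of_bijective_basis _
    (fun V : {V : X.Opens // ∃ (W : X.Opens) (n : ℕ), V ≤ W ∧
      Nonempty (E.restrict W.ι ≅ FlatMod.freeMod (↑W) n)} => V.1)
  · rw [Opens.isBasis_iff_nbhd]
    intro W' x hx
    obtain ⟨W, n, hxW, hW⟩ := hE x
    exact ⟨W' ⊓ W, ⟨⟨W' ⊓ W, W, n, inf_le_right, hW⟩, rfl⟩, ⟨hx, hxW⟩, inf_le_left⟩
  · rintro ⟨V, W, n, hVW, ⟨e⟩⟩
    show Function.Bijective (E.presheaf.map (homOfLE (U.ι.image_preimage_le V)).op)
    apply bijective_res_of_restrict_iso_of_le E e hVW
    have e1 : U.ι ''ᵁ (U.ι ⁻¹ᵁ V) = V ⊓ U := by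
      rw [Scheme.Hom.image_preimage_eq_opensRange_inf, Scheme.Opens.opensRange_ι, inf_comm]
    exact (bijective_presheaf_map_congr rfl e1.symm
      (U.ι.image_preimage_le V) inf_le_left).mpr (h V)

/-- Restriction along an open immersion `j` is bijective on morphisms into `L'` as soon as the
unit `L' ⟶ j_* j^* L'` is an isomorphism. -/
theorem restrict_map_bijective_of_isIso_unit {Y : Scheme.{u}} (j : Y ⟶ X) [IsOpenImmersion j]
    (L L' : X.Modules) [IsIso ((restrictAdjunction j).unit.app L')] :
    Function.Bijective (fun φ : L ⟶ L' => (restrictFunctor j).map φ) := by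
  have key : (fun φ : L ⟶ L' => (restrictFunctor j).map φ) =
      ((restrictAdjunction j).homEquiv L ((restrictFunctor j).obj L')).symm ∘
        (fun φ : L ⟶ L' => φ ≫ (restrictAdjunction j).unit.app L') := by
    funext φ
    rw [Function.comp_apply, Equiv.eq_symm_apply, Adjunction.homEquiv_unit]
    exact ((restrictAdjunction j).unit.naturality φ).symm
  rw [key]
  refine (Equiv.bijective _).comp ?_
  constructor
  · intro a b hab
    exact (cancel_mono ((restrictAdjunction j).unit.app L')).mp hab
  · intro c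
    exact ⟨c ≫ inv ((restrictAdjunction j).unit.app L'), by simp⟩

include h in
/-- If `O(V) → O(V ∩ U)` is bijective for all `V`, restriction to `U` is bijective on morphisms
into a finite locally free module. -/
theorem restrict_map_bijective (L L' : X.Modules) (hL' : FlatMod.IsFinLocFree L') :
    Function.Bijective (fun φ : L ⟶ L' => (restrictFunctor U.ι).map φ) := by
  haveI := isIso_unit_of_isFinLocFree U h L' hL'
  exact restrict_map_bijective_of_isIso_unit U.ι L L'

end Groth.Agent.H8
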