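import Groth.Agent.H8.InvRestrict

/-!
# Morphisms out of the structure sheaf and global sections

* `unit_hom_ev_bijective`: morphisms `O_T ⟶ M` correspond to global sections of `M`.
* `bijective_res_of_FF`: if restriction along an open immersion `j : Z ⟶ T` is bijective on
  endomorphisms of the structure sheaf, then restriction of functions from `T` to `j(Z)` is
  bijective.
* `isIso_unit_of_isFinLocFree'`: version of `isIso_unit_of_isFinLocFree` for arbitrary open
  immersions.
-/

set_option autoImplicit false
set_option linter.style.haveILetI false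
universe u
open CategoryTheory CategoryTheory.Limits AlgebraicGeometry TopologicalSpace Opposite
open AlgebraicGeometry.Scheme.Modules

namespace Groth.Agent.H8

/-- Global sections of a sheaf of modules, as compatible families, are determined by their value
on the whole space. -/
theorem sections_eval_top_bijective (T : Scheme.{u}) (M : T.Modules) :
    Function.Bijective (fun s : SheafOfModules.sections M => (s.val (op ⊤) : Γ(M, ⊤))) := by
  constructor
  · intro s t h
    refine PresheafOfModules.sections_ext s t (fun W => ?_)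
    have hs := PresheafOfModules.sections_property s (homOfLE (le_top : W.unop ≤ ⊤)).op
    have ht := PresheafOfModules.sections_property t (homOfLE (le_top : W.unop ≤ ⊤)).op
    exact hs.symm.trans ((congrArg _ h).trans ht)
  · intro a
    refine ⟨PresheafOfModules.sectionsMk
      (fun W => M.val.map (homOfLE (le_top : W.unop ≤ ⊤)).op a) (fun W W' f => ?_), ?_⟩
    · rw [← PresheafOfModules.map_comp_apply]
      exact PresheafOfModules.congr_map_apply _ (Subsingleton.elim _ _) _
    · show M.val.map (homOfLE (le_top : (⊤ : T.Opens) ≤ ⊤)).op a = a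
      have : (homOfLE (le_top : (⊤ : T.Opens) ≤ ⊤)).op = 𝟙 (op (⊤ : T.Opens)) :=
        Subsingleton.elim _ _
      rw [this, PresheafOfModules.map_id]
      rfl

/-- Morphisms `O_T ⟶ M` correspond bijectively to global sections of `M`, via the image of `1`. -/
theorem unit_hom_ev_bijective (T : Scheme.{u}) (M : T.Modules) :
    Function.Bijective (fun φ : Coh.structureModule T ⟶ M =>
      (φ.app ⊤ (show Γ(Coh.structureModule T, ⊤) from (1 : Γ(T, ⊤))) : Γ(M, ⊤))) := by
  have h : (fun φ : Coh.structureModule T ⟶ M =>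
      (φ.app ⊤ (show Γ(Coh.structureModule T, ⊤) from (1 : Γ(T, ⊤))) : Γ(M, ⊤))) =
      (fun s : SheafOfModules.sections M => (s.val (op ⊤) : Γ(M, ⊤))) ∘
        (SheafOfModules.unitHomEquiv M) := by
    funext φ
    rfl
  rw [h]
  exact (sections_eval_top_bijective T M).comp (Equiv.bijective _)

section

variable {Z T : Scheme.{u}} (j : Z ⟶ T) [IsOpenImmersion j]

/-- If restriction along the open immersion `j` is bijective on endomorphisms of the structure
sheaf, restriction of functions from `T` to the image of `j` is bijective. -/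
theorem bijective_res_of_FF
    (hFF : Function.Bijective (fun φ : Coh.structureModule T ⟶ Coh.structureModule T =>
      (restrictFunctor j).map φ)) :
    Function.Bijective (T.presheaf.map (homOfLE (le_top : j ''ᵁ ⊤ ≤ ⊤)).op) := by
  let u := restrictUnitIso j
  let evT := fun φ : Coh.structureModule T ⟶ Coh.structureModule T =>
    (φ.app ⊤ (show Γ(Coh.structureModule T, ⊤) from (1 : Γ(T, ⊤))) : Γ(Coh.structureModule T, ⊤))
  let evZ := fun φ : Coh.structureModule Z ⟶ Coh.structureModule Z =>
    (φ.app ⊤ (show Γ(Coh.structureModule Z, ⊤) from (1 : Γ(Z, ⊤))) : Γ(Coh.structureModule Z, ⊤))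
  let R := fun φ : Coh.structureModule T ⟶ Coh.structureModule T =>
    (Iso.homCongr u u) ((restrictFunctor j).map φ)
  let ρ : Γ(Coh.structureModule T, ⊤) → Γ(Coh.structureModule Z, ⊤) := fun a =>
    (j.appIso ⊤).hom (T.presheaf.map (homOfLE (le_top : j ''ᵁ ⊤ ≤ ⊤)).op a)
  have hevT : Function.Bijective evT := unit_hom_ev_bijective T _
  have hevZ : Function.Bijective evZ := unit_hom_ev_bijective Z _
  have hR : Function.Bijective R := (Equiv.bijective _).comp hFF
  have hsq : ρ ∘ evT = evZ ∘ R := by
    funext φ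
    have h1 : φ.app (j ''ᵁ ⊤) (show Γ(Coh.structureModule T, j ''ᵁ ⊤) from
        (1 : Γ(T, j ''ᵁ ⊤))) =
        T.presheaf.map (homOfLE (le_top : j ''ᵁ ⊤ ≤ ⊤)).op (evT φ) := by
      have := app_res φ (le_top : j ''ᵁ ⊤ ≤ ⊤)
        (show Γ(Coh.structureModule T, ⊤) from (1 : Γ(T, ⊤)))
      refine Eq.trans ?_ this
      congr 1
      exact (map_one (T.presheaf.map (homOfLE (le_top : j ''ᵁ ⊤ ≤ ⊤)).op).hom).symm
    have h2 : evZ (R φ) = (j.appIso ⊤).hom (φ.app (j ''ᵁ ⊤)
        (show Γ(Coh.structureModule T, j ''ᵁ ⊤) from (j.appIso ⊤).inv (1 : Γ(Z, ⊤)))) := rfl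
    rw [Function.comp_apply, Function.comp_apply, h2, map_one]
    show (j.appIso ⊤).hom _ = _
    rw [← h1]
  have hρ : Function.Bijective ρ := by
    have h3 : Function.Bijective (ρ ∘ evT) := by
      rw [hsq]
      exact hevZ.comp hR
    exact (Function.Bijective.of_comp_iff ρ hevT).mp h3
  have hiso : Function.Bijective (j.appIso ⊤).hom :=
    ConcreteCategory.bijective_of_isIso (j.appIso ⊤).hom
  exact (Function.Bijective.of_comp_iff' hiso _).mp hρ

/-- If `O(V) → O(j(j⁻¹ V))` is bijective for all `V`, the unit `E ⟶ j_* j^* E` is an isomorphism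
for `E` finite locally free. -/
theorem isIso_unit_of_isFinLocFree'
    (h : ∀ V : T.Opens, Function.Bijective (T.presheaf.map (homOfLE (j.image_preimage_le V)).op))
    (E : T.Modules) (hE : FlatMod.IsFinLocFree E) :
    IsIso ((restrictAdjunction j).unit.app E) := by
  apply isIso_of_bijective_basis _
    (fun V : {V : T.Opens // ∃ (W : T.Opens) (n : ℕ), V ≤ W ∧
      Nonempty (E.restrict W.ι ≅ FlatMod.freeMod (↑W) n)} => V.1)
  · rw [Opens.isBasis_iff_nbhd]
    intro W' x hx
    obtain ⟨W, n, hxW, hW⟩ := hE x
    exact ⟨W' ⊓ W, ⟨⟨W' ⊓ W, W, n, inf_le_right, hW⟩, rfl⟩, ⟨hx, hxW⟩, inf_le_left⟩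
  · rintro ⟨V, W, n, hVW, ⟨e⟩⟩
    show Function.Bijective (E.presheaf.map (homOfLE (j.image_preimage_le V)).op)
    exact bijective_res_of_restrict_iso_of_le E e hVW _ (h V)

end

end Groth.Agent.H8
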