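import Mathlib

/-!
Descent of finiteness conditions on modules along a finite, jointly surjective family of flat
algebras (the algebra behind fpqc descent of finite type / finite presentation).
-/

set_option autoImplicit false
universe u
open TensorProduct

namespace Groth.Agent.H8

section Family

variable {A : Type u} [CommRing A] {ι : Type u} [Finite ι]
  (B : ι → Type u) [∀ i, CommRing (B i)] [∀ i, Algebra A (B i)] [∀ i, Module.Flat A (B i)]
  (hsurj : ∀ p : PrimeSpectrum A, ∃ i, ∃ q : PrimeSpectrum (B i),
    q.comap (algebraMap A (B i)) = p)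

include hsurj in
/-- The product of a finite jointly surjective family of flat algebras is faithfully flat. -/
theorem faithfullyFlat_pi : Module.FaithfullyFlat A (∀ i, B i) := by
  classical
  cases nonempty_fintype ι
  haveI : Module.Flat A (∀ i, B i) :=
    Module.Flat.of_linearEquiv (DirectSum.linearEquivFunOnFintype A ι B).symm
  apply Module.FaithfullyFlat.of_comap_surjective
  intro p
  obtain ⟨i, q, hq⟩ := hsurj p
  refine ⟨q.comap (Pi.evalRingHom B i), ?_⟩
  rw [← hq]
  rfl

include hsurj in
/-- A module which dies after tensoring with each member of a finite jointly surjective flat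
family is zero. -/
theorem subsingleton_of_forall_tensor_subsingleton (Q : Type u) [AddCommGroup Q] [Module A Q]
    (h : ∀ i, Subsingleton (B i ⊗[A] Q)) : Subsingleton Q := by
  classical
  cases nonempty_fintype ι
  haveI := faithfullyFlat_pi B hsurj
  let e : (∀ i, B i) ⊗[A] Q ≃ₗ[A] ∀ i, Q ⊗[A] B i :=
    (TensorProduct.comm A _ _) ≪≫ₗ TensorProduct.piRight A A Q B
  haveI : ∀ i, Subsingleton (Q ⊗[A] B i) :=
    fun i => (TensorProduct.comm A Q (B i)).toEquiv.subsingleton
  haveI : Subsingleton ((∀ i, B i) ⊗[A] Q) := e.toEquiv.subsingleton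
  exact (Module.FaithfullyFlat.subsingleton_tensorProduct_iff_right A (∀ i, B i)).mp this

include hsurj in
/-- Descent of finite generation along a finite jointly surjective flat family. -/
theorem finite_of_forall_tensor_finite (N : Type u) [AddCommGroup N] [Module A N]
    (h : ∀ i, Module.Finite (B i) (B i ⊗[A] N)) : Module.Finite A N := by
  classical
  cases nonempty_fintype ι
  -- for each `i`, a finitely generated submodule `N' i` of `N` with `B i ⊗ N' i → B i ⊗ N` onto
  have h1 : ∀ i, ∃ N' : Submodule A N, N'.FG ∧
      Function.Surjective (N'.subtype.lTensor (B i)) := by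
    intro i
    obtain ⟨s, hs⟩ := (h i).fg_top
    obtain ⟨N', hN', hsub⟩ := TensorProduct.exists_finite_submodule_right_of_setFinite
      (s : Set (B i ⊗[A] N)) s.finite_toSet
    refine ⟨N', Module.Finite.iff_fg.mp hN', ?_⟩
    have hr : LinearMap.range (AlgebraTensorModule.lTensor (B i) (B i) N'.subtype) = ⊤ := by
      rw [eq_top_iff, ← hs, Submodule.span_le]
      intro x hx
      obtain ⟨y, hy⟩ := hsub hx
      exact ⟨y, hy⟩
    intro x
    obtain ⟨y, hy⟩ := LinearMap.range_eq_top.mp hr x
    exact ⟨y, hy⟩
  choose N' hfg hN' using h1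
  let P : Submodule A N := ⨆ i, N' i
  have hPfg : P.FG := by
    have : P = Finset.univ.sup N' := by
      simp [P, Finset.sup_eq_iSup]
    rw [this]
    exact Submodule.fg_finset_sup _ _ (fun i _ => hfg i)
  have hPsurj : ∀ i, Function.Surjective (P.subtype.lTensor (B i)) := by
    intro i x
    obtain ⟨y, hy⟩ := hN' i x
    have hle : N' i ≤ P := le_iSup N' i
    refine ⟨(Submodule.inclusion hle).lTensor (B i) y, ?_⟩
    rw [← hy, ← LinearMap.comp_apply, ← LinearMap.lTensor_comp]
    rfl
  -- the quotient dies after tensoring
  have hQ : ∀ i, Subsingleton (B i ⊗[A] (N ⧸ P)) := by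
    intro i
    refine ⟨fun a b => ?_⟩
    have hz : ∀ c : B i ⊗[A] (N ⧸ P), c = 0 := by
      intro c
      obtain ⟨t, rfl⟩ := LinearMap.lTensor_surjective (B i) P.mkQ_surjective c
      obtain ⟨y, rfl⟩ := hPsurj i t
      rw [← LinearMap.comp_apply, ← LinearMap.lTensor_comp]
      have : P.mkQ ∘ₗ P.subtype = 0 := by
        ext x
        simp
      rw [this, LinearMap.lTensor_zero, LinearMap.zero_apply]
    rw [hz a, hz b]
  haveI := subsingleton_of_forall_tensor_subsingleton B hsurj (N ⧸ P) hQ
  have hP : P = ⊤ := Submodule.Quotient.subsingleton_iff.mp this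
  refine ⟨?_⟩
  rw [← hP]
  exact hPfg

include hsurj in
/-- Descent of finite presentation along a finite jointly surjective flat family. -/
theorem finitePresentation_of_forall_tensor_finitePresentation (N : Type u) [AddCommGroup N]
    [Module A N] (h : ∀ i, Module.FinitePresentation (B i) (B i ⊗[A] N)) :
    Module.FinitePresentation A N := by
  classical
  haveI hfin : Module.Finite A N :=
    finite_of_forall_tensor_finite B hsurj N (fun i => inferInstance)
  obtain ⟨n, π, hπ⟩ := Module.Finite.exists_fin' A N
  have hK : ∀ i, Module.Finite (B i) (B i ⊗[A] LinearMap.ker π) := by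
    intro i
    let πi : B i ⊗[A] (Fin n → A) →ₗ[B i] B i ⊗[A] N := AlgebraTensorModule.lTensor (B i) (B i) π
    have hπi : Function.Surjective πi := LinearMap.lTensor_surjective (B i) hπ
    have hker : (LinearMap.ker πi).FG := Module.FinitePresentation.fg_ker πi hπi
    let ι' : B i ⊗[A] LinearMap.ker π →ₗ[B i] B i ⊗[A] (Fin n → A) :=
      AlgebraTensorModule.lTensor (B i) (B i) (LinearMap.ker π).subtype
    have hinj : Function.Injective ι' :=
      Module.Flat.lTensor_preserves_injective_linearMap (LinearMap.ker π).subtype
        (LinearMap.ker π).injective_subtype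
    have hex := lTensor_exact (B i) (LinearMap.exact_subtype_ker_map π) hπ
    have hrange : LinearMap.range ι' = LinearMap.ker πi := by
      ext x
      rw [LinearMap.mem_range, LinearMap.mem_ker]
      exact (hex x).symm
    let e : B i ⊗[A] LinearMap.ker π ≃ₗ[B i] LinearMap.ker πi :=
      (LinearEquiv.ofInjective ι' hinj) ≪≫ₗ LinearEquiv.ofEq _ _ hrange
    haveI : Module.Finite (B i) (LinearMap.ker πi) := Module.Finite.iff_fg.mpr hker
    exact Module.Finite.equiv e.symm
  haveI : Module.Finite A (LinearMap.ker π) := finite_of_forall_tensor_finite B hsurj _ hK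
  exact Module.finitePresentation_of_surjective π hπ (Module.Finite.iff_fg.mp inferInstance)

end Family

end Groth.Agent.H8
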