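import Mathlib.AlgebraicGeometry.Morphisms.FormallyUnramified
import Mathlib.AlgebraicGeometry.Morphisms.Etale
import Mathlib.AlgebraicGeometry.Cover.Directed
import Mathlib.RingTheory.Smooth.Basic
import Mathlib.RingTheory.Etale.Basic
import Groth.Prelude.Def_MoreMor

/-!
# Infinitesimal lifting for morphisms of schemes (helper8)

* `exists_lift_of_thickening`: if `f : X ⟶ Y` is formally unramified (Mathlib class) and all the
  ring maps `Γ(Y, V) ⟶ Γ(X, U)` between affine opens are formally smooth, then `f` lifts against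
  every closed immersion `t : T ⟶ T'` with nilpotent kernel.
* `formallyUnramified_of_isFormallyEtaleHom`, `formallySmooth_appLE_of_isFormallyEtaleHom`:
  the Prelude notion `MoreMor.IsFormallyEtaleHom` implies the affine-local ring-theoretic ones.
-/

set_option autoImplicit false
universe u

namespace Groth.Agent.H8

open AlgebraicGeometry CategoryTheory Limits TopologicalSpace

variable {X Y T T' : Scheme.{u}}

lemma isoSpec_hom_fromSpec {X : Scheme.{u}} {U : X.Opens} (hU : IsAffineOpen U) :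
    hU.isoSpec.hom ≫ hU.fromSpec = U.ι := by
  rw [← hU.isoSpec_inv_ι, Iso.hom_inv_id_assoc]

lemma isNilpotent_ker_morphismRestrict (t : T ⟶ T') [QuasiCompact t]
    (hn : IsNilpotent t.ker) (W : T'.Opens) : IsNilpotent (t ∣_ W).ker := by
  obtain ⟨n, hn⟩ := hn
  refine ⟨n, Scheme.IdealSheafData.ext ?_⟩
  funext V
  change ((t ∣_ W).ker.ideal V) ^ n = ⊥
  rw [Scheme.ker_morphismRestrict_ideal]
  change (t.ker ^ n).ideal _ = ⊥
  rw [hn]
  rfl

lemma surjective_of_isNilpotent_ker (t : T ⟶ T') [IsClosedImmersion t]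
    (hn : IsNilpotent t.ker) : Function.Surjective t := by
  obtain ⟨n, hn⟩ := hn
  have h : closure (Set.range t) = Set.univ := by
    rw [← t.support_ker, ← t.ker.support_pow (n + 1) (by simp), pow_succ, hn]
    simp
  rw [t.isClosedEmbedding.isClosed_range.closure_eq] at h
  exact Set.range_eq_univ.mp h

lemma morphismRestrict_homOfLE (t : T ⟶ T') {W' W : T'.Opens} (h : W' ≤ W) :
    (t ∣_ W') ≫ T'.homOfLE h =
      T.homOfLE (show t ⁻¹ᵁ W' ≤ t ⁻¹ᵁ W from fun _ hx => h hx) ≫ (t ∣_ W) := by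
  rw [← cancel_mono W.ι]
  simp only [Category.assoc, Scheme.homOfLE_ι, morphismRestrict_ι, Scheme.homOfLE_ι_assoc]

section Lifts

variable (f : X ⟶ Y) (t : T ⟶ T') (a : T ⟶ X) (b : T' ⟶ Y)

/-- A local lift on the open `W` of `T'`. -/
def HasLift (W : T'.Opens) : Prop :=
  ∃ l : (W : Scheme.{u}) ⟶ X, (t ∣_ W) ≫ l = (t ⁻¹ᵁ W).ι ≫ a ∧ l ≫ f = W.ι ≫ b

variable {f t a b}

lemma HasLift.mono {W' W : T'.Opens} (h : W' ≤ W) (hW : HasLift f t a b W) :
    HasLift f t a b W' := by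
  obtain ⟨l, h1, h2⟩ := hW
  refine ⟨T'.homOfLE h ≫ l, ?_, ?_⟩
  · rw [← Category.assoc, morphismRestrict_homOfLE, Category.assoc, h1, Scheme.homOfLE_ι_assoc]
  · rw [Category.assoc, h2, Scheme.homOfLE_ι_assoc]

lemma lift_unique [FormallyUnramified f] [IsClosedImmersion t] (hn : IsNilpotent t.ker)
    {W : T'.Opens} {l₁ l₂ : (W : Scheme.{u}) ⟶ X}
    (h1 : (t ∣_ W) ≫ l₁ = (t ⁻¹ᵁ W).ι ≫ a) (h1' : l₁ ≫ f = W.ι ≫ b)
    (h2 : (t ∣_ W) ≫ l₂ = (t ⁻¹ᵁ W).ι ≫ a) (h2' : l₂ ≫ f = W.ι ≫ b) : l₁ = l₂ := by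
  haveI : IsClosedImmersion (t ∣_ W) := inferInstance
  exact FormallyUnramified.hom_ext (t ∣_ W) (isNilpotent_ker_morphismRestrict t hn W) f
    (h1.trans h2.symm) (h1'.trans h2'.symm)

end Lifts

/-- The open cover by a basis of opens, indexed by the basis. -/
noncomputable def basisCover (T' : Scheme.{u}) (S : Set T'.Opens) (hS : Opens.IsBasis S) :
    T'.OpenCover :=
  T'.openCoverOfIsOpenCover (fun i : S => i.1) (by
    refine IsOpenCover.mk (eq_top_iff.mpr fun p _ => ?_)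
    obtain ⟨W, hW, hpW, -⟩ := Opens.isBasis_iff_nbhd.mp hS (show p ∈ (⊤ : T'.Opens) from trivial)
    exact Opens.mem_iSup.mpr ⟨⟨W, hW⟩, hpW⟩)

noncomputable instance (T' : Scheme.{u}) (S : Set T'.Opens) (hS : Opens.IsBasis S) :
    Preorder (basisCover T' S hS).I₀ :=
  inferInstanceAs (Preorder S)

noncomputable instance (T' : Scheme.{u}) (S : Set T'.Opens) (hS : Opens.IsBasis S) :
    Scheme.Cover.LocallyDirected (basisCover T' S hS) :=
  .ofIsBasisOpensRange (fun {i j} => by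
      change i.1 ≤ j.1 ↔ (i.1.ι).opensRange ≤ (j.1.ι).opensRange
      rw [Scheme.Opens.opensRange_ι, Scheme.Opens.opensRange_ι]) <| by
    have : (Set.range fun i : (basisCover T' S hS).I₀ =>
        ((basisCover T' S hS).f i).opensRange) = S := by
      ext W
      constructor
      · rintro ⟨i, rfl⟩
        change (i.1.ι).opensRange ∈ S
        rw [Scheme.Opens.opensRange_ι]
        exact i.2
      · intro hW
        refine ⟨⟨W, hW⟩, ?_⟩
        change (W.ι).opensRange = W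
        exact Scheme.Opens.opensRange_ι W
    rw [this]
    exact hS

/-- Gluing local lifts. -/
theorem exists_lift_of_local (f : X ⟶ Y) [FormallyUnramified f] (t : T ⟶ T')
    [IsClosedImmersion t] (hn : IsNilpotent t.ker) (a : T ⟶ X) (b : T' ⟶ Y)
    (H : ∀ p : T', ∃ W : T'.Opens, p ∈ W ∧ HasLift f t a b W) :
    ∃ l : T' ⟶ X, t ≫ l = a ∧ l ≫ f = b := by
  let S : Set T'.Opens := {W | HasLift f t a b W}
  have hS : Opens.IsBasis S := by
    rw [Opens.isBasis_iff_nbhd]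
    intro O p hp
    obtain ⟨W, hpW, hW⟩ := H p
    exact ⟨W ⊓ O, hW.mono inf_le_left, ⟨hpW, hp⟩, inf_le_right⟩
  let 𝒰 := basisCover T' S hS
  choose g hg1 hg2 using fun i : S => i.2
  have hcompat' : ∀ (i j : S) (hle : i.1 ≤ j.1), T'.homOfLE hle ≫ g j = g i := by
    intro i j hle
    refine lift_unique (f := f) (t := t) (a := a) (b := b) hn ?_ ?_ (hg1 i) (hg2 i)
    · rw [← Category.assoc, morphismRestrict_homOfLE, Category.assoc, hg1 j,
        Scheme.homOfLE_ι_assoc]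
    · rw [Category.assoc, hg2 j, Scheme.homOfLE_ι_assoc]
  have hcompat : ∀ {i j : 𝒰.I₀} (hij : i ⟶ j), 𝒰.trans hij ≫ g j = g i := by
    intro i j hij
    exact hcompat' i j (leOfHom hij)
  let l : T' ⟶ X := 𝒰.glueMorphismsOfLocallyDirected g hcompat
  have hl : ∀ i : S, i.1.ι ≫ l = g i := fun i =>
    𝒰.map_glueMorphismsOfLocallyDirected g hcompat i
  refine ⟨l, ?_, ?_⟩
  · refine Scheme.hom_ext_of_forall _ _ fun x => ?_
    obtain ⟨W, hpW, hW⟩ := H (t x)
    refine ⟨t ⁻¹ᵁ W, hpW, ?_⟩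
    rw [← morphismRestrict_ι_assoc, hl ⟨W, hW⟩, hg1 ⟨W, hW⟩]
  · refine 𝒰.hom_ext _ _ fun i => ?_
    change i.1.ι ≫ l ≫ f = i.1.ι ≫ b
    rw [← Category.assoc, hl i, hg2 i]

/-- Local lifts from formal smoothness of the ring maps. -/
lemma hasLift_of_formallySmooth (f : X ⟶ Y) (t : T ⟶ T') [IsClosedImmersion t]
    (hn : IsNilpotent t.ker) (a : T ⟶ X) (b : T' ⟶ Y) (w : t ≫ b = a ≫ f)
    {U : X.Opens} (hU : IsAffineOpen U) {V : Y.Opens} (hV : IsAffineOpen V) (e : U ≤ f ⁻¹ᵁ V)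
    (hsm : (f.appLE V U e).hom.FormallySmooth)
    {W : T'.Opens} (hW : IsAffineOpen W) (hbW : W ≤ b ⁻¹ᵁ V) (haW : t ⁻¹ᵁ W ≤ a ⁻¹ᵁ U) :
    HasLift f t a b W := by
  have hW' : IsAffineOpen (t ⁻¹ᵁ W) := hW.preimage t
  letI algRA : Algebra Γ(Y, V) Γ(X, U) := (f.appLE V U e).hom.toAlgebra
  letI algRB : Algebra Γ(Y, V) Γ(T', W) := (b.appLE V W hbW).hom.toAlgebra
  letI algRC : Algebra Γ(Y, V) Γ(T, t ⁻¹ᵁ W) := (b.appLE V W hbW ≫ t.app W).hom.toAlgebra
  haveI : Algebra.FormallySmooth Γ(Y, V) Γ(X, U) := hsm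
  let ρ : Γ(T', W) →ₐ[Γ(Y, V)] Γ(T, t ⁻¹ᵁ W) := ⟨(t.app W).hom, fun r => rfl⟩
  have hcomm : f.appLE V U e ≫ a.appLE U (t ⁻¹ᵁ W) haW = b.appLE V W hbW ≫ t.app W := by
    rw [Scheme.Hom.appLE_comp_appLE, Scheme.Hom.app_eq_appLE, Scheme.Hom.appLE_comp_appLE]
    simp only [w]
  let α : Γ(X, U) →ₐ[Γ(Y, V)] Γ(T, t ⁻¹ᵁ W) := ⟨(a.appLE U (t ⁻¹ᵁ W) haW).hom, fun r => by
    change (f.appLE V U e ≫ a.appLE U (t ⁻¹ᵁ W) haW).hom r = _
    rw [hcomm]; rfl⟩
  have hρsurj : Function.Surjective ρ := t.app_surjective W hW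
  have hρnil : IsNilpotent (RingHom.ker (ρ : Γ(T', W) →+* Γ(T, t ⁻¹ᵁ W))) := by
    obtain ⟨n, hn⟩ := hn
    refine ⟨n, ?_⟩
    have h1 : RingHom.ker (ρ : Γ(T', W) →+* Γ(T, t ⁻¹ᵁ W)) = t.ker.ideal ⟨W, hW⟩ :=
      (Scheme.Hom.ker_apply t ⟨W, hW⟩).symm
    have h2 : (t.ker ^ n).ideal ⟨W, hW⟩ = (t.ker.ideal ⟨W, hW⟩) ^ n := rfl
    rw [h1, ← h2, hn]
    rfl
  let lift := Algebra.FormallySmooth.liftOfSurjective α ρ hρsurj hρnil
  have hlift : CommRingCat.ofHom lift.toRingHom ≫ t.app W = a.appLE U (t ⁻¹ᵁ W) haW := by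
    ext x
    exact Algebra.FormallySmooth.liftOfSurjective_apply α ρ hρsurj hρnil x
  have hlift' : f.appLE V U e ≫ CommRingCat.ofHom lift.toRingHom = b.appLE V W hbW := by
    ext x
    exact lift.commutes x
  have hres : (t ∣_ W) ≫ hW.isoSpec.hom = hW'.isoSpec.hom ≫ Spec.map (t.app W) := by
    rw [← cancel_mono hW.fromSpec]
    simp only [Category.assoc]
    rw [isoSpec_hom_fromSpec, morphismRestrict_ι, Scheme.Hom.app_eq_appLE,
      IsAffineOpen.SpecMap_appLE_fromSpec t hW hW', ← Category.assoc, isoSpec_hom_fromSpec]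
  refine ⟨hW.isoSpec.hom ≫ Spec.map (CommRingCat.ofHom lift.toRingHom) ≫ hU.fromSpec, ?_, ?_⟩
  · rw [← Category.assoc, hres, Category.assoc, ← Spec.map_comp_assoc, hlift,
      IsAffineOpen.SpecMap_appLE_fromSpec a hU hW' haW, ← Category.assoc, isoSpec_hom_fromSpec]
  · rw [Category.assoc, Category.assoc, ← IsAffineOpen.SpecMap_appLE_fromSpec f hV hU e,
      ← Spec.map_comp_assoc, hlift', IsAffineOpen.SpecMap_appLE_fromSpec b hV hW hbW,
      ← Category.assoc, isoSpec_hom_fromSpec]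

/-- **Infinitesimal lifting.** If `f` is formally unramified and affine-locally formally smooth
then it lifts (uniquely) against every closed immersion with nilpotent kernel. -/
theorem exists_lift_of_thickening (f : X ⟶ Y) [FormallyUnramified f]
    (hsm : ∀ {U : X.Opens} (_ : IsAffineOpen U) {V : Y.Opens} (_ : IsAffineOpen V)
      (e : U ≤ f ⁻¹ᵁ V), (f.appLE V U e).hom.FormallySmooth)
    (t : T ⟶ T') [IsClosedImmersion t] (hn : IsNilpotent t.ker) (a : T ⟶ X) (b : T' ⟶ Y)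
    (w : t ≫ b = a ≫ f) :
    ∃ l : T' ⟶ X, t ≫ l = a ∧ l ≫ f = b := by
  refine exists_lift_of_local f t hn a b fun p => ?_
  obtain ⟨q, rfl⟩ := surjective_of_isNilpotent_ker t hn p
  have hbq : b (t q) = f (a q) := by
    rw [← Scheme.Hom.comp_apply, ← Scheme.Hom.comp_apply, w]
  obtain ⟨V, hV, hqV, -⟩ := Opens.isBasis_iff_nbhd.mp Y.isBasis_affineOpens
    (show f (a q) ∈ (⊤ : Y.Opens) from trivial)
  obtain ⟨U, hU, hqU, e⟩ := Opens.isBasis_iff_nbhd.mp X.isBasis_affineOpens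
    (show a q ∈ f ⁻¹ᵁ V from hqV)
  -- the image under `t` of `a ⁻¹ᵁ U` is open
  have hopen : IsOpen (t '' (a ⁻¹ᵁ U : Set T)) :=
    (t.isClosedEmbedding.isEmbedding.toHomeomorphOfSurjective
      (surjective_of_isNilpotent_ker t hn)).isOpenMap _ (a ⁻¹ᵁ U).isOpen
  obtain ⟨W, hW, hqW, hWle⟩ := Opens.isBasis_iff_nbhd.mp T'.isBasis_affineOpens
    (show t q ∈ (b ⁻¹ᵁ V) ⊓ (⟨_, hopen⟩ : T'.Opens) from
      ⟨by change b (t q) ∈ V; rw [hbq]; exact hqV, ⟨q, hqU, rfl⟩⟩)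
  refine ⟨W, hqW, hasLift_of_formallySmooth f t hn a b w hU hV e (hsm hU hV e) hW
    (hWle.trans inf_le_left) ?_⟩
  intro x hx
  obtain ⟨x', hx', hxx'⟩ := (hWle.trans inf_le_right) hx
  have : x' = x := t.isClosedEmbedding.injective hxx'
  exact this ▸ hx'

section Prelude

/-- `Spec (A ⧸ I) ⟶ Spec A` is a first order thickening if `I ^ 2 = ⊥`. -/
lemma ker_SpecMap_mk_mul_self (A : Type u) [CommRing A] (I : Ideal A) (hI : I ^ 2 = ⊥) :
    (Spec.map (CommRingCat.ofHom (Ideal.Quotient.mk I))).ker *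
      (Spec.map (CommRingCat.ofHom (Ideal.Quotient.mk I))).ker = ⊥ := by
  set φ := Spec.map (CommRingCat.ofHom (Ideal.Quotient.mk I)) with hφ
  apply Scheme.IdealSheafData.ext_of_isAffine
  change φ.ker.ideal ⟨⊤, _⟩ * φ.ker.ideal ⟨⊤, _⟩ = ⊥
  rw [Scheme.Hom.ker_apply, eq_bot_iff, Ideal.mul_le]
  intro x hx y hy
  rw [Ideal.mem_bot]
  have key : ∀ z, z ∈ RingHom.ker (φ.app ⊤).hom →
      (Scheme.ΓSpecIso (.of A)).hom z ∈ I := by
    intro z hz
    have h := congr($(Scheme.ΓSpecIso_naturality (CommRingCat.ofHom (Ideal.Quotient.mk I))).hom z)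
    simp only [CommRingCat.hom_comp, RingHom.coe_comp, Function.comp_apply,
      CommRingCat.hom_ofHom] at h
    have hz' : (φ.appTop).hom z = 0 := hz
    rw [hz', map_zero] at h
    exact Ideal.Quotient.eq_zero_iff_mem.mp h.symm
  have hxy : (Scheme.ΓSpecIso (.of A)).hom (x * y) = 0 := by
    rw [map_mul]
    have : (Scheme.ΓSpecIso (.of A)).hom x * (Scheme.ΓSpecIso (.of A)).hom y ∈ I ^ 2 := by
      rw [pow_two]; exact Ideal.mul_mem_mul (key x hx) (key y hy)
    rwa [hI, Ideal.mem_bot] at this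
  exact (map_eq_zero_iff _
    (ConcreteCategory.bijective_of_isIso (Scheme.ΓSpecIso (.of A)).hom).1).mp hxy

lemma isNilpotent_ker_SpecMap_mk (A : Type u) [CommRing A] (I : Ideal A) (hI : I ^ 2 = ⊥) :
    IsNilpotent (Spec.map (CommRingCat.ofHom (Ideal.Quotient.mk I))).ker :=
  ⟨2, by rw [pow_two]; exact ker_SpecMap_mk_mul_self A I hI⟩

/-- The Prelude's formally étale morphisms are formally unramified in Mathlib's sense. -/
theorem formallyUnramified_of_isFormallyEtaleHom (f : X ⟶ Y)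
    (hf : MoreMor.IsFormallyEtaleHom f) : FormallyUnramified f := by
  refine FormallyUnramified.of_hom_ext f fun R S φ hφ hker g₁ g₂ h₁ h₂ => ?_
  let e : (R ⧸ RingHom.ker φ.hom) ≃+* S := RingHom.quotientKerEquivOfSurjective hφ
  have hfac : CommRingCat.ofHom (Ideal.Quotient.mk (RingHom.ker φ.hom)) ≫
      CommRingCat.ofHom e.toRingHom = φ := by
    ext x
    rfl
  obtain ⟨l, -, hl⟩ := hf R (RingHom.ker φ.hom) hker
    (Spec.map (CommRingCat.ofHom (Ideal.Quotient.mk (RingHom.ker φ.hom))) ≫ g₁) (g₁ ≫ f)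
    (by rw [Category.assoc])
  have h3 : Spec.map (CommRingCat.ofHom (Ideal.Quotient.mk (RingHom.ker φ.hom))) ≫ g₂ =
      Spec.map (CommRingCat.ofHom (Ideal.Quotient.mk (RingHom.ker φ.hom))) ≫ g₁ := by
    haveI : IsIso (CommRingCat.ofHom e.toRingHom) := e.toCommRingCatIso.isIso_hom
    rw [← cancel_epi (Spec.map (CommRingCat.ofHom e.toRingHom)), ← Spec.map_comp_assoc,
      ← Spec.map_comp_assoc, hfac]
    exact h₁.symm
  exact (hl g₁ ⟨rfl, rfl⟩).trans (hl g₂ ⟨h3, h₂.symm⟩).symm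

/-- The Prelude's formally étale morphisms are affine-locally formally smooth. -/
theorem formallySmooth_appLE_of_isFormallyEtaleHom (f : X ⟶ Y)
    (hf : MoreMor.IsFormallyEtaleHom f)
    {U : X.Opens} (hU : IsAffineOpen U) {V : Y.Opens} (hV : IsAffineOpen V) (e : U ≤ f ⁻¹ᵁ V) :
    (f.appLE V U e).hom.FormallySmooth := by
  letI := (f.appLE V U e).hom.toAlgebra
  change Algebra.FormallySmooth Γ(Y, V) Γ(X, U)
  refine Algebra.FormallySmooth.of_comp_surjective fun B _ _ I hI g => ?_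
  let a : Spec (CommRingCat.of (B ⧸ I)) ⟶ X :=
    Spec.map (CommRingCat.ofHom g.toRingHom) ≫ hU.fromSpec
  let b : Spec (CommRingCat.of B) ⟶ Y :=
    Spec.map (CommRingCat.ofHom (algebraMap Γ(Y, V) B)) ≫ hV.fromSpec
  have w : Spec.map (CommRingCat.ofHom (Ideal.Quotient.mk I)) ≫ b = a ≫ f := by
    simp only [a, b, Category.assoc]
    rw [← IsAffineOpen.SpecMap_appLE_fromSpec f hV hU e, ← Spec.map_comp_assoc,
      ← Spec.map_comp_assoc]
    congr 2
    ext x
    exact (g.commutes x).symm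
  obtain ⟨l, ⟨hl1, hl2⟩, -⟩ := hf B I hI a b w
  haveI : IsClosedImmersion (Spec.map (CommRingCat.ofHom (Ideal.Quotient.mk I))) :=
    IsClosedImmersion.spec_of_surjective _ Ideal.Quotient.mk_surjective
  have hsurj := surjective_of_isNilpotent_ker
    (Spec.map (CommRingCat.ofHom (Ideal.Quotient.mk I))) (isNilpotent_ker_SpecMap_mk B I hI)
  have hrange : Set.range l ⊆ Set.range hU.fromSpec := by
    rintro _ ⟨p, rfl⟩
    obtain ⟨q, rfl⟩ := hsurj p
    rw [← Scheme.Hom.comp_apply, hl1]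
    exact ⟨_, rfl⟩
  have hl' : IsOpenImmersion.lift hU.fromSpec l hrange ≫ hU.fromSpec = l :=
    IsOpenImmersion.lift_fac _ _ _
  set l' := IsOpenImmersion.lift hU.fromSpec l hrange with hl'def
  have hψ : Spec.map (Spec.preimage l') = l' := Spec.map_preimage _
  set ψ := Spec.preimage l' with hψdef
  refine ⟨⟨ψ.hom, fun r => ?_⟩, ?_⟩
  · have h : Spec.map (f.appLE V U e ≫ ψ) =
        Spec.map (CommRingCat.ofHom (algebraMap Γ(Y, V) B)) := by
      rw [← cancel_mono hV.fromSpec, Spec.map_comp, Category.assoc,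
        IsAffineOpen.SpecMap_appLE_fromSpec f hV hU e, hψ, ← Category.assoc, hl', hl2]
    exact congr($(Spec.map_injective h).hom r)
  · ext x
    have h : Spec.map (ψ ≫ CommRingCat.ofHom (Ideal.Quotient.mk I)) =
        Spec.map (CommRingCat.ofHom g.toRingHom) := by
      rw [← cancel_mono hU.fromSpec, Spec.map_comp, Category.assoc, hψ, hl', hl1]
    exact congr($(Spec.map_injective h).hom x)

end Prelude

end Groth.Agent.H8
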