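import Groth.Agent.H8.AssPoints
import Groth.Prelude.Def_CurvBase
import Mathlib.RingTheory.Ideal.AssociatedPrime.Localization

/-!
# Existence of (weakly) associated points where a given section does not vanish
-/

set_option autoImplicit false
set_option linter.style.haveILetI false
universe u
open CategoryTheory CategoryTheory.Limits AlgebraicGeometry TopologicalSpace Opposite

namespace Groth.Agent.H8

variable {X : Scheme.{u}} {U : X.Opens} (hU : IsAffineOpen U) (M : X.Modules) [M.IsQuasicoherent]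

omit [M.IsQuasicoherent] in
lemma pointOfPrime_congr (q q' : Ideal Γ(X, U)) [hq : q.IsPrime] [hq' : q'.IsPrime] (h : q = q') :
    pointOfPrime hU q = pointOfPrime hU q' := by
  subst h
  rfl

include hU in
/-- If `q` is a prime of `Γ(X, U)` containing the annihilator of a section `n`, the germ of `n` at
the point of `q` is nonzero. -/
lemma germ_pointOfPrime_ne_zero (n : Γ(M, U)) (q : Ideal Γ(X, U)) [hq : q.IsPrime]
    (hle : ∀ a : Γ(X, U), a • n = 0 → a ∈ q) :
    M.presheaf.germ U (pointOfPrime hU q) (pointOfPrime_mem hU q) n ≠ 0 := by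
  intro h0
  obtain ⟨b, hyb, hbn⟩ := exists_smul_eq_zero_of_germ_eq_zero M hU (pointOfPrime hU q)
    (pointOfPrime_mem hU q) n h0
  have hb1 : b ∈ (hU.primeIdealOf ⟨pointOfPrime hU q, pointOfPrime_mem hU q⟩).asIdeal.primeCompl :=
    (mem_basicOpen_iff_notMem_primeIdealOf hU _ (pointOfPrime_mem hU q) b).mp hyb
  rw [primeIdealOf_pointOfPrime hU q] at hb1
  exact hb1 (hle b hbn)

include hU in
/-- A nonzero section of a quasi-coherent module over an affine open has nonzero germ at some
weakly associated point. -/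
theorem exists_isWeakAssPoint_germ_ne_zero (n : Γ(M, U)) (hn : n ≠ 0) :
    ∃ (y : X) (hyU : y ∈ U), Curv2.IsWeakAssPoint M y ∧ M.presheaf.germ U y hyU n ≠ 0 := by
  -- the annihilator of `n`
  let I : Ideal Γ(X, U) := LinearMap.ker (LinearMap.toSpanSingleton Γ(X, U) Γ(M, U) n)
  have hImem : ∀ a : Γ(X, U), a ∈ I ↔ a • n = 0 := fun a => by
    simp only [I, LinearMap.mem_ker, LinearMap.toSpanSingleton_apply]
  have hIne : I ≠ ⊤ := by
    intro h
    have : (1 : Γ(X, U)) ∈ I := h ▸ Submodule.mem_top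
    rw [hImem, one_smul] at this
    exact hn this
  obtain ⟨⟨p, hp⟩⟩ := Ideal.nonempty_minimalPrimes hIne
  haveI hpprime : p.IsPrime := hp.1.1
  have hIp : I ≤ p := hp.1.2
  set y := pointOfPrime hU p with hy
  have hyU : y ∈ U := pointOfPrime_mem hU p
  have hpy : (hU.primeIdealOf ⟨y, hyU⟩).asIdeal = p :=
    congrArg PrimeSpectrum.asIdeal (primeIdealOf_pointOfPrime hU p)
  have hgerm : M.presheaf.germ U y hyU n ≠ 0 :=
    germ_pointOfPrime_ne_zero hU M n p (fun a ha => hIp ((hImem a).mpr ha))
  refine ⟨y, hyU, ⟨M.presheaf.germ U y hyU n, ?_⟩, hgerm⟩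
  set m := M.presheaf.germ U y hyU n with hm
  set J := LinearMap.ker (LinearMap.toSpanSingleton (X.presheaf.stalk y) (M.presheaf.stalk y) m)
    with hJ
  have hJmem : ∀ b : X.presheaf.stalk y, b ∈ J ↔ b • m = 0 := fun b => by
    rw [hJ, LinearMap.mem_ker, LinearMap.toSpanSingleton_apply]
  have hJne : J ≠ ⊤ := by
    intro h
    have : (1 : X.presheaf.stalk y) ∈ J := h ▸ Submodule.mem_top
    rw [hJmem, one_smul] at this
    exact hgerm this
  apply le_antisymm
  · exact (Ideal.IsPrime.radical_le_iff (IsLocalRing.maximalIdeal.isMaximal _).isPrime).mpr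
      (IsLocalRing.le_maximalIdeal hJne)
  · rw [Ideal.radical_eq_sInf]
    apply le_sInf
    rintro Q ⟨hJQ, hQ⟩
    haveI := hQ
    haveI hqprime : (Q.comap (X.presheaf.germ U y hyU).hom).IsPrime := Ideal.comap_isPrime _ Q
    have hqp : Q.comap (X.presheaf.germ U y hyU).hom ≤ p := by
      have := comap_le_primeIdealOf hU y hyU Q
      rwa [hpy] at this
    have hIq : I ≤ Q.comap (X.presheaf.germ U y hyU).hom := by
      intro a ha
      rw [Ideal.mem_comap]
      apply hJQ
      rw [hJmem, hm, ← germ_smul, (hImem a).mp ha, map_zero]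
    have hpq : p ≤ Q.comap (X.presheaf.germ U y hyU).hom := hp.2 ⟨hqprime, hIq⟩ hqp
    have hqeq : Q.comap (X.presheaf.germ U y hyU).hom = p := le_antisymm hqp hpq
    have hyy : pointOfPrime hU (Q.comap (X.presheaf.germ U y hyU).hom) = y :=
      pointOfPrime_congr hU _ p hqeq
    rw [eq_maximalIdeal_of_pointOfPrime_eq hU y hyU Q hyy]

include hU in
/-- A nonzero section of a quasi-coherent module over a Noetherian affine open has nonzero germ at
some associated point. -/
theorem exists_isAssPoint_germ_ne_zero [IsNoetherianRing Γ(X, U)] (n : Γ(M, U)) (hn : n ≠ 0) :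
    ∃ (y : X) (hyU : y ∈ U), Curv2.IsAssPoint M y ∧ M.presheaf.germ U y hyU n ≠ 0 := by
  obtain ⟨P, hP, hle⟩ := exists_le_isAssociatedPrime_of_isNoetherianRing Γ(X, U) n hn
  haveI hPprime : P.IsPrime := hP.isPrime
  set y := pointOfPrime hU P with hy
  have hyU : y ∈ U := pointOfPrime_mem hU P
  have hpy : (hU.primeIdealOf ⟨y, hyU⟩).asIdeal = P :=
    congrArg PrimeSpectrum.asIdeal (primeIdealOf_pointOfPrime hU P)
  have hgerm : M.presheaf.germ U y hyU n ≠ 0 :=
    germ_pointOfPrime_ne_zero hU M n P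
      (fun a ha => hle (Submodule.mem_colon_singleton.mpr (by rw [ha]; exact Submodule.zero_mem _)))
  refine ⟨y, hyU, ?_, hgerm⟩
  letI := X.presheaf.algebra_section_stalk ⟨y, hyU⟩
  haveI := hU.isLocalization_stalk ⟨y, hyU⟩
  letI := moduleSectionStalk M y hyU
  haveI := isScalarTower_sectionStalk M y hyU
  haveI := isLocalizedModule_germₗ M hU y hyU
  have hcomap : (IsLocalRing.maximalIdeal (X.presheaf.stalk y)).comap
      (algebraMap Γ(X, U) (X.presheaf.stalk y)) = (hU.primeIdealOf ⟨y, hyU⟩).asIdeal :=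
    IsLocalization.AtPrime.comap_maximalIdeal _ _
  refine Module.associatedPrimes.mem_associatedPrimes_of_comap_mem_associatedPrimes_of_isLocalizedModule
    (hU.primeIdealOf ⟨y, hyU⟩).asIdeal.primeCompl (germₗ M y hyU) _ ?_
  rw [hcomap, hpy]
  exact hP

end Groth.Agent.H8
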