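import Groth.Agent.H8.TildeTensor
import Groth.Agent.H18.TensorGen
import Groth.Agent.H8.IsoCover

/-!
# If `L ⊗ N ≅ O_X` then `L` is invertible
-/

set_option autoImplicit false
set_option backward.isDefEq.respectTransparency false
set_option linter.style.haveILetI false
universe u
open CategoryTheory CategoryTheory.Limits AlgebraicGeometry TensorProduct Opposite MonoidalCategory
  TopologicalSpace
open Groth.Agent.H31 Groth.Agent.H31.Stalk Groth.Agent.H40.StalkTensor

namespace Groth.Agent.H8.InvTensor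

noncomputable section

/-- If `ψ : L ⊗ N ≃ R` and `ψ (s ⊗ t)` is a unit then `s` freely generates `L`. -/
theorem bijective_smul_of_isUnit {R L N : Type*} [CommRing R] [AddCommGroup L] [Module R L]
    [AddCommGroup N] [Module R N] (ψ : L ⊗[R] N ≃ₗ[R] R) (s : L) (t : N)
    (h : IsUnit (ψ (s ⊗ₜ t))) : Function.Bijective (fun r : R => r • s) := by
  haveI : Module.Invertible R L := .left ψ
  haveI : Module.Invertible R N := .right ψ
  let f : R →ₗ[R] L := LinearMap.toSpanSingleton R L s
  let φ : N →ₗ[R] R := ψ.toLinearMap ∘ₗ (TensorProduct.mk R L N s)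
  have hφt : φ t = ψ (s ⊗ₜ t) := rfl
  have hφs : Function.Surjective φ := by
    intro r
    obtain ⟨u, hu⟩ := h
    refine ⟨(r * ↑u⁻¹) • t, ?_⟩
    rw [map_smul, hφt, ← hu, smul_eq_mul, mul_assoc, Units.inv_mul, mul_one]
  have hφb : Function.Bijective φ := Module.Invertible.bijective_of_surjective hφs
  have hcomp : (f.rTensor N : R ⊗[R] N → L ⊗[R] N) =
      ψ.symm ∘ φ ∘ (TensorProduct.lid R N) := by
    funext z
    induction z using TensorProduct.induction_on with
    | zero => simp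
    | tmul r n =>
      show (f r) ⊗ₜ[R] n = ψ.symm (φ (r • n))
      rw [LinearEquiv.eq_symm_apply, map_smul]
      show ψ ((r • s) ⊗ₜ[R] n) = r • ψ (s ⊗ₜ n)
      rw [← TensorProduct.smul_tmul', map_smul]
    | add a b ha hb =>
      rw [map_add, ha, hb]
      simp
  have hb : Function.Bijective (f.rTensor N) := by
    rw [hcomp]
    exact ψ.symm.bijective.comp (hφb.comp (TensorProduct.lid R N).bijective)
  exact (Module.Invertible.rTensor_bijective_iff (M := N)).mp hb

variable {X : Scheme.{u}}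

/-- `τ (germ (a ⊗ b)) = germ a ⊗ germ b`. -/
lemma τ_gm_tm (F G : X.Modules) (y : X) (V : X.Opens) (hy : y ∈ V) (a : Γ(F, V)) (b : Γ(G, V)) :
    (τ (shX X) y F G).hom.hom
      (gm ((toPM (shX X)).obj (CohB1.tensorMod F G)) y V hy
        (Groth.Agent.H18.SecTw.tm F G a b)) =
    (gm ((toPM (shX X)).obj F) y V hy a) ⊗ₜ (gm ((toPM (shX X)).obj G) y V hy b) := by
  let A₀ : PM (shX X) := (toPM (shX X)).obj F ⊗ (toPM (shX X)).obj G
  have h1 : (σ (shX X) y A₀).hom
      (gm A₀ y V hy (Groth.Agent.H40.StalkTensor.tm _ _ V a b)) =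
      gm ((toPM (shX X)).obj (CohB1.tensorMod F G)) y V hy
        (Groth.Agent.H18.SecTw.tm F G a b) :=
    stkP_map_gm y (η A₀) V hy _
  rw [← h1]
  show (thetaIso y _ _).hom.hom ((inv (σ (shX X) y A₀)).hom ((σ (shX X) y A₀).hom _)) = _
  have h2 : ∀ z, (inv (σ (shX X) y A₀)).hom ((σ (shX X) y A₀).hom z) = z := fun z => by
    have := congrArg (fun f => f.hom z) (IsIso.hom_inv_id (σ (shX X) y A₀))
    exact this
  rw [h2]
  exact theta_germ_tm _ _ y V hy _ _

/-- The stalk of the structure module. -/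
abbrev SO (y : X) : ModuleCat.{u} (Rx (shX X).obj y) :=
  (stk (shX X) y).obj (Coh.structureModule X)

/-- A section of the structure sheaf, as a section of the structure module. -/
def toO (V : X.Opens) (r : Γ(X, V)) : Γ(Coh.structureModule X, V) := r

theorem toO_smul (V : X.Opens) (r s : Γ(X, V)) : r • toO V s = toO V (r * s) := rfl

theorem toO_map {V W : X.Opens} (i : W ⟶ V) (r : Γ(X, V)) :
    (Coh.structureModule X).presheaf.map i.op (toO V r) = toO W (X.presheaf.map i.op r) := rfl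

/-- The germ of a section of the structure module. -/
def gO (y : X) (V : X.Opens) (hy : y ∈ V) (r : Γ(X, V)) : SO y :=
  gm ((toPM (shX X)).obj (Coh.structureModule X)) y V hy (toO V r)

/-- `O_{X,y} → (O_X)_y`, `r ↦ r • 1`. -/
def uMap (y : X) : Rx (shX X).obj y →ₗ[Rx (shX X).obj y] SO y :=
  LinearMap.toSpanSingleton _ _ (gO y ⊤ trivial 1)

theorem uMap_germ (y : X) (V : X.Opens) (hy : y ∈ V) (r : Γ(X, V)) :
    uMap y (TopCat.Presheaf.germ (shX X).obj V y hy r) = gO y V hy r := by
  have h1 : gO y ⊤ trivial (1 : Γ(X, ⊤)) = gO y V hy 1 := by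
    unfold gO
    rw [← gm_res _ y (homOfLE (le_top : V ≤ ⊤)) hy]
    congr 1
    exact (toO_map (homOfLE le_top) (1 : Γ(X, ⊤))).trans (congrArg (toO V) (map_one _))
  show TopCat.Presheaf.germ (shX X).obj V y hy r • gO y ⊤ trivial 1 = _
  rw [h1]
  unfold gO
  rw [← gm_smul]
  congr 1
  exact (toO_smul V r 1).trans (congrArg (toO V) (mul_one r))

theorem uMap_bijective (y : X) : Function.Bijective (uMap (X := X) y) := by
  constructor
  · rw [injective_iff_map_eq_zero]
    intro ρ hρ
    obtain ⟨V, hyV, r, rfl⟩ := TopCat.Presheaf.exists_germ_eq (shX X).obj ρ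
    rw [uMap_germ] at hρ
    have h0 : (Coh.structureModule X).presheaf.germ V y hyV (toO V r) =
        (Coh.structureModule X).presheaf.germ V y hyV 0 := by
      rw [map_zero]
      exact hρ
    obtain ⟨W, hyW, iU, _, hW⟩ := TopCat.Presheaf.germ_eq (Coh.structureModule X).presheaf y
      hyV hyV _ _ h0
    rw [map_zero, toO_map] at hW
    have h2 : X.presheaf.map iU.op r = 0 := hW
    have h3 := TopCat.Presheaf.germ_res_apply X.presheaf iU y hyW r
    exact h3.symm.trans ((congrArg _ h2).trans (map_zero _))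
  · intro t
    obtain ⟨V, hyV, m, rfl⟩ := exists_gm_eq ((toPM (shX X)).obj (Coh.structureModule X)) y t
    exact ⟨TopCat.Presheaf.germ (shX X).obj V y hyV (show Γ(X, V) from m), uMap_germ y V hyV _⟩

/-- `O_{X,y} ≃ (O_X)_y`. -/
def uEquiv (y : X) : Rx (shX X).obj y ≃ₗ[Rx (shX X).obj y] SO (X := X) y :=
  LinearEquiv.ofBijective (uMap y) (uMap_bijective y)

section Psi

variable (L N : X.Modules) (e : CohB1.tensorMod L N ≅ Coh.structureModule X)

/-- The induced isomorphism `L_y ⊗ N_y ≃ O_y`. -/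
def ψ (y : X) : ((stk (shX X) y).obj L : Type u) ⊗[Rx (shX X).obj y]
      ((stk (shX X) y).obj N : Type u) ≃ₗ[Rx (shX X).obj y] Rx (shX X).obj y :=
  ((τ (shX X) y L N).symm ≪≫ (stk (shX X) y).mapIso e).toLinearEquiv ≪≫ₗ (uEquiv y).symm

lemma ψ_gm (y : X) (V : X.Opens) (hy : y ∈ V) (s : Γ(L, V)) (t : Γ(N, V)) :
    ψ L N e y ((gm ((toPM (shX X)).obj L) y V hy s) ⊗ₜ (gm ((toPM (shX X)).obj N) y V hy t)) =
      TopCat.Presheaf.germ (shX X).obj V y hy
        (show Γ(X, V) from e.hom.app V (Groth.Agent.H18.SecTw.tm L N s t)) := by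
  rw [← τ_gm_tm L N y V hy s t]
  show (uEquiv y).symm (((stk (shX X) y).map e.hom).hom
    ((τ (shX X) y L N).inv.hom ((τ (shX X) y L N).hom.hom _))) = _
  have h2 : ∀ z, (τ (shX X) y L N).inv.hom ((τ (shX X) y L N).hom.hom z) = z := fun z => by
    have := congrArg (fun f => f.hom z) (τ (shX X) y L N).hom_inv_id
    exact this
  rw [h2, LinearEquiv.symm_apply_eq]
  show ((stkP y).map ((toPM (shX X)).map e.hom)).hom _ = uMap y _
  rw [stkP_map_gm, uMap_germ]
  rfl

end Psi

section Glue

open Groth.Agent.H8 (res_res res_smul ringRes_res section_eq_of_cover)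

/-- A section which freely generates every stalk over `V` freely generates over every open
below `V`. -/
theorem isGen_of_stalkwise (L : X.Modules) (V : X.Opens) (s : Γ(L, V))
    (h : ∀ (y : X) (hy : y ∈ V), Function.Bijective
      (fun a : Rx (shX X).obj y => a • gm ((toPM (shX X)).obj L) y V hy s)) :
    Groth.Agent.H18.TensorGen.IsGen L V s := by
  have hgerm : ∀ (W : X.Opens) (hW : W ≤ V) (y : X) (hyW : y ∈ W) (r : Γ(X, W)),
      gm ((toPM (shX X)).obj L) y W hyW (r • L.presheaf.map (homOfLE hW).op s) =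
        TopCat.Presheaf.germ (shX X).obj W y hyW r •
          gm ((toPM (shX X)).obj L) y V (hW hyW) s := by
    intro W hW y hyW r
    have h1 := gm_smul ((toPM (shX X)).obj L) y W hyW r (L.presheaf.map (homOfLE hW).op s)
    have h2 := gm_res ((toPM (shX X)).obj L) y (homOfLE hW) hyW s
    exact h1.trans (congrArg _ h2)
  have hinj : ∀ (W : X.Opens) (hW : W ≤ V) (r : Γ(X, W)),
      r • L.presheaf.map (homOfLE hW).op s = 0 → r = 0 := by
    intro W hW r hr
    refine TopCat.Presheaf.section_ext X.sheaf W r 0 (fun y hyW => ?_)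
    have h1 := hgerm W hW y hyW r
    rw [hr, map_zero] at h1
    have h2 := (h y (hW hyW)).1 (a₁ := TopCat.Presheaf.germ (shX X).obj W y hyW r) (a₂ := 0)
      (by
        show TopCat.Presheaf.germ (shX X).obj W y hyW r • _ = (0 : Rx (shX X).obj y) • _
        rw [zero_smul, ← h1])
    rw [map_zero]
    exact h2
  intro W hW
  constructor
  · intro r r' hrr
    have h1 : (r - r') • L.presheaf.map (homOfLE hW).op s = 0 := by
      rw [sub_smul]
      exact sub_eq_zero.mpr hrr
    exact sub_eq_zero.mp (hinj W hW _ h1)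
  · intro l
    have hloc : ∀ y : W, ∃ (U : X.Opens) (hUW : U ≤ W) (_ : y.1 ∈ U) (r : Γ(X, U)),
        r • L.presheaf.map (homOfLE (hUW.trans hW)).op s =
          L.presheaf.map (homOfLE hUW).op l := by
      rintro ⟨y, hyW⟩
      obtain ⟨a, ha⟩ := (h y (hW hyW)).2 (gm ((toPM (shX X)).obj L) y W hyW l)
      obtain ⟨U0, hyU0, r0, rfl⟩ := TopCat.Presheaf.exists_germ_eq (shX X).obj a
      have hyU1 : y ∈ U0 ⊓ W := ⟨hyU0, hyW⟩
      let r1 : Γ(X, U0 ⊓ W) := X.presheaf.map (homOfLE (inf_le_left : U0 ⊓ W ≤ U0)).op r0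
      have hU1V : U0 ⊓ W ≤ V := inf_le_right.trans hW
      have hg : gm ((toPM (shX X)).obj L) y (U0 ⊓ W) hyU1
          (r1 • L.presheaf.map (homOfLE hU1V).op s) =
          gm ((toPM (shX X)).obj L) y W hyW l := by
        rw [hgerm (U0 ⊓ W) hU1V y hyU1 r1, ← ha]
        congr 1
        exact TopCat.Presheaf.germ_res_apply X.presheaf (homOfLE inf_le_left) y hyU1 r0
      obtain ⟨U2, hyU2, iU, iV, hU2⟩ := TopCat.Presheaf.germ_eq L.presheaf y hyU1 hyW _ _ hg
      refine ⟨U2, iV.le, hyU2, X.presheaf.map iU.op r1, ?_⟩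
      have h3 := res_smul L iU.le r1 (L.presheaf.map (homOfLE hU1V).op s)
      rw [res_res] at h3
      exact h3.symm.trans hU2
    choose U hUW hyU r hr using hloc
    have hcompat : TopCat.Presheaf.IsCompatible X.presheaf U r := by
      intro y z
      have hle : U y ⊓ U z ≤ V := inf_le_left.trans ((hUW y).trans hW)
      have h1 : (X.presheaf.map (homOfLE (inf_le_left : U y ⊓ U z ≤ U y)).op (r y) -
          X.presheaf.map (homOfLE (inf_le_right : U y ⊓ U z ≤ U z)).op (r z)) •
          L.presheaf.map (homOfLE hle).op s = 0 := by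
        rw [sub_smul, sub_eq_zero]
        have ey := congrArg (L.presheaf.map (homOfLE (inf_le_left : U y ⊓ U z ≤ U y)).op) (hr y)
        have ez := congrArg (L.presheaf.map (homOfLE (inf_le_right : U y ⊓ U z ≤ U z)).op) (hr z)
        rw [res_smul, res_res, res_res] at ey ez
        exact ey.trans ez.symm
      exact sub_eq_zero.mp (hinj _ hle _ h1)
    have hcover : W ≤ iSup U := fun y hyW => Opens.mem_iSup.mpr ⟨⟨y, hyW⟩, hyU ⟨y, hyW⟩⟩
    obtain ⟨ρ, hρ, -⟩ := TopCat.Sheaf.existsUnique_gluing' (F := X.sheaf) U W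
      (fun y => homOfLE (hUW y)) hcover r hcompat
    refine ⟨ρ, ?_⟩
    refine section_eq_of_cover L _ _ (fun y hyW => ⟨U ⟨y, hyW⟩, hUW ⟨y, hyW⟩, hyU ⟨y, hyW⟩, ?_⟩)
    rw [res_smul, res_res]
    have h4 : X.presheaf.map (homOfLE (hUW ⟨y, hyW⟩)).op ρ = r ⟨y, hyW⟩ := hρ ⟨y, hyW⟩
    rw [h4]
    exact hr ⟨y, hyW⟩

end Glue

section Main

open Groth.Agent.H18.SecTw Groth.Agent.H18.TensorGen
open Groth.Agent.H8 (res_res res_smul ringRes_res section_eq_of_cover app_res)

variable (L N : X.Modules) (e : CohB1.tensorMod L N ≅ Coh.structureModule X)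

/-- The function `e(s ⊗ t)`. -/
def cSec (V : X.Opens) (s : Γ(L, V)) (t : Γ(N, V)) : Γ(X, V) :=
  e.hom.app V (tm L N s t)

lemma cSec_res {V W : X.Opens} (h : W ≤ V) (s : Γ(L, V)) (t : Γ(N, V)) :
    cSec L N e W (L.presheaf.map (homOfLE h).op s) (N.presheaf.map (homOfLE h).op t) =
      X.presheaf.map (homOfLE h).op (cSec L N e V s t) := by
  unfold cSec
  rw [← tm_res, app_res]
  rfl

/-- If `e (s ⊗ t)` is invertible on `V` then `s` freely generates `L` on `V`. -/
theorem isGen_of_isUnit (V : X.Opens) (s : Γ(L, V)) (t : Γ(N, V))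
    (hc : ∀ (y : X) (hy : y ∈ V), IsUnit (X.presheaf.germ V y hy (cSec L N e V s t))) :
    IsGen L V s := by
  apply isGen_of_stalkwise
  intro y hy
  refine bijective_smul_of_isUnit (ψ L N e y) _ (gm ((toPM (shX X)).obj N) y V hy t) ?_
  rw [ψ_gm]
  exact hc y hy

theorem exists_isUnit_germ (x : X) :
    ∃ (V : X.Opens) (hxV : x ∈ V) (s : Γ(L, V)) (t : Γ(N, V)),
      IsUnit (X.presheaf.germ V x hxV (cSec L N e V s t)) := by
  let w : Γ(CohB1.tensorMod L N, ⊤) := e.inv.app ⊤ (toO ⊤ 1)
  obtain ⟨V, hV, hxV, z, hz⟩ := toTensor_locSurj L N w x trivial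
  have hew : e.hom.app V ((CohB1.tensorMod L N).presheaf.map (homOfLE hV).op w) = toO V 1 := by
    rw [app_res]
    have h1 : e.hom.app ⊤ w = toO ⊤ 1 := by
      show (e.inv ≫ e.hom).app ⊤ (toO ⊤ 1) = _
      rw [e.inv_hom_id]
      rfl
    rw [h1]
    exact (toO_map (homOfLE hV) (1 : Γ(X, ⊤))).trans (congrArg (toO V) (map_one _))
  by_contra hcon
  push Not at hcon
  have hnon : ∀ z' : ↥((CohB1.tensorPre L N).obj (op V)),
      X.presheaf.germ V x hxV (show Γ(X, V) from
        e.hom.app V (((SecTwist.toTensor L N).app (op V)).hom z')) ∈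
        IsLocalRing.maximalIdeal (X.presheaf.stalk x) := by
    intro z'
    induction z' using TensorProduct.induction_on with
    | zero =>
      rw [map_zero, map_zero]
      exact (map_zero (X.presheaf.germ V x hxV).hom) ▸ Ideal.zero_mem _
    | tmul a b => exact hcon V hxV a b
    | add a b ha hb =>
      rw [map_add, map_add]
      exact (map_add (X.presheaf.germ V x hxV).hom _ _) ▸ Ideal.add_mem _ ha hb
  have h1 := hnon z
  rw [hz, hew] at h1
  have h2 : X.presheaf.germ V x hxV (show Γ(X, V) from toO V 1) = 1 :=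
    map_one (X.presheaf.germ V x hxV).hom
  rw [h2] at h1
  exact (IsLocalRing.maximalIdeal (X.presheaf.stalk x)).ne_top_iff_one.mp
    (IsLocalRing.maximalIdeal.isMaximal _).ne_top h1

include N e in
/-- If `L ⊗ N ≅ O_X` then `L` is invertible. -/
theorem isInvertible_of_tensor_iso : PicF.IsInvertible L := by
  apply isInvertible_of_isGen
  intro x
  obtain ⟨V, hxV, s, t, hu⟩ := exists_isUnit_germ L N e x
  let c := cSec L N e V s t
  have hle : X.basicOpen c ≤ V := X.basicOpen_le c
  have hx' : x ∈ X.basicOpen c := (X.mem_basicOpen c x hxV).mpr hu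
  refine ⟨X.basicOpen c, L.presheaf.map (homOfLE hle).op s, hx', ?_⟩
  refine isGen_of_isUnit L N e _ _ (N.presheaf.map (homOfLE hle).op t) (fun y hy => ?_)
  rw [cSec_res]
  have h3 := TopCat.Presheaf.germ_res_apply X.presheaf (homOfLE hle) y hy c
  rw [h3]
  exact (X.mem_basicOpen c y (hle hy)).mp hy

end Main

end

end Groth.Agent.H8.InvTensor
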