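import Mathlib
set_option autoImplicit false
set_option linter.style.haveILetI false
universe u
open CategoryTheory CategoryTheory.Limits AlgebraicGeometry TopologicalSpace Opposite

namespace Groth.Agent.H8.Dev

theorem isReduced_vanishingIdeal_subscheme {X : Scheme.{u}} (C : TopologicalSpace.Closeds X) :
    IsReduced (Scheme.IdealSheafData.vanishingIdeal C).subscheme := by
  have : ∀ U, IsReduced ((Scheme.IdealSheafData.vanishingIdeal C).subschemeCover.openCover.X U) := by
    intro (U : X.affineOpens)
    show IsReduced (Spec (CommRingCat.of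
      (Γ(X, U.1) ⧸ (Scheme.IdealSheafData.vanishingIdeal C).ideal U)))
    have hrad : ((Scheme.IdealSheafData.vanishingIdeal C).ideal U).IsRadical := by
      rw [Scheme.IdealSheafData.vanishingIdeal_ideal]
      exact PrimeSpectrum.isRadical_vanishingIdeal _
    have : _root_.IsReduced (Γ(X, U.1) ⧸ (Scheme.IdealSheafData.vanishingIdeal C).ideal U) :=
      (Ideal.isRadical_iff_quotient_reduced _).mp hrad
    infer_instance
  exact IsReduced.of_openCover _ (Scheme.IdealSheafData.vanishingIdeal C).subschemeCover.openCover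

theorem IS (X : Scheme.{u}) (T : Set X) (hT : IsClosed T) (hirr : IsIrreducible T) (y : X)
    (hy : closure {y} = T) :
    ∃ (Z : Scheme.{u}) (i : Z ⟶ X) (_ : IsClosedImmersion i) (_ : IsIntegral Z),
      Set.range ⇑i = T ∧ i (genericPoint Z) = y := by
  let C : Closeds X := ⟨T, hT⟩
  let I := Scheme.IdealSheafData.vanishingIdeal C
  have hrange : Set.range ⇑I.subschemeι = T := by
    rw [Scheme.IdealSheafData.range_subschemeι]
    exact Scheme.IdealSheafData.coe_support_vanishingIdeal C
  haveI hred : IsReduced I.subscheme := isReduced_vanishingIdeal_subscheme C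
  have hemb : Topology.IsClosedEmbedding ⇑I.subschemeι := I.subschemeι.isClosedEmbedding
  have hne : Nonempty I.subscheme := by
    obtain ⟨t, ht⟩ := hirr.1
    rw [← hrange] at ht
    obtain ⟨z, -⟩ := ht
    exact ⟨z⟩
  have hpre : IsPreirreducible (Set.univ : Set I.subscheme) := by
    rintro u v hu hv ⟨a, -, hau⟩ ⟨b, -, hbv⟩
    obtain ⟨u', hu', rfl⟩ := hemb.isEmbedding.isInducing.isOpen_iff.mp hu
    obtain ⟨v', hv', rfl⟩ := hemb.isEmbedding.isInducing.isOpen_iff.mp hv
    have h1 : (T ∩ u').Nonempty := ⟨I.subschemeι a, hrange ▸ Set.mem_range_self a, hau⟩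
    have h2 : (T ∩ v').Nonempty := ⟨I.subschemeι b, hrange ▸ Set.mem_range_self b, hbv⟩
    obtain ⟨t, htT, htu, htv⟩ := hirr.2 u' v' hu' hv' h1 h2
    rw [← hrange] at htT
    obtain ⟨z, rfl⟩ := htT
    exact ⟨z, Set.mem_univ _, htu, htv⟩
  haveI hirrS : IrreducibleSpace I.subscheme :=
    { isPreirreducible_univ := hpre
      toNonempty := hne }
  haveI hint : IsIntegral I.subscheme := isIntegral_of_irreducibleSpace_of_isReduced _
  refine ⟨I.subscheme, I.subschemeι, inferInstance, hint, hrange, ?_⟩
  have h1 : IsGenericPoint (I.subschemeι (genericPoint I.subscheme)) T := by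
    have hg : IsGenericPoint (genericPoint I.subscheme) (Set.univ : Set I.subscheme) :=
      genericPoint_spec I.subscheme
    have := hg.image I.subschemeι.continuous
    rw [Set.image_univ, hrange, hT.closure_eq] at this
    exact this
  exact h1.eq hy

end Groth.Agent.H8.Dev
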