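import Groth.Agent.H8.IsoCover
import Mathlib.Topology.Sheaves.SheafCondition.Sites

set_option autoImplicit false
universe u
open CategoryTheory AlgebraicGeometry Opposite TopologicalSpace

namespace Groth.Agent.H8.HomBasis

variable {X : Scheme.{u}} (M F : X.Modules)

/-- Sections of a sheaf of modules are determined by their restrictions to a basis. -/
lemma sect_ext_of_basis {ι : Type*} {B : ι → X.Opens} (hB : Opens.IsBasis (Set.range B))
    (U : X.Opens) (a b : Γ(F, U))
    (h : ∀ i (hi : B i ≤ U), F.presheaf.map (homOfLE hi).op a = F.presheaf.map (homOfLE hi).op b) :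
    a = b := by
  have hcover : U ≤ ⨆ i : {i : ι // B i ≤ U}, B i.1 := by
    intro x hx
    obtain ⟨V, ⟨i, rfl⟩, hxV, hVU⟩ := Opens.isBasis_iff_nbhd.mp hB hx
    exact Opens.mem_iSup.mpr ⟨⟨i, hVU⟩, hxV⟩
  exact TopCat.Sheaf.eq_of_locally_eq' (⟨F.presheaf, F.isSheaf⟩ : TopCat.Sheaf Ab.{u} X)
    (fun i : {i : ι // B i ≤ U} => B i.1) U (fun i => homOfLE i.2) hcover a b
    (fun i => h i.1 i.2)

/-- Two morphisms of modules agreeing on a basis are equal. -/
theorem hom_ext_of_basis {ι : Type*} {B : ι → X.Opens} (hB : Opens.IsBasis (Set.range B))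
    (φ ψ : M ⟶ F) (h : ∀ i (m : Γ(M, B i)), φ.app (B i) m = ψ.app (B i) m) : φ = ψ := by
  refine Scheme.Modules.hom_ext _ _ (fun U => ?_)
  ext m
  refine sect_ext_of_basis F hB U _ _ (fun i hi => ?_)
  rw [← app_res φ hi m, ← app_res ψ hi m, h]

/-- A compatible family of linear maps on a basis glues to a morphism of modules. -/
theorem exists_hom_of_basis {ι : Type*} {B : ι → X.Opens} (hB : Opens.IsBasis (Set.range B))
    (α : ∀ i, Γ(M, B i) →+ Γ(F, B i))
    (hres : ∀ i j (h : B i ≤ B j) (m : Γ(M, B j)),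
      α i (M.presheaf.map (homOfLE h).op m) = F.presheaf.map (homOfLE h).op (α j m))
    (hlin : ∀ i (r : Γ(X, B i)) (m : Γ(M, B i)), α i (r • m) = r • α i m) :
    ∃ φ : M ⟶ F, ∀ i (m : Γ(M, B i)), φ.app (B i) m = α i m := by
  let α' : (inducedFunctor B).op ⋙ M.presheaf ⟶ (inducedFunctor B).op ⋙ F.presheaf :=
    { app := fun i => AddCommGrpCat.ofHom (α i.unop)
      naturality := by
        intro i j g
        ext a
        exact hres j.unop i.unop (leOfHom g.unop.hom) a }
  let D : M.presheaf ⟶ F.presheaf := TopCat.Sheaf.restrictHomEquivHom M.presheaf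
    (⟨F.presheaf, F.isSheaf⟩ : TopCat.Sheaf Ab.{u} X) hB α'
  have hD : ∀ i, D.app (op (B i)) = AddCommGrpCat.ofHom (α i) := fun i =>
    TopCat.Sheaf.extend_hom_app M.presheaf
      (⟨F.presheaf, F.isSheaf⟩ : TopCat.Sheaf Ab.{u} X) hB α' i
  have hnat : ∀ (U V : X.Opens) (h : V ≤ U) (a : Γ(M, U)),
      D.app (op V) (M.presheaf.map (homOfLE h).op a) = F.presheaf.map (homOfLE h).op (D.app (op U) a) :=
    fun U V h a => congr($(D.naturality (homOfLE h).op) a)
  have hDlin : ∀ (U : X.Opens) (r : Γ(X, U)) (m : Γ(M, U)),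
      (D.app (op U) (r • m) : Γ(F, U)) = r • (D.app (op U) m : Γ(F, U)) := by
    intro U r m
    refine sect_ext_of_basis F hB U _ _ (fun i hi => ?_)
    rw [← hnat U (B i) hi, Scheme.Modules.map_smul, Scheme.Modules.map_smul,
      ← hnat U (B i) hi, hD]
    exact hlin i _ _
  refine ⟨⟨PresheafOfModules.homMk D (fun U r m => hDlin U.unop r m)⟩, fun i m => ?_⟩
  show D.app (op (B i)) m = α i m
  rw [hD]
  rfl

end Groth.Agent.H8.HomBasis
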