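import Mathlib
import Groth.Prelude.Def_Coh
import Groth.Prelude.Def_CohB1
import Groth.Prelude.Def_ClSub2
import Groth.Prelude.Def_FlatMod2
import Groth.Agent.H17.StalkSeq
import Groth.Agent.H30.SuppSplit
import Groth.Agent.H8.CohKerCoker
import Groth.Agent.H8.Coh
import Groth.Agent.H42.CmpLib
import Groth.Agent.H22.RelTwistGG
import Groth.Agent.H22.QCohLimits
import Groth.Agent.S9525
import Groth.Agent.S9526
import Groth.Agent.S8127

set_option autoImplicit false
set_option linter.style.haveILetI false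
universe u
open CategoryTheory CategoryTheory.Limits AlgebraicGeometry TopologicalSpace Opposite
open scoped ZeroObject

namespace Groth.Agent.H8.Dev

open AlgebraicGeometry.Scheme.Modules

variable {X : Scheme.{u}}

/-- If `j^* p` is an isomorphism then `p` is bijective on stalks at points of the image of `j`. -/
theorem stalkMap_bijective_of_isIso_restrict {V : Scheme.{u}} (j : V ⟶ X) [IsOpenImmersion j]
    {A B : X.Modules} (p : A ⟶ B) (h : IsIso ((restrictFunctor j).map p)) (v : V) :
    Function.Bijective (Groth.Agent.H8.stalkMap p (j v)) := by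
  haveI := Groth.Agent.H42.CmpLib.preservesFiniteLimits_restrictFunctor j
  haveI := Groth.Agent.H42.CmpLib.preservesFiniteColimits_restrictFunctor j
  rw [Groth.Agent.H8.stalkMap_bijective_iff]
  have key : ∀ K : X.Modules, IsZero ((restrictFunctor j).obj K) →
      Subsingleton ↑(K.presheaf.stalk (j v)) := by
    intro K hK
    have h1 : Subsingleton ↑(((restrictFunctor j).obj K).presheaf.stalk v) :=
      Groth.Agent.H8.subsingleton_stalk_of_isZero _ hK v
    let e := (restrictStalkNatIso j v).app K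
    have h2 : Subsingleton ↑((restrictFunctor j ⋙ toPresheaf V ⋙
        TopCat.Presheaf.stalkFunctor Ab.{u} v).obj K) := h1
    exact (e.symm.addCommGroupIsoToAddEquiv.toEquiv).subsingleton
  constructor
  · apply key
    have e := PreservesKernel.iso (restrictFunctor j) p
    exact (isZero_kernel_of_mono _).of_iso e
  · apply key
    have e := PreservesCokernel.iso (restrictFunctor j) p
    exact (isZero_cokernel_of_epi _).of_iso e

theorem CL2 [IsNoetherian X] {V : Scheme.{u}} (j : V ⟶ X) [IsOpenImmersion j]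
    (G F : X.Modules) (hG : Coh.IsCoh G) (hF : Coh.IsCoh F)
    (φ : (restrictFunctor j).obj G ≅ (restrictFunctor j).obj F) :
    ∃ (Γ' : X.Modules) (p1 : Γ' ⟶ G) (p2 : Γ' ⟶ F), Coh.IsCoh Γ' ∧ Mono (biprod.lift p1 p2) ∧
      IsIso ((restrictFunctor j).map p1) ∧ IsIso ((restrictFunctor j).map p2) := by
  haveI := Groth.Agent.H42.CmpLib.preservesFiniteLimits_restrictFunctor j
  haveI : G.IsQuasicoherent := hG.1
  haveI : F.IsQuasicoherent := hF.1
  haveI hq : ((restrictFunctor j).obj F).IsQuasicoherent := inferInstance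
  haveI hN : ((pushforward j).obj ((restrictFunctor j).obj F)).IsQuasicoherent :=
    Groth.Agent.H8.isQuasicoherent_pushforward j _
  let adj := restrictAdjunction j
  let a : G ⟶ (pushforward j).obj ((restrictFunctor j).obj F) :=
    adj.unit.app G ≫ (pushforward j).map φ.hom
  let b : F ⟶ (pushforward j).obj ((restrictFunctor j).obj F) := adj.unit.app F
  haveI : (pullback a b).IsQuasicoherent :=
    Groth.Agent.H22.QCohLimits.isQuasicoherent_pullback a b
  have hunit : ∀ M : X.Modules, IsIso ((restrictFunctor j).map (adj.unit.app M)) := by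
    intro M
    have h1 := adj.left_triangle_components M
    haveI : IsIso ((restrictFunctor j).map (adj.unit.app M) ≫
        adj.counit.app ((restrictFunctor j).obj M)) := by rw [h1]; infer_instance
    exact IsIso.of_isIso_comp_right ((restrictFunctor j).map (adj.unit.app M))
      (adj.counit.app ((restrictFunctor j).obj M))
  haveI hb : IsIso ((restrictFunctor j).map b) := hunit F
  haveI ha : IsIso ((restrictFunctor j).map a) := by
    haveI := hunit G
    rw [Functor.map_comp]
    infer_instance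
  have hpb : IsPullback ((restrictFunctor j).map (pullback.fst a b))
      ((restrictFunctor j).map (pullback.snd a b)) ((restrictFunctor j).map a)
      ((restrictFunctor j).map b) := (IsPullback.of_hasPullback a b).map (restrictFunctor j)
  refine ⟨pullback a b, pullback.fst a b, pullback.snd a b, ?_, ?_, ?_, ?_⟩
  · exact Groth.Agent.S8127.isCoh_of_jointly_mono hG hF _ _
      (Groth.Agent.S8127.pullback_jointly_injective a b)
  · constructor
    intro Z f g hfg
    apply pullback.hom_ext
    · have := congrArg (fun t => t ≫ biprod.fst) hfg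
      simpa using this
    · have := congrArg (fun t => t ≫ biprod.snd) hfg
      simpa using this
  · exact hpb.isIso_fst_of_isIso
  · exact hpb.isIso_snd_of_isIso

theorem CL [IsNoetherian X] (G F : X.Modules) (hG : Coh.IsCoh G) (hF : Coh.IsCoh F) (y : X)
    (ψ : ↑(G.presheaf.stalk y) ≃ₗ[X.presheaf.stalk y] ↑(F.presheaf.stalk y)) :
    ∃ (Γ' : X.Modules) (p1 : Γ' ⟶ G) (p2 : Γ' ⟶ F), Coh.IsCoh Γ' ∧ Mono (biprod.lift p1 p2) ∧
      Function.Bijective (Groth.Agent.H8.stalkMap p1 y) ∧
      Function.Bijective (Groth.Agent.H8.stalkMap p2 y) := by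
  obtain ⟨U, hx, φ, hφ⟩ := Groth.Agent.S9526.result X F G hF hG y ψ.toLinearMap
  have hF' : Coh.IsCoh ((restrictFunctor U.ι).obj F) :=
    Groth.Agent.H22.RelTwistGG.isCoh_restrict U.ι hF
  have hG' : Coh.IsCoh ((restrictFunctor U.ι).obj G) :=
    Groth.Agent.H22.RelTwistGG.isCoh_restrict U.ι hG
  have hbij : Function.Bijective
      ((TopCat.Presheaf.stalkFunctor _ (⟨y, hx⟩ : U)).map φ.mapPresheaf).hom := by
    have hψ : IsIso (AddCommGrpCat.ofHom ψ.toLinearMap.toAddMonoidHom) := by
      rw [ConcreteCategory.isIso_iff_bijective]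
      exact ψ.bijective
    have h4 : IsIso ((restrictStalkNatIso U.ι (⟨y, hx⟩ : U)).inv.app G ≫
        (TopCat.Presheaf.stalkFunctor _ (⟨y, hx⟩ : U)).map φ.mapPresheaf ≫
          (restrictStalkNatIso U.ι (⟨y, hx⟩ : U)).hom.app F) := by
      rw [hφ]
      exact hψ
    haveI h7 : IsIso ((restrictStalkNatIso U.ι (⟨y, hx⟩ : U)).inv.app G) :=
      (((restrictStalkNatIso U.ι (⟨y, hx⟩ : U))).app G).isIso_inv
    have h5 : IsIso ((TopCat.Presheaf.stalkFunctor _ (⟨y, hx⟩ : U)).map φ.mapPresheaf ≫
          (restrictStalkNatIso U.ι (⟨y, hx⟩ : U)).hom.app F) :=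
      @IsIso.of_isIso_comp_left _ _ _ _ _ _ _ h7 h4
    haveI h6 : IsIso ((restrictStalkNatIso U.ι (⟨y, hx⟩ : U)).hom.app F) :=
      (((restrictStalkNatIso U.ι (⟨y, hx⟩ : U))).app F).isIso_hom
    have h3 : IsIso ((TopCat.Presheaf.stalkFunctor _ (⟨y, hx⟩ : U)).map φ.mapPresheaf) :=
      @IsIso.of_isIso_comp_right _ _ _ _ _ _ _ h6 h5
    exact (ConcreteCategory.isIso_iff_bijective _).mp h3
  obtain ⟨U'', hy'', hiso⟩ :=
    (Groth.Agent.S9525.result (↑U) _ _ hF' hG' φ ⟨y, hx⟩).2.2 hbij
  let j : (↑U'' : Scheme.{u}) ⟶ X := U''.ι ≫ U.ι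
  let φ'' : (restrictFunctor j).obj G ≅ (restrictFunctor j).obj F :=
    (restrictFunctorComp U''.ι U.ι).app G ≪≫ @asIso _ _ _ _ _ hiso ≪≫
      ((restrictFunctorComp U''.ι U.ι).app F).symm
  obtain ⟨Γ', p1, p2, hΓ, hmono, h1, h2⟩ := CL2 j G F hG hF φ''
  refine ⟨Γ', p1, p2, hΓ, hmono, ?_, ?_⟩
  · exact stalkMap_bijective_of_isIso_restrict j p1 h1 ⟨⟨y, hx⟩, hy''⟩
  · exact stalkMap_bijective_of_isIso_restrict j p2 h2 ⟨⟨y, hx⟩, hy''⟩

end Groth.Agent.H8.Dev
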