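import Mathlib
import Groth.Agent.H8.DevCL
import Groth.Agent.H8.SuppClosed
import Groth.Agent.H8.ZeroStalk
import Groth.Agent.H90.CohPC
import Groth.Agent.H31.Dev_B

set_option autoImplicit false
set_option linter.style.haveILetI false
universe u
open CategoryTheory CategoryTheory.Limits AlgebraicGeometry TopologicalSpace Opposite
open scoped ZeroObject

namespace Groth.Agent.H8.Dev

open AlgebraicGeometry.Scheme.Modules Groth.Agent.H17.StalkSeq

variable {X : Scheme.{u}}

/-- powers via binary biproducts -/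
noncomputable def pw (G : X.Modules) : ℕ → X.Modules
  | 0 => (0 : X.Modules)
  | (n+1) => G ⊞ pw G n

/-! ### supports -/

theorem supp_mono {A B : X.Modules} (f : A ⟶ B) [Mono f] : CohB1.support A ⊆ CohB1.support B := by
  intro x hx hB
  apply hx
  have hinj := stalkMap_injective_of_mono f x
  exact hinj.subsingleton

theorem supp_epi {A B : X.Modules} (f : A ⟶ B) [Epi f] : CohB1.support B ⊆ CohB1.support A := by
  intro x hx hA
  apply hx
  have hsurj := stalkMap_surjective_of_epi f x
  exact hsurj.subsingleton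

theorem supp_exact (S : ShortComplex X.Modules) (hS : S.Exact) :
    CohB1.support S.X₂ ⊆ CohB1.support S.X₁ ∪ CohB1.support S.X₃ := by
  intro x hx
  by_contra hcon
  rw [Set.mem_union, not_or] at hcon
  have h1 : Subsingleton ↑(S.X₁.presheaf.stalk x) := not_not.mp hcon.1
  have h3 : Subsingleton ↑(S.X₃.presheaf.stalk x) := not_not.mp hcon.2
  apply hx
  refine ⟨fun a b => ?_⟩
  have hex := stalkMap_exact S hS x
  have key : ∀ t : ↑(S.X₂.presheaf.stalk x), t = 0 := by
    intro t
    obtain ⟨s, hs⟩ := (hex t).mp (Subsingleton.elim _ _)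
    rw [← hs, Subsingleton.elim s 0, map_zero]
  rw [key a, key b]

theorem supp_biprod (A B : X.Modules) :
    CohB1.support (A ⊞ B) ⊆ CohB1.support A ∪ CohB1.support B := by
  let S : ShortComplex X.Modules := ShortComplex.mk (biprod.inl : A ⟶ A ⊞ B) biprod.snd (by simp)
  have hS : S.Exact := (ShortComplex.Splitting.ofHasBinaryBiproduct A B).exact
  exact supp_exact S hS

theorem supp_isZero {A : X.Modules} (h : IsZero A) : CohB1.support A = ∅ := by
  ext x
  simp only [Set.mem_empty_iff_false, iff_false]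
  intro hx
  exact hx (Groth.Agent.H8.subsingleton_stalk_of_isZero A h x)

theorem isClosed_supp {A : X.Modules} (hA : Coh.IsCoh A) : IsClosed (CohB1.support A) :=
  @Groth.Agent.H8.isClosed_support_of_isFiniteType X A hA.2

/-! ### powers -/

theorem isCoh_biprod [IsLocallyNoetherian X] {A B : X.Modules} (hA : Coh.IsCoh A)
    (hB : Coh.IsCoh B) : Coh.IsCoh (A ⊞ B) := by
  haveI : A.IsQuasicoherent := hA.1
  haveI : B.IsQuasicoherent := hB.1
  haveI : (A ⊞ B).IsQuasicoherent := Groth.Agent.H22.QCohLimits.isQuasicoherent_biprod A B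
  refine Groth.Agent.S8127.isCoh_of_jointly_mono hA hB biprod.fst biprod.snd ?_
  intro W x h1 h2
  rw [← Groth.Agent.H22.QCohLimits.biprod_total_app W x, h1, h2, map_zero, map_zero, add_zero]

theorem isCoh_pw [IsLocallyNoetherian X] {G : X.Modules} (hG : Coh.IsCoh G) (n : ℕ) :
    Coh.IsCoh (pw G n) := by
  induction n with
  | zero => exact Groth.Agent.H90.QH.isCoh_of_isZero (isZero_zero _)
  | succ n ih => exact isCoh_biprod hG ih

theorem supp_pw (G : X.Modules) (n : ℕ) : CohB1.support (pw G n) ⊆ CohB1.support G := by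
  induction n with
  | zero =>
    have : CohB1.support (pw G 0) = ∅ := supp_isZero (isZero_zero _)
    rw [this]
    exact Set.empty_subset _
  | succ n ih =>
    exact (supp_biprod G (pw G n)).trans (Set.union_subset le_rfl ih)

theorem killed_biprod (J : X.IdealSheafData) {A B : X.Modules} (hA : ClSub.KilledByIdeal J A)
    (hB : ClSub.KilledByIdeal J B) : ClSub.KilledByIdeal J (A ⊞ B) := by
  intro U a ha (m : Γ(A ⊞ B, U.1))
  change a • m = 0
  have h1 : (biprod.fst : A ⊞ B ⟶ A).app U.1 (a • m) = 0 := by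
    rw [Scheme.Modules.Hom.app_smul]
    exact hA U a ha _
  have h2 : (biprod.snd : A ⊞ B ⟶ B).app U.1 (a • m) = 0 := by
    rw [Scheme.Modules.Hom.app_smul]
    exact hB U a ha _
  have := Groth.Agent.H22.QCohLimits.biprod_total_app U.1 (a • m)
  rw [h1, h2, map_zero, map_zero, add_zero] at this
  exact this.symm

theorem killed_pw (J : X.IdealSheafData) {G : X.Modules} (hG : ClSub.KilledByIdeal J G) (n : ℕ) :
    ClSub.KilledByIdeal J (pw G n) := by
  induction n with
  | zero =>
    intro U a ha (m : Γ(pw G 0, U.1))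
    change a • m = 0
    have hz : IsZero (pw G 0) := isZero_zero _
    have : Subsingleton Γ(pw G 0, U.1) := by
      refine ⟨fun s t => ?_⟩
      have h1 : (𝟙 (pw G 0) : pw G 0 ⟶ pw G 0) = 0 := hz.eq_of_src _ _
      have h2 := congrArg (fun ψ : pw G 0 ⟶ pw G 0 => ψ.app U.1 s) h1
      have h3 := congrArg (fun ψ : pw G 0 ⟶ pw G 0 => ψ.app U.1 t) h1
      simp only [] at h2 h3
      have e1 : s = 0 := h2
      have e2 : t = 0 := h3
      rw [e1, e2]
    exact Subsingleton.elim _ _
  | succ n ih => exact killed_biprod J hG ih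

/-! ### stalks killed by the maximal ideal -/

theorem stalk_killed_biprod {A B : X.Modules} (y : X)
    (hA : ∀ a ∈ IsLocalRing.maximalIdeal (X.presheaf.stalk y), ∀ t : ↑(A.presheaf.stalk y), a • t = 0)
    (hB : ∀ a ∈ IsLocalRing.maximalIdeal (X.presheaf.stalk y), ∀ t : ↑(B.presheaf.stalk y), a • t = 0) :
    ∀ a ∈ IsLocalRing.maximalIdeal (X.presheaf.stalk y),
      ∀ t : ↑((A ⊞ B).presheaf.stalk y), a • t = 0 := by
  intro a ha t
  obtain ⟨U, hyU, z, rfl⟩ := TopCat.Presheaf.exists_germ_eq (A ⊞ B).presheaf t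
  have hz := Groth.Agent.H22.QCohLimits.biprod_total_app U z
  have key : (A ⊞ B).presheaf.germ U y hyU z =
      Groth.Agent.H8.stalkMap (biprod.inl : A ⟶ A ⊞ B) y
        (A.presheaf.germ U y hyU ((biprod.fst : A ⊞ B ⟶ A).app U z)) +
      Groth.Agent.H8.stalkMap (biprod.inr : B ⟶ A ⊞ B) y
        (B.presheaf.germ U y hyU ((biprod.snd : A ⊞ B ⟶ B).app U z)) := by
    rw [Groth.Agent.H8.stalkMap_germ, Groth.Agent.H8.stalkMap_germ, ← map_add, hz]
  rw [key, smul_add, ← stalkMap_smul, ← stalkMap_smul, hA a ha, hB a ha, map_zero, map_zero,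
    add_zero]

theorem stalk_killed_pw {G : X.Modules} (y : X)
    (hG : ∀ a ∈ IsLocalRing.maximalIdeal (X.presheaf.stalk y), ∀ t : ↑(G.presheaf.stalk y), a • t = 0)
    (n : ℕ) : ∀ a ∈ IsLocalRing.maximalIdeal (X.presheaf.stalk y),
      ∀ t : ↑((pw G n).presheaf.stalk y), a • t = 0 := by
  induction n with
  | zero =>
    intro a ha t
    haveI := Groth.Agent.H8.subsingleton_stalk_of_isZero (pw G 0) (isZero_zero _) y
    exact Subsingleton.elim _ _
  | succ n ih => exact stalk_killed_biprod y hG ih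

/-! ### lengths of stalks -/

theorem length_stalk_ses (S : ShortComplex X.Modules) (hS : S.ShortExact) (x : X) :
    Module.length (X.presheaf.stalk x) ↑(S.X₂.presheaf.stalk x) =
      Module.length (X.presheaf.stalk x) ↑(S.X₁.presheaf.stalk x) +
        Module.length (X.presheaf.stalk x) ↑(S.X₃.presheaf.stalk x) := by
  haveI := hS.mono_f
  haveI := hS.epi_g
  exact Module.length_eq_add_of_exact (stalkMapₗ S.f x) (stalkMapₗ S.g x)
    (stalkMap_injective_of_mono S.f x) (stalkMap_surjective_of_epi S.g x)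
    (stalkMap_exact S hS.exact x)

theorem length_pw (G : X.Modules) (n : ℕ) (x : X) :
    Module.length (X.presheaf.stalk x) ↑((pw G n).presheaf.stalk x) =
      n * Module.length (X.presheaf.stalk x) ↑(G.presheaf.stalk x) := by
  induction n with
  | zero =>
    rw [Nat.cast_zero, zero_mul, Module.length_eq_zero_iff]
    exact Groth.Agent.H8.subsingleton_stalk_of_isZero _ (isZero_zero _) x
  | succ n ih =>
    let S : ShortComplex X.Modules :=
      ShortComplex.mk (biprod.inl : G ⟶ G ⊞ pw G n) biprod.snd (by simp)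
    have hS : S.ShortExact := (ShortComplex.Splitting.ofHasBinaryBiproduct G (pw G n)).shortExact
    have h := length_stalk_ses S hS x
    change Module.length (X.presheaf.stalk x) ↑((G ⊞ pw G n).presheaf.stalk x) = _
    rw [h, ih, Nat.cast_succ, add_mul, one_mul, add_comm]

/-! ### the class `K'` -/

section KK

variable [IsLocallyNoetherian X] (K' : ObjectProperty X.Modules) [K'.IsClosedUnderIsomorphisms]
  (h0 : ∀ M : X.Modules, IsZero M → K' M)
  (hex : ∀ S : ShortComplex X.Modules, S.ShortExact → Coh.IsCoh S.X₁ → Coh.IsCoh S.X₂ →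
    Coh.IsCoh S.X₃ →
    (K' S.X₁ → K' S.X₂ → K' S.X₃) ∧ (K' S.X₁ → K' S.X₃ → K' S.X₂) ∧ (K' S.X₂ → K' S.X₃ → K' S.X₁))

include h0 hex in
theorem K_pw {G : X.Modules} (hG : Coh.IsCoh G) (hK : K' G) (n : ℕ) : K' (pw G n) := by
  induction n with
  | zero => exact h0 _ (isZero_zero _)
  | succ n ih =>
    let S : ShortComplex X.Modules :=
      ShortComplex.mk (biprod.inl : G ⟶ G ⊞ pw G n) biprod.snd (by simp)
    have hS : S.ShortExact := (ShortComplex.Splitting.ofHasBinaryBiproduct G (pw G n)).shortExact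
    exact (hex S hS hG (isCoh_biprod hG (isCoh_pw hG n)) (isCoh_pw hG n)).2.1 hK ih

include hex in
theorem two_step {A B : X.Modules} (hA : Coh.IsCoh A) (hB : Coh.IsCoh B) (f : A ⟶ B)
    (hk : K' (kernel f)) (hc : K' (cokernel f)) : K' A ↔ K' B := by
  have cK := Groth.Agent.H8.isCoh_kernel hA hB f
  have cC := Groth.Agent.H8.isCoh_cokernel hA hB f
  have cI := Groth.Agent.H8.isCoh_kernel hB cC (cokernel.π f)
  have cI' := Groth.Agent.H8.isCoh_cokernel cK hA (kernel.ι f)
  let S₁ : ShortComplex X.Modules :=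
    ShortComplex.mk (kernel.ι f) (cokernel.π (kernel.ι f)) (cokernel.condition _)
  have hS₁ : S₁.ShortExact :=
    { exact := S₁.exact_of_g_is_cokernel (cokernelIsCokernel _)
      mono_f := inferInstanceAs (Mono (kernel.ι f))
      epi_g := inferInstanceAs (Epi (cokernel.π (kernel.ι f))) }
  let S₂ : ShortComplex X.Modules :=
    ShortComplex.mk (kernel.ι (cokernel.π f)) (cokernel.π f) (kernel.condition _)
  have hS₂ : S₂.ShortExact :=
    { exact := S₂.exact_of_f_is_kernel (kernelIsKernel _)
      mono_f := inferInstanceAs (Mono (kernel.ι (cokernel.π f)))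
      epi_g := inferInstanceAs (Epi (cokernel.π f)) }
  let e : cokernel (kernel.ι f) ≅ kernel (cokernel.π f) := Abelian.coimageIsoImage f
  have H₁ := hex S₁ hS₁ cK hA cI'
  have H₂ := hex S₂ hS₂ cI hB cC
  constructor
  · intro hKA
    have h1 : K' (cokernel (kernel.ι f)) := H₁.1 hk hKA
    have h2 : K' (kernel (cokernel.π f)) := K'.prop_of_iso e h1
    exact H₂.2.1 h2 hc
  · intro hKB
    have h2 : K' (kernel (cokernel.π f)) := H₂.2.2 hKB hc
    have h1 : K' (cokernel (kernel.ι f)) := K'.prop_of_iso e.symm h2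
    exact H₁.2.1 hk h1

end KK

end Groth.Agent.H8.Dev
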