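import Mathlib
import Groth.Agent.H8.DevPw
import Groth.Agent.H60.Dev_R1
import Groth.Agent.H60.Dev_S1

set_option autoImplicit false
set_option linter.style.haveILetI false
universe u
open CategoryTheory CategoryTheory.Limits AlgebraicGeometry TopologicalSpace Opposite
open scoped ZeroObject

namespace Groth.Agent.H8.Dev

open AlgebraicGeometry.Scheme.Modules Groth.Agent.H17.StalkSeq

variable {X : Scheme.{u}}

theorem R1b (R : Type u) [CommRing R] [IsLocalRing R] (M : Type u) [AddCommGroup M] [Module R M]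
    [Module.Finite R M] (hM : ∀ a ∈ IsLocalRing.maximalIdeal R, ∀ m : M, a • m = 0) :
    Module.length R M ≠ ⊤ := by
  have hM' : Module.IsTorsionBySet R M (IsLocalRing.maximalIdeal R : Set R) :=
    fun x a => hM a.1 a.2 x
  letI : Module (R ⧸ IsLocalRing.maximalIdeal R) M := hM'.module
  haveI : IsScalarTower R (R ⧸ IsLocalRing.maximalIdeal R) M := hM'.isScalarTower
  letI : Field (R ⧸ IsLocalRing.maximalIdeal R) :=
    Ideal.Quotient.field (IsLocalRing.maximalIdeal R)
  haveI : Module.Finite (R ⧸ IsLocalRing.maximalIdeal R) M :=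
    Module.Finite.of_restrictScalars_finite R (R ⧸ IsLocalRing.maximalIdeal R) M
  have hs : Function.Surjective (algebraMap R (R ⧸ IsLocalRing.maximalIdeal R)) :=
    Ideal.Quotient.mk_surjective
  have h1 : Module.length R M = Module.length (R ⧸ IsLocalRing.maximalIdeal R) M :=
    Module.length_eq_of_surjective hs
  rw [h1, Module.length_eq_finrank]
  exact ENat.natCast_ne_top _



/-! ### main -/

theorem main [IsNoetherian X] (K' : ObjectProperty X.Modules) [K'.IsClosedUnderIsomorphisms]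
    (h0 : ∀ M : X.Modules, IsZero M → K' M)
    (hex : ∀ S : ShortComplex X.Modules, S.ShortExact → Coh.IsCoh S.X₁ → Coh.IsCoh S.X₂ →
      Coh.IsCoh S.X₃ →
      (K' S.X₁ → K' S.X₂ → K' S.X₃) ∧ (K' S.X₁ → K' S.X₃ → K' S.X₂) ∧
        (K' S.X₂ → K' S.X₃ → K' S.X₁))
    (X' : Set X)
    (hgen : ∀ (Z : Set X) (_ : IsClosed Z), IsIrreducible Z → Z ⊆ X' → ∀ y : X, closure {y} = Z →
      (∀ N : X.Modules, Coh.IsCoh N → CohB1.support N ⊆ Z →
        Subsingleton ↑(N.presheaf.stalk y) → K' N) →
      ∃ (G : X.Modules) (q : ℕ), Coh.IsCoh G ∧ K' G ∧ CohB1.support G ⊆ Z ∧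
        (∀ a ∈ IsLocalRing.maximalIdeal (X.presheaf.stalk y),
          ∀ t : ↑(G.presheaf.stalk y), a • t = 0) ∧ 1 ≤ q ∧
        Module.length (X.presheaf.stalk y) ↑(G.presheaf.stalk y) = q ∧
        ∀ F : X.Modules, Coh.IsCoh F → K' (pw F q) → K' F)
    (F : X.Modules) (hF : Coh.IsCoh F) (hsupp : CohB1.support F ⊆ X') : K' F := by
  haveI hwf : WellFoundedLT (Closeds X) := ((noetherianSpace_TFAE X).out 0 1).mp (inferInstance : NoetherianSpace X)
  suffices H : ∀ T : Closeds X, (T : Set X) ⊆ X' → ∀ F : X.Modules, Coh.IsCoh F →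
      CohB1.support F ⊆ (T : Set X) → K' F from
    H ⟨CohB1.support F, isClosed_supp hF⟩ hsupp F hF le_rfl
  intro T
  induction T using hwf.induction with
  | _ T IH =>
  intro hTX' F hF hFT
  by_cases hirr : IsIrreducible (T : Set X)
  · -- irreducible case
    set y := hirr.genericPoint with hydef
    have hy : closure {y} = (T : Set X) := hirr.closure_genericPoint T.isClosed
    have hyT : y ∈ (T : Set X) := by
      rw [← hy]; exact subset_closure (Set.mem_singleton y)
    -- small modules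
    have small : ∀ N : X.Modules, Coh.IsCoh N → CohB1.support N ⊆ (T : Set X) →
        Subsingleton ↑(N.presheaf.stalk y) → K' N := by
      intro N hN hNT hNy
      let T' : Closeds X := ⟨CohB1.support N, isClosed_supp hN⟩
      have hlt : T' < T := by
        refine lt_of_le_of_ne hNT ?_
        intro heq
        have : y ∈ (T' : Set X) := by rw [heq]; exact hyT
        exact this hNy
      exact IH T' hlt (hNT.trans hTX') N hN le_rfl
    obtain ⟨G, q, hG, hGK, hGT, hGk, hq1, hGlen, hsum⟩ :=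
      hgen T T.isClosed hirr hTX' y hy small
    refine Groth.Agent.H31.Dev_B.B (T : Set X) T.isClosed K' (fun S hS h1 h2 h3 => (hex S hS h1 h2 h3).2.1) ?_ F hF hFT
    intro M hM hMk hMT
    haveI := Groth.Agent.H8.finite_stalk_of_isCoh _ hM y
    have hfinM : Module.length (X.presheaf.stalk y) ↑(M.presheaf.stalk y) ≠ ⊤ :=
      R1b _ _ (Groth.Agent.H60.Dev.S1 (T : Set X) T.isClosed y hy M hMk)
    obtain ⟨m, hm⟩ := ENat.ne_top_iff_exists.mp hfinM
    haveI := Groth.Agent.H8.finite_stalk_of_isCoh _ (isCoh_pw hG m) y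
    haveI := Groth.Agent.H8.finite_stalk_of_isCoh _ (isCoh_pw hM q) y
    obtain ⟨ψ⟩ := Groth.Agent.H60.Dev.R1 (X.presheaf.stalk y) ↑((pw G m).presheaf.stalk y)
      ↑((pw M q).presheaf.stalk y)
      (stalk_killed_pw y hGk m)
      (Groth.Agent.H60.Dev.S1 (T : Set X) T.isClosed y hy _ (killed_pw _ hMk q))
      (by rw [length_pw, length_pw, hGlen, ← hm, mul_comm])
    obtain ⟨Γ', p1, p2, hΓ, hmono, hb1, hb2⟩ :=
      CL (pw G m) (pw M q) (isCoh_pw hG m) (isCoh_pw hM q) y ψ
    have hGmT : CohB1.support (pw G m) ⊆ (T : Set X) := (supp_pw G m).trans hGT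
    have hMqT : CohB1.support (pw M q) ⊆ (T : Set X) := (supp_pw M q).trans hMT
    have hΓT : CohB1.support Γ' ⊆ (T : Set X) :=
      ((supp_mono (biprod.lift p1 p2)).trans (supp_biprod _ _)).trans
        (Set.union_subset hGmT hMqT)
    have s1 := (Groth.Agent.H8.stalkMap_bijective_iff p1 y).mp hb1
    have s2 := (Groth.Agent.H8.stalkMap_bijective_iff p2 y).mp hb2
    have cGm := isCoh_pw hG m
    have cMq := isCoh_pw hM q
    have k1 : K' (kernel p1) := small _ (Groth.Agent.H8.isCoh_kernel hΓ cGm p1)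
      ((supp_mono (kernel.ι p1)).trans hΓT) s1.1
    have c1 : K' (cokernel p1) := small _ (Groth.Agent.H8.isCoh_cokernel hΓ cGm p1)
      ((supp_epi (cokernel.π p1)).trans hGmT) s1.2
    have k2 : K' (kernel p2) := small _ (Groth.Agent.H8.isCoh_kernel hΓ cMq p2)
      ((supp_mono (kernel.ι p2)).trans hΓT) s2.1
    have c2 : K' (cokernel p2) := small _ (Groth.Agent.H8.isCoh_cokernel hΓ cMq p2)
      ((supp_epi (cokernel.π p2)).trans hMqT) s2.2
    have hKG : K' (pw G m) := K_pw K' h0 hex hG hGK m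
    have hKΓ : K' Γ' := (two_step K' hex hΓ cGm p1 k1 c1).mpr hKG
    have hKM : K' (pw M q) := (two_step K' hex hΓ cMq p2 k2 c2).mp hKΓ
    exact hsum M hM hKM
  · by_cases hne : (T : Set X).Nonempty
    · -- reducible case
      have hpre : ¬ IsPreirreducible (T : Set X) := fun h => hirr ⟨hne, h⟩
      rw [isPreirreducible_iff_isClosed_union_isClosed] at hpre
      push Not at hpre
      obtain ⟨z₁, z₂, hz₁, hz₂, hcov, hn1, hn2⟩ := hpre
      let T1 : Closeds X := T ⊓ ⟨z₁, hz₁⟩
      let T2 : Closeds X := T ⊓ ⟨z₂, hz₂⟩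
      have hlt1 : T1 < T := by
        refine lt_of_le_of_ne inf_le_left ?_
        intro heq
        apply hn1
        intro x hx
        have : x ∈ (T1 : Set X) := by rw [heq]; exact hx
        exact this.2
      have hlt2 : T2 < T := by
        refine lt_of_le_of_ne inf_le_left ?_
        intro heq
        apply hn2
        intro x hx
        have : x ∈ (T2 : Set X) := by rw [heq]; exact hx
        exact this.2
      have hFc := isClosed_supp hF
      have hunion : CohB1.support F = (CohB1.support F ∩ z₁) ∪ (CohB1.support F ∩ z₂) := by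
        rw [← Set.inter_union_distrib_left]
        exact (Set.inter_eq_left.mpr (hFT.trans hcov)).symm
      obtain ⟨S, hS, ⟨e⟩, cS1, cS3, sS1, sS3⟩ := Groth.Agent.H30.SuppSplit.main F hF
        (CohB1.support F ∩ z₁) (CohB1.support F ∩ z₂) (hFc.inter hz₁) (hFc.inter hz₂) hunion
      have hK1 : K' S.X₁ := IH T2 hlt2 (fun x hx => hTX' hx.1) S.X₁ cS1
        (fun x hx => ⟨hFT (sS1 hx).1, (sS1 hx).2⟩)
      have hK3 : K' S.X₃ := IH T1 hlt1 (fun x hx => hTX' hx.1) S.X₃ cS3
        (fun x hx => ⟨hFT (sS3 hx).1, (sS3 hx).2⟩)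
      have cS2 : Coh.IsCoh S.X₂ := Groth.Agent.H90.QH.isCoh_of_iso e.symm hF
      exact K'.prop_of_iso e ((hex S hS cS1 cS2 cS3).2.1 hK1 hK3)
    · -- empty
      rw [Set.not_nonempty_iff_eq_empty] at hne
      apply h0
      rw [Groth.Agent.H8.isZero_iff_support_eq_empty]
      exact Set.subset_empty_iff.mp (hne ▸ hFT)

end Groth.Agent.H8.Dev
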