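import Mathlib
import Groth.Agent.H8.DevMain
import Groth.Agent.H36.DeligneLift

set_option autoImplicit false
set_option linter.style.haveILetI false
universe u
open CategoryTheory CategoryTheory.Limits AlgebraicGeometry TopologicalSpace Opposite
open scoped ZeroObject

namespace Groth.Agent.H8.Dev

open AlgebraicGeometry.Scheme.Modules Groth.Agent.H17.StalkSeq

variable {X : Scheme.{u}}

theorem KC (I : X.IdealSheafData) (N : X.Modules) (n : ℕ) (hN : ClSub.KilledByIdeal (I ^ n) N) (y : X)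
    (hy : y ∉ I.support) : Subsingleton ↑(N.presheaf.stalk y) := by
  -- affine nbhd U of y, f ∈ I(U) with y ∈ D(f)
  obtain ⟨_, ⟨U, hU, rfl⟩, hyU, -⟩ :=
    X.isBasis_affineOpens.exists_subset_of_mem_open (Set.mem_univ y) isOpen_univ
  have h1 := (I.mem_support_iff_of_mem (U := ⟨U, hU⟩) hyU).not.mp hy
  rw [Scheme.mem_zeroLocus_iff] at h1
  push Not at h1
  obtain ⟨f, hfI, hyf⟩ := h1
  refine subsingleton_of_forall_eq 0 (fun t => ?_)
  obtain ⟨V, hyV, s, rfl⟩ := TopCat.Presheaf.exists_germ_eq N.presheaf (x := y) t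
  obtain ⟨_, ⟨W, hW, rfl⟩, hyW, hWle⟩ :=
    X.isBasis_affineOpens.exists_subset_of_mem_open
      (show y ∈ ((V ⊓ X.basicOpen f : Opens X) : Set X) from ⟨hyV, hyf⟩) (V ⊓ X.basicOpen f).2
  have hWV : W ≤ V := fun x hx => (hWle hx).1
  have hWf : W ≤ X.basicOpen f := fun x hx => (hWle hx).2
  have hWU : W ≤ U := hWf.trans (X.basicOpen_le f)
  -- f|_W is a unit in I(W)
  have hunit : IsUnit ((X.presheaf.map (homOfLE hWU).op).hom f) := by
    have e : (X.presheaf.map (homOfLE hWU).op).hom f =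
        (X.presheaf.map (homOfLE hWf).op).hom
          ((X.presheaf.map (homOfLE (X.basicOpen_le f)).op).hom f) := by
      rw [← CommRingCat.comp_apply, ← X.presheaf.map_comp]
      rfl
    rw [e]
    exact (RingedSpace.isUnit_res_basicOpen X.toRingedSpace f).map _
  have hmem : (X.presheaf.map (homOfLE hWU).op).hom f ∈ I.ideal ⟨W, hW⟩ := by
    rw [← I.map_ideal (U := ⟨W, hW⟩) (V := ⟨U, hU⟩) hWU]
    exact Ideal.mem_map_of_mem _ hfI
  have htop : I.ideal ⟨W, hW⟩ = ⊤ := Ideal.eq_top_of_isUnit_mem _ hmem hunit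
  have h1mem : (1 : Γ(X, W)) ∈ (I ^ n).ideal ⟨W, hW⟩ := by
    change (1 : Γ(X, W)) ∈ (I.ideal ⟨W, hW⟩) ^ n
    rw [htop, Ideal.top_pow]
    exact Submodule.mem_top
  have hres : N.presheaf.map (homOfLE hWV).op s = 0 := by
    have := hN ⟨W, hW⟩ 1 h1mem (N.presheaf.map (homOfLE hWV).op s)
    exact (one_smul _ _).symm.trans this
  rw [← TopCat.Presheaf.germ_res_apply N.presheaf (homOfLE hWV) y hyW s, hres, map_zero]


theorem stalkMap_comp {A B C : X.Modules} (f : A ⟶ B) (g : B ⟶ C) (y : X)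
    (t : ↑(A.presheaf.stalk y)) :
    Groth.Agent.H8.stalkMap (f ≫ g) y t =
      Groth.Agent.H8.stalkMap g y (Groth.Agent.H8.stalkMap f y t) := by
  obtain ⟨U, hyU, z, rfl⟩ := TopCat.Presheaf.exists_germ_eq A.presheaf t
  rw [Groth.Agent.H8.stalkMap_germ, Groth.Agent.H8.stalkMap_germ, Groth.Agent.H8.stalkMap_germ]
  rfl

/-- the inclusion `I^n M ⟶ M` is bijective on stalks away from `V(I)`. -/
theorem stalkMap_idealMulι_bijective (I : X.IdealSheafData) (n : ℕ) (M : X.Modules)
    [M.IsQuasicoherent] (y : X) (hy : y ∉ I.support) :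
    Function.Bijective (Groth.Agent.H8.stalkMap (Dual3.idealMulι (I ^ n) M) y) := by
  rw [Groth.Agent.H8.stalkMap_bijective_iff]
  constructor
  · exact Groth.Agent.H8.subsingleton_stalk_of_isZero _ (isZero_kernel_of_mono _) y
  · exact KC I _ n (Groth.Agent.H31.Dev_B.killed_cokernel (I ^ n) M) y hy

/-- Deligne lift at a point. -/
theorem DL [IsNoetherian X] {A B : X.Modules} (hA : Coh.IsCoh A) (hB : Coh.IsCoh B) (p : A ⟶ B)
    (y : X) (hp : Function.Bijective (Groth.Agent.H8.stalkMap p y)) :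
    ∃ (I : X.IdealSheafData) (n : ℕ) (β : (Dual3.idealMul (I ^ n)).obj B ⟶ A),
      y ∉ I.support ∧ β ≫ p = Dual3.idealMulι (I ^ n) B ∧
      Function.Bijective (Groth.Agent.H8.stalkMap β y) := by
  haveI : B.IsQuasicoherent := hB.1
  have cK := Groth.Agent.H8.isCoh_kernel hA hB p
  have cC := Groth.Agent.H8.isCoh_cokernel hA hB p
  have hs := (Groth.Agent.H8.stalkMap_bijective_iff p y).mp hp
  let C : Closeds X := ⟨CohB1.support (kernel p) ∪ CohB1.support (cokernel p),
    (isClosed_supp cK).union (isClosed_supp cC)⟩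
  have hyC : y ∉ (C : Set X) := by
    rintro (h | h)
    · exact h hs.1
    · exact h hs.2
  let U : X.Opens := ⟨(C : Set X)ᶜ, C.isClosed.isOpen_compl⟩
  let I := Scheme.IdealSheafData.vanishingIdeal C
  have hI : (I.support : Set X) = (C : Set X) :=
    Scheme.IdealSheafData.coe_support_vanishingIdeal C
  have hU : (U : Set X) = (I.support : Set X)ᶜ := by rw [hI]; rfl
  have hα : IsIso ((restrictFunctor U.ι).map p) := by
    apply Groth.Agent.H8.isIso_restrict_of_stalks
    · intro z hz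
      by_contra hcon
      exact hz (Or.inl hcon)
    · intro z hz
      by_contra hcon
      exact hz (Or.inr hcon)
  obtain ⟨n, β, hβ⟩ := Groth.Agent.H36.DeligneLift.exists_lift_idealMul_pow X A B hA hB I U hU p hα
  have hyI : y ∉ I.support := by
    intro h
    have : y ∈ (I.support : Set X) := h
    rw [hI] at this
    exact hyC this
  refine ⟨I, n, β, hyI, hβ, ?_⟩
  have hι := stalkMap_idealMulι_bijective I n B y hyI
  have hcomp : ∀ t, Groth.Agent.H8.stalkMap p y (Groth.Agent.H8.stalkMap β y t) =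
      Groth.Agent.H8.stalkMap (Dual3.idealMulι (I ^ n) B) y t := by
    intro t
    rw [← stalkMap_comp, hβ]
  constructor
  · intro s t hst
    apply hι.1
    rw [← hcomp, ← hcomp, hst]
  · intro t
    obtain ⟨s, hs'⟩ := hι.2 (Groth.Agent.H8.stalkMap p y t)
    refine ⟨s, hp.1 ?_⟩
    rw [hcomp, hs']

section KK2

variable [IsLocallyNoetherian X] (K' : ObjectProperty X.Modules) [K'.IsClosedUnderIsomorphisms]
  (h0 : ∀ M : X.Modules, IsZero M → K' M)
  (ha : ∀ S : ShortComplex X.Modules, S.ShortExact → Coh.IsCoh S.X₁ → Coh.IsCoh S.X₂ →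
    Coh.IsCoh S.X₃ → (K' S.X₂ → K' S.X₃ → K' S.X₁) ∧ (K' S.X₁ → K' S.X₃ → K' S.X₂))

include h0 ha in
omit [K'.IsClosedUnderIsomorphisms] in
theorem K_pw₂ {G : X.Modules} (hG : Coh.IsCoh G) (hK : K' G) (n : ℕ) : K' (pw G n) := by
  induction n with
  | zero => exact h0 _ (isZero_zero _)
  | succ n ih =>
    let S : ShortComplex X.Modules :=
      ShortComplex.mk (biprod.inl : G ⟶ G ⊞ pw G n) biprod.snd (by simp)
    have hS : S.ShortExact := (ShortComplex.Splitting.ofHasBinaryBiproduct G (pw G n)).shortExact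
    exact (ha S hS hG (isCoh_biprod hG (isCoh_pw hG n)) (isCoh_pw hG n)).2 hK ih

include ha in
theorem two_step₂ {A B : X.Modules} (hA : Coh.IsCoh A) (hB : Coh.IsCoh B) (f : A ⟶ B)
    (hk : K' (kernel f)) (hc : K' (cokernel f)) (hKB : K' B) : K' A := by
  have cK := Groth.Agent.H8.isCoh_kernel hA hB f
  have cC := Groth.Agent.H8.isCoh_cokernel hA hB f
  have cI := Groth.Agent.H8.isCoh_kernel hB cC (cokernel.π f)
  have cI' := Groth.Agent.H8.isCoh_cokernel cK hA (kernel.ι f)
  let S₁ : ShortComplex X.Modules :=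
    ShortComplex.mk (kernel.ι f) (cokernel.π (kernel.ι f)) (cokernel.condition _)
  have hS₁ : S₁.ShortExact :=
    { exact := S₁.exact_of_g_is_cokernel (cokernelIsCokernel _)
      mono_f := inferInstanceAs (Mono (kernel.ι f))
      epi_g := inferInstanceAs (Epi (cokernel.π (kernel.ι f))) }
  let S₂ : ShortComplex X.Modules :=
    ShortComplex.mk (kernel.ι (cokernel.π f)) (cokernel.π f) (kernel.condition _)
  have hS₂ : S₂.ShortExact :=
    { exact := S₂.exact_of_f_is_kernel (kernelIsKernel _)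
      mono_f := inferInstanceAs (Mono (kernel.ι (cokernel.π f)))
      epi_g := inferInstanceAs (Epi (cokernel.π f)) }
  let e : cokernel (kernel.ι f) ≅ kernel (cokernel.π f) := Abelian.coimageIsoImage f
  have H₁ := ha S₁ hS₁ cK hA cI'
  have H₂ := ha S₂ hS₂ cI hB cC
  have h2 : K' (kernel (cokernel.π f)) := H₂.1 hKB hc
  have h1 : K' (cokernel (kernel.ι f)) := K'.prop_of_iso e.symm h2
  exact H₁.2 hk h1

end KK2

/-- Variant of `main` with only two of the three exactness implications. -/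
theorem main₂ [IsNoetherian X] (K' : ObjectProperty X.Modules) [K'.IsClosedUnderIsomorphisms]
    (h0 : ∀ M : X.Modules, IsZero M → K' M)
    (ha : ∀ S : ShortComplex X.Modules, S.ShortExact → Coh.IsCoh S.X₁ → Coh.IsCoh S.X₂ →
      Coh.IsCoh S.X₃ → (K' S.X₂ → K' S.X₃ → K' S.X₁) ∧ (K' S.X₁ → K' S.X₃ → K' S.X₂))
    (X' : Set X)
    (hgen : ∀ (Z : Set X) (_ : IsClosed Z), IsIrreducible Z → Z ⊆ X' → ∀ y : X, closure {y} = Z →
      (∀ N : X.Modules, Coh.IsCoh N → CohB1.support N ⊆ Z →
        Subsingleton ↑(N.presheaf.stalk y) → K' N) →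
      ∃ (G : X.Modules) (q : ℕ), Coh.IsCoh G ∧ K' G ∧ CohB1.support G ⊆ Z ∧
        (∀ a ∈ IsLocalRing.maximalIdeal (X.presheaf.stalk y),
          ∀ t : ↑(G.presheaf.stalk y), a • t = 0) ∧ 1 ≤ q ∧
        Module.length (X.presheaf.stalk y) ↑(G.presheaf.stalk y) = q ∧
        ∀ F : X.Modules, Coh.IsCoh F → K' (pw F q) → K' F)
    (F : X.Modules) (hF : Coh.IsCoh F) (hsupp : CohB1.support F ⊆ X') : K' F := by
  haveI hwf : WellFoundedLT (Closeds X) :=
    ((noetherianSpace_TFAE X).out 0 1).mp (inferInstance : NoetherianSpace X)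
  suffices H : ∀ T : Closeds X, (T : Set X) ⊆ X' → ∀ F : X.Modules, Coh.IsCoh F →
      CohB1.support F ⊆ (T : Set X) → K' F from
    H ⟨CohB1.support F, isClosed_supp hF⟩ hsupp F hF le_rfl
  intro T
  induction T using hwf.induction with
  | _ T IH =>
  intro hTX' F hF hFT
  by_cases hirr : IsIrreducible (T : Set X)
  · -- irreducible case
    set y := hirr.genericPoint with hydef
    have hy : closure {y} = (T : Set X) := hirr.closure_genericPoint T.isClosed
    have hyT : y ∈ (T : Set X) := by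
      rw [← hy]; exact subset_closure (Set.mem_singleton y)
    have small : ∀ N : X.Modules, Coh.IsCoh N → CohB1.support N ⊆ (T : Set X) →
        Subsingleton ↑(N.presheaf.stalk y) → K' N := by
      intro N hN hNT hNy
      let T' : Closeds X := ⟨CohB1.support N, isClosed_supp hN⟩
      have hlt : T' < T := by
        refine lt_of_le_of_ne hNT ?_
        intro heq
        have : y ∈ (T' : Set X) := by rw [heq]; exact hyT
        exact this hNy
      exact IH T' hlt (hNT.trans hTX') N hN le_rfl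
    obtain ⟨G, q, hG, hGK, hGT, hGk, hq1, hGlen, hsum⟩ :=
      hgen T T.isClosed hirr hTX' y hy small
    refine Groth.Agent.H31.Dev_B.B (T : Set X) T.isClosed K'
      (fun S hS h1 h2 h3 => (ha S hS h1 h2 h3).2) ?_ F hF hFT
    intro M hM hMk hMT
    haveI := Groth.Agent.H8.finite_stalk_of_isCoh _ hM y
    have hfinM : Module.length (X.presheaf.stalk y) ↑(M.presheaf.stalk y) ≠ ⊤ :=
      R1b _ _ (Groth.Agent.H60.Dev.S1 (T : Set X) T.isClosed y hy M hMk)
    obtain ⟨m, hm⟩ := ENat.ne_top_iff_exists.mp hfinM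
    haveI := Groth.Agent.H8.finite_stalk_of_isCoh _ (isCoh_pw hG m) y
    haveI := Groth.Agent.H8.finite_stalk_of_isCoh _ (isCoh_pw hM q) y
    obtain ⟨ψ⟩ := Groth.Agent.H60.Dev.R1 (X.presheaf.stalk y) ↑((pw G m).presheaf.stalk y)
      ↑((pw M q).presheaf.stalk y)
      (stalk_killed_pw y hGk m)
      (Groth.Agent.H60.Dev.S1 (T : Set X) T.isClosed y hy _ (killed_pw _ hMk q))
      (by rw [length_pw, length_pw, hGlen, ← hm, mul_comm])
    obtain ⟨Γ', p1, p2, hΓ, hmono, hb1, hb2⟩ :=
      CL (pw G m) (pw M q) (isCoh_pw hG m) (isCoh_pw hM q) y ψ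
    have cGm := isCoh_pw hG m
    have cMq := isCoh_pw hM q
    haveI : (pw M q).IsQuasicoherent := cMq.1
    have hGmT : CohB1.support (pw G m) ⊆ (T : Set X) := (supp_pw G m).trans hGT
    have hMqT : CohB1.support (pw M q) ⊆ (T : Set X) := (supp_pw M q).trans hMT
    obtain ⟨I, n, β, hyI, hβ, hβb⟩ := DL hΓ cMq p2 y hb2
    have cIM := Groth.Agent.H31.Dev_B.isCoh_idealMul (I ^ n) (pw M q) cMq
    have hIMT : CohB1.support ((Dual3.idealMul (I ^ n)).obj (pw M q)) ⊆ (T : Set X) :=
      (supp_mono (Dual3.idealMulι (I ^ n) (pw M q))).trans hMqT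
    let f := β ≫ p1
    have hfb : Function.Bijective (Groth.Agent.H8.stalkMap f y) := by
      have : ∀ t, Groth.Agent.H8.stalkMap f y t =
          Groth.Agent.H8.stalkMap p1 y (Groth.Agent.H8.stalkMap β y t) := stalkMap_comp β p1 y
      have h2 : (Groth.Agent.H8.stalkMap f y : _ → _) =
          (Groth.Agent.H8.stalkMap p1 y) ∘ (Groth.Agent.H8.stalkMap β y) := funext this
      rw [h2]
      exact hb1.comp hβb
    have sf := (Groth.Agent.H8.stalkMap_bijective_iff f y).mp hfb
    have kf : K' (kernel f) := small _ (Groth.Agent.H8.isCoh_kernel cIM cGm f)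
      ((supp_mono (kernel.ι f)).trans hIMT) sf.1
    have cf : K' (cokernel f) := small _ (Groth.Agent.H8.isCoh_cokernel cIM cGm f)
      ((supp_epi (cokernel.π f)).trans hGmT) sf.2
    have hKG : K' (pw G m) := K_pw₂ K' h0 ha hG hGK m
    have hKIM : K' ((Dual3.idealMul (I ^ n)).obj (pw M q)) :=
      two_step₂ K' ha cIM cGm f kf cf hKG
    have sι := (Groth.Agent.H8.stalkMap_bijective_iff (Dual3.idealMulι (I ^ n) (pw M q)) y).mp
      (stalkMap_idealMulι_bijective I n (pw M q) y hyI)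
    have cQ := Groth.Agent.H8.isCoh_cokernel cIM cMq (Dual3.idealMulι (I ^ n) (pw M q))
    have hKQ : K' (cokernel (Dual3.idealMulι (I ^ n) (pw M q))) := small _ cQ
      ((supp_epi (cokernel.π _)).trans hMqT) sι.2
    have hKM : K' (pw M q) :=
      (ha (Groth.Agent.H31.Dev_B.sc (I ^ n) (pw M q))
        (Groth.Agent.H31.Dev_B.sc_shortExact (I ^ n) (pw M q)) cIM cMq cQ).2 hKIM hKQ
    exact hsum M hM hKM
  · by_cases hne : (T : Set X).Nonempty
    · -- reducible case
      have hpre : ¬ IsPreirreducible (T : Set X) := fun h => hirr ⟨hne, h⟩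
      rw [isPreirreducible_iff_isClosed_union_isClosed] at hpre
      push Not at hpre
      obtain ⟨z₁, z₂, hz₁, hz₂, hcov, hn1, hn2⟩ := hpre
      let T1 : Closeds X := T ⊓ ⟨z₁, hz₁⟩
      let T2 : Closeds X := T ⊓ ⟨z₂, hz₂⟩
      have hlt1 : T1 < T := by
        refine lt_of_le_of_ne inf_le_left ?_
        intro heq
        apply hn1
        intro x hx
        have : x ∈ (T1 : Set X) := by rw [heq]; exact hx
        exact this.2
      have hlt2 : T2 < T := by
        refine lt_of_le_of_ne inf_le_left ?_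
        intro heq
        apply hn2
        intro x hx
        have : x ∈ (T2 : Set X) := by rw [heq]; exact hx
        exact this.2
      have hFc := isClosed_supp hF
      have hunion : CohB1.support F = (CohB1.support F ∩ z₁) ∪ (CohB1.support F ∩ z₂) := by
        rw [← Set.inter_union_distrib_left]
        exact (Set.inter_eq_left.mpr (hFT.trans hcov)).symm
      obtain ⟨S, hS, ⟨e⟩, cS1, cS3, sS1, sS3⟩ := Groth.Agent.H30.SuppSplit.main F hF
        (CohB1.support F ∩ z₁) (CohB1.support F ∩ z₂) (hFc.inter hz₁) (hFc.inter hz₂) hunion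
      have hK1 : K' S.X₁ := IH T2 hlt2 (fun x hx => hTX' hx.1) S.X₁ cS1
        (fun x hx => ⟨hFT (sS1 hx).1, (sS1 hx).2⟩)
      have hK3 : K' S.X₃ := IH T1 hlt1 (fun x hx => hTX' hx.1) S.X₃ cS3
        (fun x hx => ⟨hFT (sS3 hx).1, (sS3 hx).2⟩)
      have cS2 : Coh.IsCoh S.X₂ := Groth.Agent.H90.QH.isCoh_of_iso e.symm hF
      exact K'.prop_of_iso e ((ha S hS cS1 cS2 cS3).2 hK1 hK3)
    · -- empty
      rw [Set.not_nonempty_iff_eq_empty] at hne
      apply h0
      rw [Groth.Agent.H8.isZero_iff_support_eq_empty]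
      exact Set.subset_empty_iff.mp (hne ▸ hFT)

end Groth.Agent.H8.Dev
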