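import Groth.Agent.H31.StalkPullback

/-!
The pullback functor along a flat surjective morphism is faithful (on all modules).
Uses helper31's stalk functors and `stkPullbackIso`.
-/

set_option autoImplicit false
set_option backward.isDefEq.respectTransparency false
universe u
open CategoryTheory CategoryTheory.Limits AlgebraicGeometry TensorProduct

namespace Groth.Agent.H8

open Groth.Agent.H31.Stalk

/-- Stalks are jointly faithful on modules over a scheme. -/
theorem eq_zero_of_stk_map_eq_zero {Y : Scheme.{u}} {F G : Y.Modules} (χ : F ⟶ G)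
    (hχ : ∀ y : Y, (stk (shX Y) y).map χ = 0) : χ = 0 := by
  have hI : IsZero (Abelian.image χ) := by
    apply isZero_of_stk (O := shX Y)
    intro y
    have h1 : (stk (shX Y) y).map (Abelian.factorThruImage χ) ≫
        (stk (shX Y) y).map (Abelian.image.ι χ) = 0 := by
      rw [← Functor.map_comp, Abelian.image.fac, hχ y]
    have h2 : (stk (shX Y) y).map (Abelian.image.ι χ) = 0 := by
      rw [← cancel_epi ((stk (shX Y) y).map (Abelian.factorThruImage χ)), h1, comp_zero]
    exact IsZero.of_mono_eq_zero _ h2
  rw [← Abelian.image.fac χ, hI.eq_of_tgt (Abelian.factorThruImage χ) 0, zero_comp]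

/-- If `f` is flat at `x` and `f^* χ = 0` then `χ` vanishes on the stalk at `f x`. -/
theorem stk_map_eq_zero_of_pullback_map_eq_zero {X Y : Scheme.{u}} (f : X ⟶ Y) (x : X)
    (hfl : (f.stalkMap x).hom.Flat) {F G : Y.Modules} (χ : F ⟶ G)
    (h0 : (Scheme.Modules.pullback f).map χ = 0) : (stk (shX Y) (f x)).map χ = 0 := by
  have hnat := (stkPullbackIso f x).hom.naturality χ
  have h1 : (Scheme.Modules.pullback f ⋙ stk (shX X) x).map χ = 0 := by
    rw [Functor.comp_map, h0]
    exact Functor.map_zero (stk (shX X) x) _ _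
  rw [h1, zero_comp] at hnat
  have h2 : (ModuleCat.extendScalars.{u, u, u} (φx f x)).map ((stk (shX Y) (f x)).map χ) = 0 := by
    rw [← cancel_epi ((stkPullbackIso f x).hom.app F), comp_zero]
    exact hnat.symm
  letI := (f.stalkMap x).hom.toAlgebra
  haveI : IsLocalHom (algebraMap (Y.presheaf.stalk (f x)) (X.presheaf.stalk x)) :=
    (inferInstance : IsLocalHom (f.stalkMap x).hom)
  haveI : Module.Flat (Y.presheaf.stalk (f x)) (X.presheaf.stalk x) := hfl
  haveI : Module.FaithfullyFlat (Y.presheaf.stalk (f x)) (X.presheaf.stalk x) :=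
    Module.FaithfullyFlat.of_flat_of_isLocalHom
  ext m
  have h3 := congrArg (fun g => g.hom ((1 : X.presheaf.stalk x) ⊗ₜ m)) h2
  simp only [ModuleCat.ExtendScalars.map_tmul] at h3
  have h4 : (1 : X.presheaf.stalk x) ⊗ₜ[Y.presheaf.stalk (f x)]
      (((stk (shX Y) (f x)).map χ).hom m) = 0 := h3
  exact (Module.FaithfullyFlat.one_tmul_eq_zero_iff (Y.presheaf.stalk (f x))
    ((stk (shX Y) (f x)).obj G) (A := X.presheaf.stalk x) _).mp h4

/-- The pullback functor along a flat surjective morphism is faithful. -/
theorem faithful_pullback {X Y : Scheme.{u}} (f : X ⟶ Y) [Flat f] [Surjective f] :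
    (Scheme.Modules.pullback f).Faithful := by
  haveI : (Scheme.Modules.pullback f).IsLeftAdjoint :=
    (Scheme.Modules.pullbackPushforwardAdjunction f).isLeftAdjoint
  haveI : (Scheme.Modules.pullback f).Additive := Functor.additive_of_preserves_binary_products _
  refine ⟨fun {F G} φ ψ h => ?_⟩
  rw [← sub_eq_zero]
  have h0 : (Scheme.Modules.pullback f).map (φ - ψ) = 0 := by
    rw [Functor.map_sub, h, sub_self]
  generalize φ - ψ = χ at h0
  apply eq_zero_of_stk_map_eq_zero
  intro y
  obtain ⟨x, rfl⟩ := f.surjective y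
  exact stk_map_eq_zero_of_pullback_map_eq_zero f x (Flat.stalkMap f x) χ h0

end Groth.Agent.H8
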