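import Mathlib

/-!
Flatness and tensor products along ring maps:
* `flat_tensor_of_flat`: `A → B → C`, `C` flat over `B`, `M` a `B`-module flat over `A`; then
  `C ⊗[B] M` is flat over `A`.
* `flat_of_flat_tensor_of_faithfullyFlat`: the converse when `C` is faithfully flat over `B`.
* `flat_of_isPushout_of_isLocalization`: the local form of "flatness is stable under base change".
-/

set_option autoImplicit false
universe u
open TensorProduct

namespace Groth.Agent.H8

section L1

variable {A B C : Type u} [CommRing A] [CommRing B] [CommRing C] [Algebra A B] [Algebra B C]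
  [Algebra A C] [IsScalarTower A B C]
  {M : Type u} [AddCommGroup M] [Module A M] [Module B M] [IsScalarTower A B M]

theorem assoc_lTensor {N N' : Type u} [AddCommGroup N] [AddCommGroup N'] [Module A N]
    [Module A N'] (f : N →ₗ[A] N') (t : (C ⊗[B] M) ⊗[A] N) :
    AlgebraTensorModule.assoc A B B C M N' (f.lTensor (C ⊗[B] M) t) =
      (AlgebraTensorModule.lTensor B M f).lTensor C (AlgebraTensorModule.assoc A B B C M N t) := by
  induction t with
  | zero => simp
  | add x y hx hy => simp only [map_add, hx, hy]
  | tmul x n =>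
    induction x with
    | zero => simp
    | add x y hx hy => simp only [TensorProduct.add_tmul, map_add, hx, hy]
    | tmul c m => rfl

variable (A B C M) in
/-- `A → B → C` with `C` flat over `B`; if the `B`-module `M` is flat over `A` then so is
`C ⊗[B] M`. -/
theorem flat_tensor_of_flat [Module.Flat B C] [Module.Flat A M] : Module.Flat A (C ⊗[B] M) := by
  rw [Module.Flat.iff_lTensor_preserves_injective_linearMap]
  intro N N' _ _ _ _ f hf
  have h1 : Function.Injective (AlgebraTensorModule.lTensor B M f) :=
    Module.Flat.lTensor_preserves_injective_linearMap f hf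
  have h2 := Module.Flat.lTensor_preserves_injective_linearMap (M := C) _ h1
  intro t₁ t₂ h
  apply (AlgebraTensorModule.assoc A B B C M N).injective
  apply h2
  rw [← assoc_lTensor, ← assoc_lTensor, h]

variable (A B C M) in
/-- `A → B → C` with `C` faithfully flat over `B`; if `C ⊗[B] M` is flat over `A` then so is the
`B`-module `M`. -/
theorem flat_of_flat_tensor_of_faithfullyFlat [Module.FaithfullyFlat B C]
    [Module.Flat A (C ⊗[B] M)] : Module.Flat A M := by
  rw [Module.Flat.iff_lTensor_preserves_injective_linearMap]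
  intro N N' _ _ _ _ f hf
  have h0 := Module.Flat.lTensor_preserves_injective_linearMap (M := C ⊗[B] M) f hf
  have h2 : Function.Injective ((AlgebraTensorModule.lTensor B M f).lTensor C) := by
    intro t₁ t₂ h
    obtain ⟨s₁, rfl⟩ := (AlgebraTensorModule.assoc A B B C M N).surjective t₁
    obtain ⟨s₂, rfl⟩ := (AlgebraTensorModule.assoc A B B C M N).surjective t₂
    rw [← assoc_lTensor, ← assoc_lTensor] at h
    rw [h0 ((AlgebraTensorModule.assoc A B B C M N').injective h)]
  exact (Module.FaithfullyFlat.lTensor_injective_iff_injective B C _).mp h2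

end L1

/-- Ring hom version of flat descent: if `ψ ∘ φ` is flat and `ψ` is a flat local homomorphism of
local rings, then `φ` is flat. -/
theorem flat_of_comp_of_isLocalHom {A B C : Type u} [CommRing A] [CommRing B]
    [CommRing C] [IsLocalRing B] [IsLocalRing C] (φ : A →+* B) (ψ : B →+* C) [IsLocalHom ψ]
    (h : (ψ.comp φ).Flat) (hψ : ψ.Flat) : φ.Flat := by
  letI := φ.toAlgebra
  letI := ψ.toAlgebra
  letI := (ψ.comp φ).toAlgebra
  haveI : IsScalarTower A B C := IsScalarTower.of_algebraMap_eq' rfl
  haveI : IsLocalHom (algebraMap B C) := ‹IsLocalHom ψ›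
  haveI : Module.Flat B C := hψ
  haveI : Module.FaithfullyFlat B C := Module.FaithfullyFlat.of_flat_of_isLocalHom
  haveI : Module.Flat A C := h
  haveI : Module.Flat A (C ⊗[B] B) :=
    Module.Flat.of_linearEquiv ((AlgebraTensorModule.rid B C C).restrictScalars A)
  exact flat_of_flat_tensor_of_faithfullyFlat A B C B

section Pushout

/-- Local form of "flatness is stable under base change": `D' = D ⊗[R] R'`, `B` a localization
of `D`, `B'` a flat `D'`-algebra with a compatible map `B → B'`. If the `B`-module `M` is flat over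
`R` then `B' ⊗[B] M` (or any `B'`-module `N` isomorphic to it) is flat over `R'`. -/
theorem flat_of_isPushout_of_isLocalization
    {R D R' D' B B' : Type u} [CommRing R] [CommRing D] [CommRing R'] [CommRing D'] [CommRing B]
    [CommRing B']
    [Algebra R D] [Algebra R R'] [Algebra D D'] [Algebra R' D'] [Algebra R D']
    [IsScalarTower R D D'] [IsScalarTower R R' D'] [Algebra.IsPushout R D R' D']
    [Algebra D B] (SD : Submonoid D) [IsLocalization SD B]
    [Algebra D' B'] [Module.Flat D' B'] [Algebra B B'] [Algebra D B'] [IsScalarTower D B B']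
    [IsScalarTower D D' B'] [Algebra R' B'] [IsScalarTower R' D' B']
    (M : Type u) [AddCommGroup M] [Module B M] [Module D M] [IsScalarTower D B M] [Module R M]
    [IsScalarTower R D M] [Module.Flat R M]
    (N : Type u) [AddCommGroup N] [Module B' N] [Module R' N] [IsScalarTower R' B' N]
    (e : N ≃ₗ[B'] B' ⊗[B] M) : Module.Flat R' N := by
  haveI : Algebra.IsPushout R R' D D' := Algebra.IsPushout.symm inferInstance
  let e1 : D' ⊗[D] M ≃ₗ[R'] R' ⊗[R] M := Algebra.IsPushout.cancelBaseChange R R' D D' M
  haveI h3 : Module.Flat R' (D' ⊗[D] M) := Module.Flat.of_linearEquiv e1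
  haveI h4 : Module.Flat R' (B' ⊗[D'] (D' ⊗[D] M)) := flat_tensor_of_flat R' D' B' (D' ⊗[D] M)
  let e2 : B' ⊗[D'] (D' ⊗[D] M) ≃ₗ[B'] B' ⊗[D] M :=
    AlgebraTensorModule.cancelBaseChange D D' B' B' M
  haveI := IsLocalization.tensorProduct_compatibleSMul SD B B' M
  let e3 : B' ⊗[B] M ≃ₗ[B'] B' ⊗[D] M := TensorProduct.equivOfCompatibleSMul D B B' B' M
  let E : N ≃ₗ[B'] B' ⊗[D'] (D' ⊗[D] M) := e ≪≫ₗ e3 ≪≫ₗ e2.symm
  exact Module.Flat.of_linearEquiv (E.restrictScalars R')

end Pushout

end Groth.Agent.H8
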