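import Groth.Agent.H8.FlatAffine
import Groth.Agent.H8.SectionsExact
import Groth.Agent.H22.QCohH1
import Mathlib

/-!
Flatness over the base and short exact sequences.
-/

set_option autoImplicit false
set_option linter.style.haveILetI false
universe u

open CategoryTheory CategoryTheory.Limits AlgebraicGeometry TopologicalSpace Opposite TensorProduct

namespace Groth.Agent.H8

section Algebra

open Function

variable {R : Type u} [CommRing R] {N' N N'' : Type u} [AddCommGroup N'] [AddCommGroup N]
  [AddCommGroup N''] [Module R N'] [Module R N] [Module R N'']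

/-- In a short exact sequence `0 → N' → N → N'' → 0` with `N''` flat, `N` is flat iff `N'` is. -/
theorem flat_iff_of_exact_of_flat (g : N' →ₗ[R] N) (p : N →ₗ[R] N'') (hg : Injective g)
    (hp : Surjective p) (H : Function.Exact g p) [Module.Flat R N''] :
    Module.Flat R N ↔ Module.Flat R N' := by
  have h1 : ∀ (A : Type u) [AddCommGroup A] [Module R A], Injective (g.lTensor A) :=
    fun A _ _ => LinearMap.lTensor_injective_of_exact_of_flat p hp g hg H A
  constructor
  · intro hN
    rw [Module.Flat.iff_rTensor_preserves_injective_linearMap]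
    intro A₁ A₂ _ _ _ _ i hi
    have h2 : Injective (i.rTensor N) := Module.Flat.rTensor_preserves_injective_linearMap i hi
    have hcomm : (g.lTensor A₂).comp (i.rTensor N') = (i.rTensor N).comp (g.lTensor A₁) := by
      rw [LinearMap.lTensor_comp_rTensor, LinearMap.rTensor_comp_lTensor]
    have h3 : Injective ((g.lTensor A₂).comp (i.rTensor N')) := by
      rw [hcomm]
      exact h2.comp (h1 A₁)
    exact Injective.of_comp h3
  · intro hN'
    rw [Module.Flat.iff_rTensor_preserves_injective_linearMap]
    intro A₁ A₂ _ _ _ _ i hi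
    rw [injective_iff_map_eq_zero]
    intro t ht
    have e1 : (p.lTensor A₂).comp (i.rTensor N) = (i.rTensor N'').comp (p.lTensor A₁) := by
      rw [LinearMap.lTensor_comp_rTensor, LinearMap.rTensor_comp_lTensor]
    have h4 : (i.rTensor N'') (p.lTensor A₁ t) = 0 := by
      have := congrArg (fun φ => φ t) e1
      simp only [LinearMap.comp_apply] at this
      rw [← this, ht, map_zero]
    have h5 : p.lTensor A₁ t = 0 :=
      (injective_iff_map_eq_zero _).mp
        (Module.Flat.rTensor_preserves_injective_linearMap i hi) _ h4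
    obtain ⟨s, rfl⟩ := (lTensor_exact A₁ H hp t).mp h5
    have e2 : (g.lTensor A₂).comp (i.rTensor N') = (i.rTensor N).comp (g.lTensor A₁) := by
      rw [LinearMap.lTensor_comp_rTensor, LinearMap.rTensor_comp_lTensor]
    have h6 : g.lTensor A₂ (i.rTensor N' s) = 0 := by
      have := congrArg (fun φ => φ s) e2
      simp only [LinearMap.comp_apply] at this
      rw [this, ht]
    have h7 : i.rTensor N' s = 0 := (injective_iff_map_eq_zero _).mp (h1 A₂) _ h6
    have h8 : s = 0 :=
      (injective_iff_map_eq_zero _).mp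
        (Module.Flat.rTensor_preserves_injective_linearMap i hi) _ h7
    rw [h8, map_zero]

end Algebra

section Scheme

variable {X S : Scheme.{u}} (f : X ⟶ S)

/-- For a short exact sequence of quasi-coherent modules with flat cokernel, the middle term is
flat over the base if and only if the kernel is. -/
theorem isFlatOver_iff_of_shortExact (E : ShortComplex X.Modules) (hE : E.ShortExact)
    [E.X₁.IsQuasicoherent] [E.X₂.IsQuasicoherent] [E.X₃.IsQuasicoherent]
    (h₃ : FlatMod.IsFlatOver f E.X₃) :
    FlatMod.IsFlatOver f E.X₂ ↔ FlatMod.IsFlatOver f E.X₁ := by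
  haveI := hE.mono_f
  have key : ∀ (U : X.Opens) (V : S.Opens) (hU : IsAffineOpen U) (hV : IsAffineOpen V)
      (hUV : U ≤ f ⁻¹ᵁ V),
      (@Module.Flat Γ(S, V) Γ(E.X₂, U) _ _
        (Module.compHom Γ(E.X₂, U) (f.appLE V U hUV).hom) ↔
      @Module.Flat Γ(S, V) Γ(E.X₁, U) _ _
        (Module.compHom Γ(E.X₁, U) (f.appLE V U hUV).hom)) := by
    intro U V hU hV hUV
    letI a1 : Algebra Γ(S, V) Γ(X, U) := (f.appLE V U hUV).hom.toAlgebra
    letI m1 : Module Γ(S, V) Γ(E.X₁, U) := Module.compHom _ (f.appLE V U hUV).hom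
    letI m2 : Module Γ(S, V) Γ(E.X₂, U) := Module.compHom _ (f.appLE V U hUV).hom
    letI m3 : Module Γ(S, V) Γ(E.X₃, U) := Module.compHom _ (f.appLE V U hUV).hom
    haveI t1 : IsScalarTower Γ(S, V) Γ(X, U) Γ(E.X₁, U) :=
      IsScalarTower.of_algebraMap_smul fun r m => rfl
    haveI t2 : IsScalarTower Γ(S, V) Γ(X, U) Γ(E.X₂, U) :=
      IsScalarTower.of_algebraMap_smul fun r m => rfl
    haveI t3 : IsScalarTower Γ(S, V) Γ(X, U) Γ(E.X₃, U) :=
      IsScalarTower.of_algebraMap_smul fun r m => rfl
    haveI : Module.Flat Γ(S, V) Γ(E.X₃, U) :=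
      flat_sections_of_isFlatOverAt f E.X₃ hU hV hUV (fun x _ => h₃ x)
    exact flat_iff_of_exact_of_flat ((appₗ E.f U).restrictScalars Γ(S, V))
      ((appₗ E.g U).restrictScalars Γ(S, V)) (appₗ_injective_of_mono E.f U)
      (Groth.Agent.H22.QCohH1.app_surjective E hE hU) (appₗ_exact E hE.exact U)
  constructor
  · intro H x
    obtain ⟨V, hV, hsV, -⟩ := exists_isAffineOpen_mem_and_subset (x := f x)
      (U := (⊤ : S.Opens)) trivial
    obtain ⟨U, hU, hxU, hUV⟩ := exists_isAffineOpen_mem_and_subset (x := x)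
      (U := f ⁻¹ᵁ V) hsV
    exact isFlatOverAt_of_flat_sections f E.X₁ hU hV hUV x hxU
      ((key U V hU hV hUV).mp (flat_sections_of_isFlatOverAt f E.X₂ hU hV hUV (fun x _ => H x)))
  · intro H x
    obtain ⟨V, hV, hsV, -⟩ := exists_isAffineOpen_mem_and_subset (x := f x)
      (U := (⊤ : S.Opens)) trivial
    obtain ⟨U, hU, hxU, hUV⟩ := exists_isAffineOpen_mem_and_subset (x := x)
      (U := f ⁻¹ᵁ V) hsV
    exact isFlatOverAt_of_flat_sections f E.X₂ hU hV hUV x hxU
      ((key U V hU hV hUV).mpr (flat_sections_of_isFlatOverAt f E.X₁ hU hV hUV (fun x _ => H x)))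

end Scheme

end Groth.Agent.H8
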