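import Mathlib
import Groth.Agent.H8.DevMain2
import Groth.Agent.H8.DevIS
import Groth.Agent.H89.Dev_ID
import Groth.Agent.H28.ClosedStalk
import Groth.Agent.H8.QCohPush
import Groth.Agent.H8.FinType
import Groth.Agent.H8.Coh
import Groth.Agent.H9.Dev_TF

set_option autoImplicit false
set_option linter.style.haveILetI false
universe u
open CategoryTheory CategoryTheory.Limits AlgebraicGeometry TopologicalSpace Opposite
open scoped ZeroObject

namespace Groth.Agent.H8.Dev

open AlgebraicGeometry.Scheme.Modules Groth.Agent.H17.StalkSeq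

variable {X : Scheme.{u}}

/-- The Noetherian induction skeleton (extension-closed classes). -/
theorem skeleton [IsNoetherian X] (K' : ObjectProperty X.Modules) [K'.IsClosedUnderIsomorphisms]
    (h0 : ∀ M : X.Modules, IsZero M → K' M)
    (hext : ∀ S : ShortComplex X.Modules, S.ShortExact → Coh.IsCoh S.X₁ → Coh.IsCoh S.X₂ →
      Coh.IsCoh S.X₃ → K' S.X₁ → K' S.X₃ → K' S.X₂)
    (X' : Set X)
    (hstep : ∀ (Z : Set X) (hZ : IsClosed Z), IsIrreducible Z → Z ⊆ X' → ∀ y : X,
      closure {y} = Z →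
      (∀ N : X.Modules, Coh.IsCoh N → CohB1.support N ⊆ Z →
        Subsingleton ↑(N.presheaf.stalk y) → K' N) →
      ∀ M : X.Modules, Coh.IsCoh M →
        ClSub.KilledByIdeal (Scheme.IdealSheafData.vanishingIdeal ⟨Z, hZ⟩) M →
        CohB1.support M ⊆ Z → K' M)
    (F : X.Modules) (hF : Coh.IsCoh F) (hsupp : CohB1.support F ⊆ X') : K' F := by
  haveI hwf : WellFoundedLT (Closeds X) :=
    ((noetherianSpace_TFAE X).out 0 1).mp (inferInstance : NoetherianSpace X)
  suffices H : ∀ T : Closeds X, (T : Set X) ⊆ X' → ∀ F : X.Modules, Coh.IsCoh F →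
      CohB1.support F ⊆ (T : Set X) → K' F from
    H ⟨CohB1.support F, isClosed_supp hF⟩ hsupp F hF le_rfl
  intro T
  induction T using hwf.induction with
  | _ T IH =>
  intro hTX' F hF hFT
  by_cases hirr : IsIrreducible (T : Set X)
  · set y := hirr.genericPoint with hydef
    have hy : closure {y} = (T : Set X) := hirr.closure_genericPoint T.isClosed
    have hyT : y ∈ (T : Set X) := by
      rw [← hy]; exact subset_closure (Set.mem_singleton y)
    have small : ∀ N : X.Modules, Coh.IsCoh N → CohB1.support N ⊆ (T : Set X) →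
        Subsingleton ↑(N.presheaf.stalk y) → K' N := by
      intro N hN hNT hNy
      let T' : Closeds X := ⟨CohB1.support N, isClosed_supp hN⟩
      have hlt : T' < T := by
        refine lt_of_le_of_ne hNT ?_
        intro heq
        have : y ∈ (T' : Set X) := by rw [heq]; exact hyT
        exact this hNy
      exact IH T' hlt (hNT.trans hTX') N hN le_rfl
    exact Groth.Agent.H31.Dev_B.B (T : Set X) T.isClosed K' hext
      (hstep T T.isClosed hirr hTX' y hy small) F hF hFT
  · by_cases hne : (T : Set X).Nonempty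
    · have hpre : ¬ IsPreirreducible (T : Set X) := fun h => hirr ⟨hne, h⟩
      rw [isPreirreducible_iff_isClosed_union_isClosed] at hpre
      push Not at hpre
      obtain ⟨z₁, z₂, hz₁, hz₂, hcov, hn1, hn2⟩ := hpre
      let T1 : Closeds X := T ⊓ ⟨z₁, hz₁⟩
      let T2 : Closeds X := T ⊓ ⟨z₂, hz₂⟩
      have hlt1 : T1 < T := by
        refine lt_of_le_of_ne inf_le_left ?_
        intro heq
        apply hn1
        intro x hx
        have : x ∈ (T1 : Set X) := by rw [heq]; exact hx
        exact this.2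
      have hlt2 : T2 < T := by
        refine lt_of_le_of_ne inf_le_left ?_
        intro heq
        apply hn2
        intro x hx
        have : x ∈ (T2 : Set X) := by rw [heq]; exact hx
        exact this.2
      have hFc := isClosed_supp hF
      have hunion : CohB1.support F = (CohB1.support F ∩ z₁) ∪ (CohB1.support F ∩ z₂) := by
        rw [← Set.inter_union_distrib_left]
        exact (Set.inter_eq_left.mpr (hFT.trans hcov)).symm
      obtain ⟨S, hS, ⟨e⟩, cS1, cS3, sS1, sS3⟩ := Groth.Agent.H30.SuppSplit.main F hF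
        (CohB1.support F ∩ z₁) (CohB1.support F ∩ z₂) (hFc.inter hz₁) (hFc.inter hz₂) hunion
      have hK1 : K' S.X₁ := IH T2 hlt2 (fun x hx => hTX' hx.1) S.X₁ cS1
        (fun x hx => ⟨hFT (sS1 hx).1, (sS1 hx).2⟩)
      have hK3 : K' S.X₃ := IH T1 hlt1 (fun x hx => hTX' hx.1) S.X₃ cS3
        (fun x hx => ⟨hFT (sS3 hx).1, (sS3 hx).2⟩)
      have cS2 : Coh.IsCoh S.X₂ := Groth.Agent.H90.QH.isCoh_of_iso e.symm hF
      exact K'.prop_of_iso e (hext S hS cS1 cS2 cS3 hK1 hK3)
    · rw [Set.not_nonempty_iff_eq_empty] at hne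
      apply h0
      rw [Groth.Agent.H8.isZero_iff_support_eq_empty]
      exact Set.subset_empty_iff.mp (hne ▸ hFT)

/-- additive functors commute with `pw`. -/
noncomputable def mapPw (Φ : X.Modules ⥤ X.Modules) [Φ.Additive] (G : X.Modules) :
    ∀ n : ℕ, Φ.obj (pw G n) ≅ pw (Φ.obj G) n
  | 0 => Φ.mapZeroObject
  | (n + 1) =>
    haveI : PreservesBinaryBiproducts Φ := preservesBinaryBiproducts_of_preservesBiproducts Φ
    Φ.mapBiprod G (pw G n) ≪≫ biprod.mapIso (Iso.refl _) (mapPw Φ G n)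

theorem K_pw₃ [IsLocallyNoetherian X] (K' : ObjectProperty X.Modules)
    (h0 : ∀ M : X.Modules, IsZero M → K' M)
    (hext : ∀ S : ShortComplex X.Modules, S.ShortExact → Coh.IsCoh S.X₁ → Coh.IsCoh S.X₂ →
      Coh.IsCoh S.X₃ → K' S.X₁ → K' S.X₃ → K' S.X₂)
    {G : X.Modules} (hG : Coh.IsCoh G) (hK : K' G) (n : ℕ) : K' (pw G n) := by
  induction n with
  | zero => exact h0 _ (isZero_zero _)
  | succ n ih =>
    let S : ShortComplex X.Modules :=
      ShortComplex.mk (biprod.inl : G ⟶ G ⊞ pw G n) biprod.snd (by simp)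
    have hS : S.ShortExact := (ShortComplex.Splitting.ofHasBinaryBiproduct G (pw G n)).shortExact
    exact hext S hS hG (isCoh_biprod hG (isCoh_pw hG n)) (isCoh_pw hG n) hK ih


/-- Pushforward of a coherent module along a finite morphism is coherent. -/
theorem isCoh_pushforward_of_isFinite {N : Scheme.{u}} (h : N ⟶ X) [IsFinite h] (M : N.Modules)
    (hM : Coh.IsCoh M) : Coh.IsCoh ((Scheme.Modules.pushforward h).obj M) := by
  haveI : M.IsQuasicoherent := hM.1
  haveI hq : ((Scheme.Modules.pushforward h).obj M).IsQuasicoherent :=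
    Groth.Agent.H8.isQuasicoherent_pushforward h M
  refine ⟨hq, ?_⟩
  apply Groth.Agent.H8.isFiniteType_of_forall_affine_finite
  intro V
  have hW : IsAffineOpen (h ⁻¹ᵁ (V : X.Opens)) := V.2.preimage h
  haveI h1 : Module.Finite Γ(N, h ⁻¹ᵁ (V : X.Opens)) Γ(M, h ⁻¹ᵁ (V : X.Opens)) :=
    Groth.Agent.H8.finite_sections_of_isCoh M hM hW
  have h2 : (h.app (V : X.Opens)).hom.Finite := IsFinite.finite_app h (V : X.Opens) V.2
  letI : Algebra Γ(X, (V : X.Opens)) Γ(N, h ⁻¹ᵁ (V : X.Opens)) :=
    (h.app (V : X.Opens)).hom.toAlgebra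
  haveI : Module.Finite Γ(X, (V : X.Opens)) Γ(N, h ⁻¹ᵁ (V : X.Opens)) := h2
  letI : Module Γ(X, (V : X.Opens)) Γ(M, h ⁻¹ᵁ (V : X.Opens)) :=
    (show Module Γ(X, (V : X.Opens))
      Γ((Scheme.Modules.pushforward h).obj M, (V : X.Opens)) from inferInstance)
  haveI : IsScalarTower Γ(X, (V : X.Opens)) Γ(N, h ⁻¹ᵁ (V : X.Opens))
      Γ(M, h ⁻¹ᵁ (V : X.Opens)) :=
    IsScalarTower.of_algebraMap_smul (fun r m => rfl)
  exact Module.Finite.trans Γ(N, h ⁻¹ᵁ (V : X.Opens)) Γ(M, h ⁻¹ᵁ (V : X.Opens))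

/-- The stalk of a pushforward along a closed immersion vanishes off the image. -/
theorem supp_pushforward_subset {Z : Scheme.{u}} (i : Z ⟶ X) [IsClosedImmersion i] (H : Z.Modules) :
    CohB1.support ((Scheme.Modules.pushforward i).obj H) ⊆ Set.range ⇑i := by
  intro x hx
  by_contra hxr
  apply hx
  refine subsingleton_of_forall_eq 0 (fun t => ?_)
  obtain ⟨U, hU, n, rfl⟩ :=
    TopCat.Presheaf.exists_germ_eq ((Scheme.Modules.pushforward i).obj H).presheaf (x := x) t
  have hcl : IsClosed (Set.range ⇑i) := i.isClosedEmbedding.isClosed_range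
  let V : X.Opens := ⟨(Set.range ⇑i)ᶜ, hcl.isOpen_compl⟩
  have hxV : x ∈ V := hxr
  have hUV : x ∈ U ⊓ V := ⟨hU, hxV⟩
  rw [← TopCat.Presheaf.germ_res_apply ((Scheme.Modules.pushforward i).obj H).presheaf
    (homOfLE (inf_le_left : U ⊓ V ≤ U)) x hUV n]
  have hbot : ∀ y, y ∉ i ⁻¹ᵁ (U ⊓ V) := fun y hy => hy.2 ⟨y, rfl⟩
  have h0 : ((Scheme.Modules.pushforward i).obj H).presheaf.map
      (homOfLE (inf_le_left : U ⊓ V ≤ U)).op n = 0 := by
    show (((Scheme.Modules.pushforward i).obj H).presheaf.map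
      (homOfLE (inf_le_left : U ⊓ V ≤ U)).op n : Γ(H, i ⁻¹ᵁ (U ⊓ V))) = 0
    exact Groth.Agent.H8.section_eq_of_cover H _ 0 (fun y hy => absurd hy (hbot y))
  rw [h0, map_zero]

theorem PF {Z : Scheme.{u}} (i : Z ⟶ X) [IsClosedImmersion i] [IsIntegral Z] [IsLocallyNoetherian X]
    (H : Z.Modules) (hH : Coh.IsCoh H) :
    Coh.IsCoh ((Scheme.Modules.pushforward i).obj H) ∧
    CohB1.support ((Scheme.Modules.pushforward i).obj H) ⊆ Set.range ⇑i ∧
    (∀ a ∈ IsLocalRing.maximalIdeal (X.presheaf.stalk (i (genericPoint Z))),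
      ∀ t : ↑(((Scheme.Modules.pushforward i).obj H).presheaf.stalk (i (genericPoint Z))), a • t = 0) ∧
    (Nontrivial ↑(H.presheaf.stalk (genericPoint Z)) →
      Nontrivial ↑(((Scheme.Modules.pushforward i).obj H).presheaf.stalk (i (genericPoint Z)))) := by
  have hind : Topology.IsInducing i.base := i.isEmbedding.isInducing
  have hsp : Function.Bijective (Groth.Agent.H28.ClosedStalk.spAb i H (genericPoint Z)) :=
    Groth.Agent.H28.ClosedStalk.spLinMap_bijective i hind H (genericPoint Z)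
  refine ⟨isCoh_pushforward_of_isFinite i H hH, supp_pushforward_subset i H, ?_, ?_⟩
  · intro a ha t
    letI : Field (Z.presheaf.stalk (genericPoint Z)) :=
      inferInstanceAs (Field Z.functionField)
    have hσ : (i.stalkMap (genericPoint Z)).hom a = 0 := by
      have hnu : ¬ IsUnit a := ha
      have hnu' : ¬ IsUnit ((i.stalkMap (genericPoint Z)).hom a) := fun hu =>
        hnu (IsLocalHom.map_nonunit (f := (i.stalkMap (genericPoint Z)).hom) a hu)
      by_contra hne
      exact hnu' (IsUnit.mk0 _ hne)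
    apply hsp.1
    rw [Groth.Agent.H28.ClosedStalk.spAb_smul, hσ, zero_smul, map_zero]
  · intro hnt
    exact hsp.2.nontrivial

/-- For a closed immersion `i` and `z : Z`: an additive bijection `(i_*O_Z)_{i z} → O_{Z,z}`,
semilinear along the stalk map. -/
theorem exists_semilinear_bij {Z : Scheme.{u}} (i : Z ⟶ X) [IsClosedImmersion i] (z : Z) :
    ∃ Φ : ↑(((Scheme.Modules.pushforward i).obj (Coh.structureModule Z)).presheaf.stalk (i z)) →
        Z.presheaf.stalk z,
      Function.Bijective Φ ∧ (∀ a b, Φ (a + b) = Φ a + Φ b) ∧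
      ∀ (r : X.presheaf.stalk (i z)) t, Φ (r • t) = (i.stalkMap z).hom r * Φ t := by
  have hind : Topology.IsInducing i.base := i.isEmbedding.isInducing
  have hsp : Function.Bijective (Groth.Agent.H28.ClosedStalk.spAb i (Coh.structureModule Z) z) :=
    Groth.Agent.H28.ClosedStalk.spLinMap_bijective i hind (Coh.structureModule Z) z
  have hL := Groth.Agent.H2.ConnComp.L_bijective Z z
  let eL := Equiv.ofBijective _ hL
  have heL : ∀ m, Groth.Agent.H2.ConnComp.L Z z (eL.symm m) = m := fun m => eL.apply_symm_apply m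
  refine ⟨fun t => eL.symm (Groth.Agent.H28.ClosedStalk.spAb i (Coh.structureModule Z) z t),
    eL.symm.bijective.comp hsp, ?_, ?_⟩
  · intro a b
    apply hL.1
    rw [map_add, heL, heL, heL]
    exact map_add (Groth.Agent.H28.ClosedStalk.spAb i (Coh.structureModule Z) z).hom a b
  · intro r t
    apply hL.1
    show Groth.Agent.H2.ConnComp.L Z z (eL.symm _) = Groth.Agent.H2.ConnComp.L Z z (_ * eL.symm _)
    rw [heL, ← smul_eq_mul ((i.stalkMap z).hom r), LinearMap.map_smul, heL]
    exact Groth.Agent.H28.ClosedStalk.spAb_smul i (Coh.structureModule Z) z r t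

theorem PF1 {Z : Scheme.{u}} (i : Z ⟶ X) [IsClosedImmersion i] [IsIntegral Z] :
    Module.length (X.presheaf.stalk (i (genericPoint Z)))
      ↑(((Scheme.Modules.pushforward i).obj (Coh.structureModule Z)).presheaf.stalk
        (i (genericPoint Z))) = 1 := by
  rw [Module.length_eq_one_iff]
  obtain ⟨Φ, hΦ, hadd, hsmul⟩ := exists_semilinear_bij i (genericPoint Z)
  have hσ : Function.Surjective (i.stalkMap (genericPoint Z)).hom :=
    i.stalkMap_surjective (genericPoint Z)
  letI : Field (Z.presheaf.stalk (genericPoint Z)) :=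
    inferInstanceAs (Field Z.functionField)
  have hΦ0 : Φ 0 = 0 := by
    have := hadd 0 0
    rw [add_zero] at this
    exact left_eq_add.mp this
  rw [isSimpleModule_iff_toSpanSingleton_surjective]
  refine ⟨?_, ?_⟩
  · obtain ⟨t, ht⟩ := hΦ.2 1
    refine ⟨⟨t, 0, ?_⟩⟩
    intro h
    rw [h, hΦ0] at ht
    exact zero_ne_one ht
  · intro x hx w
    have hΦx : Φ x ≠ 0 := by
      intro h
      exact hx (hΦ.1 (h.trans hΦ0.symm))
    obtain ⟨r, hr⟩ := hσ (Φ w / Φ x)
    refine ⟨r, ?_⟩
    apply hΦ.1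
    rw [LinearMap.toSpanSingleton_apply, hsmul, hr, div_mul_cancel₀ _ hΦx]

theorem TF {Z : Scheme.{u}} (i : Z ⟶ X) [IsClosedImmersion i] [IsIntegral Z] (r : ℕ)
    (N : X.Modules) (g : N ⟶ pw ((Scheme.Modules.pushforward i).obj (Coh.structureModule Z)) r)
    [Mono g] (h : Subsingleton ↑(N.presheaf.stalk (i (genericPoint Z)))) : IsZero N :=
  Groth.Agent.H9.Dev_TF.TF i r N g h


/-- Stacks 01YE + extension: a coherent module killed by the ideal of an irreducible closed set
lies in an extension-closed class containing the pushforwards of ideal sheaves of integral closed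
subschemes (given the same for modules of smaller support). -/
theorem step_E [IsNoetherian X] (K' : ObjectProperty X.Modules) [K'.IsClosedUnderIsomorphisms]
    (h0 : ∀ M : X.Modules, IsZero M → K' M)
    (hext : ∀ S : ShortComplex X.Modules, S.ShortExact → Coh.IsCoh S.X₁ → Coh.IsCoh S.X₂ →
      Coh.IsCoh S.X₃ → K' S.X₁ → K' S.X₃ → K' S.X₂)
    (T : Set X) (hT : IsClosed T) (hirr : IsIrreducible T) (y : X) (hy : closure {y} = T)
    (hI : ∀ (Z : Scheme.{u}) (i : Z ⟶ X), IsClosedImmersion i → IsIntegral Z →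
      Set.range ⇑i = T →
      ∀ (I : Z.Modules) (ι : I ⟶ Coh.structureModule Z), Mono ι → Coh.IsQCoh I →
        Coh.IsCoh ((Scheme.Modules.pushforward i).obj I) →
        CohB1.support ((Scheme.Modules.pushforward i).obj I) ⊆ T →
        K' ((Scheme.Modules.pushforward i).obj I))
    (small : ∀ N : X.Modules, Coh.IsCoh N → CohB1.support N ⊆ T →
        Subsingleton ↑(N.presheaf.stalk y) → K' N)
    (M : X.Modules) (hM : Coh.IsCoh M)
    (hMk : ClSub.KilledByIdeal (Scheme.IdealSheafData.vanishingIdeal ⟨T, hT⟩) M)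
    (hMT : CohB1.support M ⊆ T) : K' M := by
  obtain ⟨Z, i, hi, hZ, hrange, hgp⟩ := IS X T hT hirr y hy
  subst hgp
  set y := i (genericPoint Z) with hydef
  have cO := Groth.Agent.H8.isCoh_structureModule Z
  obtain ⟨hG, hGs, hGk, -⟩ := PF i (Coh.structureModule Z) cO
  have hGlen := PF1 i
  set G := (Scheme.Modules.pushforward i).obj (Coh.structureModule Z) with hGdef
  have hGT : CohB1.support G ⊆ T := hGs.trans hrange.le
  haveI := Groth.Agent.H8.finite_stalk_of_isCoh _ hM y
  have hMy := Groth.Agent.H60.Dev.S1 T hT y hy M hMk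
  have hfinM : Module.length (X.presheaf.stalk y) ↑(M.presheaf.stalk y) ≠ ⊤ := R1b _ _ hMy
  obtain ⟨r, hr⟩ := ENat.ne_top_iff_exists.mp hfinM
  have cGr := isCoh_pw hG r
  haveI := Groth.Agent.H8.finite_stalk_of_isCoh _ cGr y
  obtain ⟨ψ⟩ := Groth.Agent.H60.Dev.R1 (X.presheaf.stalk y) ↑((pw G r).presheaf.stalk y)
    ↑(M.presheaf.stalk y) (stalk_killed_pw y hGk r) hMy
    (by rw [length_pw, hGlen, mul_one, hr])
  obtain ⟨Γ', p1, p2, hΓ, hmono, hb1, hb2⟩ := CL (pw G r) M cGr hM y ψ
  obtain ⟨I, n, β, hyI, hβ, hβb⟩ := DL hΓ cGr p1 y hb1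
  haveI : (pw G r).IsQuasicoherent := cGr.1
  haveI : G.IsQuasicoherent := hG.1
  have cIG := Groth.Agent.H31.Dev_B.isCoh_idealMul (I ^ n) (pw G r) cGr
  let f := β ≫ p2
  have hfb : Function.Bijective (Groth.Agent.H8.stalkMap f y) := by
    have h2 : (Groth.Agent.H8.stalkMap f y : _ → _) =
        (Groth.Agent.H8.stalkMap p2 y) ∘ (Groth.Agent.H8.stalkMap β y) :=
      funext (stalkMap_comp β p2 y)
    rw [h2]
    exact hb2.comp hβb
  have sf := (Groth.Agent.H8.stalkMap_bijective_iff f y).mp hfb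
  -- `f` is a monomorphism by torsion-freeness
  haveI : Mono f := by
    apply Preadditive.mono_of_isZero_kernel
    exact TF i r (kernel f) (kernel.ι f ≫ Dual3.idealMulι (I ^ n) (pw G r)) sf.1
  -- the cokernel is small
  have cC := Groth.Agent.H8.isCoh_cokernel cIG hM f
  have hKC : K' (cokernel f) := small _ cC ((supp_epi (cokernel.π f)).trans hMT) sf.2
  -- the source
  have cA := Groth.Agent.H31.Dev_B.isCoh_idealMul (I ^ n) G hG
  haveI : ((Dual3.idealMul (I ^ n)).obj G).IsQuasicoherent := cA.1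
  obtain ⟨𝓘, ι, hι, h𝓘q, ⟨e⟩⟩ := Groth.Agent.H89.Dev_ID.ID i ((Dual3.idealMul (I ^ n)).obj G) (Dual3.idealMulι (I ^ n) G)
  have hKA : K' ((Dual3.idealMul (I ^ n)).obj G) :=
    K'.prop_of_iso e (hI Z i hi hZ hrange 𝓘 ι hι h𝓘q
      (Groth.Agent.H90.QH.isCoh_of_iso e.symm cA)
      (((supp_mono e.hom).trans (supp_mono (Dual3.idealMulι (I ^ n) G))).trans hGT))
  have hKpw : K' (pw ((Dual3.idealMul (I ^ n)).obj G) r) := K_pw₃ K' h0 hext cA hKA r
  have hKsrc : K' ((Dual3.idealMul (I ^ n)).obj (pw G r)) :=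
    K'.prop_of_iso (mapPw (Dual3.idealMul (I ^ n)) G r).symm hKpw
  let S : ShortComplex X.Modules := ShortComplex.mk f (cokernel.π f) (cokernel.condition f)
  have hS : S.ShortExact :=
    { exact := S.exact_of_g_is_cokernel (cokernelIsCokernel f)
      mono_f := inferInstanceAs (Mono f)
      epi_g := inferInstanceAs (Epi (cokernel.π f)) }
  exact hext S hS cIG hM cC hKsrc hKC

end Groth.Agent.H8.Dev
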