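import Mathlib
import Groth.Agent.H8.DevMain3
import Groth.Agent.S9517
set_option autoImplicit false
set_option linter.style.haveILetI false
universe u
open CategoryTheory CategoryTheory.Limits AlgebraicGeometry TopologicalSpace Opposite
open scoped ZeroObject

namespace Groth.Agent.H8.Dev
open Groth.Agent.H31.Dev_B Groth.Agent.H36.IdealMul Groth.Agent.H36.SubSec
variable {X : Scheme.{u}}

/-- Categorical: if `mk a ⊓ mk (kernel.ι f) = ⊥` with `a` mono then `a ≫ f` is mono. -/
theorem mono_comp_of_inf_kernel_eq_bot {C : Type*} [Category C] [Abelian C] {A' A B : C}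
    (a : A' ⟶ A) [Mono a] (f : A ⟶ B)
    (h : Subobject.mk a ⊓ Subobject.mk (kernel.ι f) = ⊥) : Mono (a ≫ f) := by
  apply Preadditive.mono_of_cancel_zero
  intro W g hg
  have h1 : (Subobject.mk a).Factors (g ≫ a) := (Subobject.mk_factors_iff a (g ≫ a)).mpr ⟨g, rfl⟩
  have h2 : (Subobject.mk (kernel.ι f)).Factors (g ≫ a) :=
    (Subobject.mk_factors_iff (kernel.ι f) (g ≫ a)).mpr
      ⟨kernel.lift f (g ≫ a) (by rw [Category.assoc]; exact hg), kernel.lift_ι _ _ _⟩
  have h3 : (Subobject.mk a ⊓ Subobject.mk (kernel.ι f)).Factors (g ≫ a) :=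
    (Subobject.inf_factors _).mpr ⟨h1, h2⟩
  rw [h] at h3
  have h4 : g ≫ a = 0 := (Subobject.bot_factors_iff_zero _).mp h3
  exact (cancel_mono a).mp (h4.trans zero_comp.symm)


/-- **Artin–Rees injectivity.** If `φ : A ⟶ B` (coherent, Noetherian `X`) has kernel with zero
stalk at `y`, there is an ideal `J` with `y ∉ V(J)` and `n` with `J^n A ⟶ A ⟶ B` mono. -/
theorem AR [IsNoetherian X] {A B : X.Modules} (hA : Coh.IsCoh A) (hB : Coh.IsCoh B) (φ : A ⟶ B)
    (y : X) (hK : Subsingleton ↑((kernel φ).presheaf.stalk y)) :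
    ∃ (J : X.IdealSheafData) (n : ℕ), y ∉ J.support ∧
      Mono (Dual3.idealMulι (J ^ n) A ≫ φ) := by
  have cK := Groth.Agent.H8.isCoh_kernel hA hB φ
  have hTcl : IsClosed (CohB1.support (kernel φ)) := isClosed_supp cK
  have hyT : y ∉ CohB1.support (kernel φ) := fun h => h hK
  set J := Scheme.IdealSheafData.vanishingIdeal ⟨CohB1.support (kernel φ), hTcl⟩ with hJ
  have hJs : (J.support : Set X) = CohB1.support (kernel φ) :=
    Scheme.IdealSheafData.coe_support_vanishingIdeal _
  haveI : A.IsQuasicoherent := hA.1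
  haveI : (kernel φ).IsQuasicoherent := cK.1
  obtain ⟨c, hc⟩ := Groth.Agent.S9517.result X A (kernel φ) hA cK.1 (kernel.ι φ) J
  -- uniform exponent on a finite affine cover
  obtain ⟨s, hs⟩ := exists_finite_affine_cover X
  have hm : ∀ W : X.affineOpens, ∃ m : ℕ, ∀ a ∈ (J.ideal W) ^ m,
      ∀ t : Γ(kernel φ, W.1), a • t = 0 :=
    fun W => exists_pow_smul_eq_zero_of_support _ hTcl (kernel φ) cK subset_rfl W
  choose m hm using hm
  refine ⟨J, c + s.sup m, ?_, ?_⟩
  · intro h
    exact hyT (hJs ▸ h)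
  have hcn := hc (c + s.sup m) (Nat.le_add_right _ _)
  rw [Nat.add_sub_cancel_left] at hcn
  set S : Subobject A := Subobject.mk (Dual3.idealMulι (J ^ c) A) ⊓ Subobject.mk (kernel.ι φ)
    with hS
  haveI : ((Dual3.idealMul (J ^ c)).obj A).IsQuasicoherent := isQuasicoherent_idealMul _ A
  haveI hNq : (S : X.Modules).IsQuasicoherent :=
    isQuasicoherent_inf (Dual3.idealMulι (J ^ c) A) (kernel.ι φ)
  haveI : ((Dual3.idealMul (J ^ s.sup m)).obj (S : X.Modules)).IsQuasicoherent :=
    isQuasicoherent_idealMul _ _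
  -- the inclusion N ⟶ K
  let j : (S : X.Modules) ⟶ kernel φ := Subobject.ofLEMk S (kernel.ι φ) inf_le_right
  haveI : Mono j := by
    have : j ≫ kernel.ι φ = S.arrow := Subobject.ofLEMk_comp _
    exact mono_of_mono_fac this
  have hzero : Dual3.idealMulι (J ^ s.sup m) (S : X.Modules) = 0 := by
    refine hom_eq_zero_of_affine_cover _ (s : Set X.affineOpens) (fun x => ?_) ?_
    · obtain ⟨W, hW, hxW⟩ := hs x
      exact ⟨W, hW, hxW⟩
    · intro W hW t
      have hWs : W ∈ s := hW
      have h1 := idealMulι_app_mem (J ^ s.sup m) (S : X.Modules) W t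
      have hle : (J.ideal W) ^ (s.sup m) ≤ (J.ideal W) ^ (m W) :=
        Ideal.pow_le_pow_right (Finset.le_sup hWs)
      have h2 : ((J ^ s.sup m).ideal W) • (⊤ : Submodule Γ(X, W.1) Γ((S : X.Modules), W.1)) ≤ ⊥ := by
        rw [Submodule.smul_le]
        intro a ha x _
        rw [Submodule.mem_bot]
        apply Groth.Agent.H8.app_injective_of_mono j W.1
        rw [map_zero, Scheme.Modules.Hom.app_smul]
        exact hm W a (hle ha) _
      exact (Submodule.mem_bot _).mp (h2 h1)
  have hbot : Subobject.mk (Dual3.idealMulι (J ^ (c + s.sup m)) A) ⊓ Subobject.mk (kernel.ι φ) = ⊥ := by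
    rw [← hcn, Subobject.mk_eq_bot_iff_zero, hzero, zero_comp]
  exact mono_comp_of_inf_kernel_eq_bot _ φ hbot

end Groth.Agent.H8.Dev
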