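import Groth.Agent.H8.AffBC
import Groth.Agent.H8.QCohQcqs

/-!
# Flat base change for quasi-coherent modules

`isIso_uMap_of_flat`: in a cartesian square with `f` quasi-compact quasi-separated and `g` flat,
the base change map `uMap : g^* f_* F ⟶ f'_* g'^* F` is an isomorphism for quasi-coherent `F`.
`baseChange_eq_uMap`: the "unit, identification, counit" form of the base change map is `uMap`.
-/

set_option autoImplicit false
set_option linter.style.haveILetI false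
universe u
open CategoryTheory AlgebraicGeometry TensorProduct Opposite TopologicalSpace
open Scheme.Modules OmegaSh
open Groth.Agent.H39.PullTrack Groth.Agent.H8.AffBC

namespace Groth.Agent.H8.FlatBC

noncomputable section

section FlatGlue

variable {A A' : Type*} [CommRing A] [CommRing A'] [Algebra A A'] [Module.Flat A A']
  {N : Type*} [AddCommGroup N] [Module A N]
  {I : Type*} [Fintype I] [DecidableEq I] {Ni : I → Type*} [∀ i, AddCommGroup (Ni i)]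
  [∀ i, Module A (Ni i)] (r : ∀ i, N →ₗ[A] Ni i)
  {K : Type*} [Fintype K] [DecidableEq K] {Pk : K → Type*} [∀ k, AddCommGroup (Pk k)]
  [∀ k, Module A (Pk k)] (α β : K → I) (p : ∀ k, Ni (α k) →ₗ[A] Pk k)
  (q : ∀ k, Ni (β k) →ₗ[A] Pk k)

include r in
theorem lTensor_jointly_injective
    (hinj : ∀ n : N, (∀ i, r i n = 0) → n = 0)
    (t : A' ⊗[A] N) (ht : ∀ i, (r i).lTensor A' t = 0) : t = 0 := by
  let ι : N →ₗ[A] (∀ i, Ni i) := LinearMap.pi r
  have hι : Function.Injective ι := by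
    rw [injective_iff_map_eq_zero]
    intro n hn
    exact hinj n (fun i => congrFun hn i)
  have h1 := Module.Flat.lTensor_preserves_injective_linearMap (M := A') ι hι
  apply h1
  rw [map_zero]
  apply (TensorProduct.piRight A A A' Ni).injective
  rw [map_zero]
  funext i
  have key : ∀ t : A' ⊗[A] N, TensorProduct.piRight A A A' Ni (ι.lTensor A' t) i =
      (r i).lTensor A' t := by
    intro t
    induction t using TensorProduct.induction_on with
    | zero => simp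
    | tmul a n => simp [ι]
    | add x y hx hy => simp only [map_add, Pi.add_apply, hx, hy]
  rw [key, ht]
  rfl

theorem lTensor_glue
    (hcomp : ∀ (n : N) (k : K), p k (r (α k) n) = q k (r (β k) n))
    (hglue : ∀ x : ∀ i, Ni i, (∀ k, p k (x (α k)) = q k (x (β k))) → ∃ n : N, ∀ i, r i n = x i)
    (y : ∀ i, A' ⊗[A] Ni i)
    (hy : ∀ k, (p k).lTensor A' (y (α k)) = (q k).lTensor A' (y (β k))) :
    ∃ t : A' ⊗[A] N, ∀ i, (r i).lTensor A' t = y i := by
  let ι : N →ₗ[A] (∀ i, Ni i) := LinearMap.pi r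
  let d : (∀ i, Ni i) →ₗ[A] (∀ k, Pk k) :=
    LinearMap.pi (fun k => (p k).comp (LinearMap.proj (α k)) - (q k).comp (LinearMap.proj (β k)))
  have hex : Function.Exact ι d := by
    intro x
    constructor
    · intro hx
      have hx' : ∀ k, p k (x (α k)) = q k (x (β k)) := fun k => by
        have := congrFun hx k
        simpa [d, sub_eq_zero] using this
      obtain ⟨n, hn⟩ := hglue x hx'
      exact ⟨n, funext hn⟩
    · rintro ⟨n, rfl⟩
      funext k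
      simp [d, ι, hcomp n k]
  have hex' := Module.Flat.lTensor_exact A' hex
  have keyι : ∀ (t : A' ⊗[A] N) (i : I), TensorProduct.piRight A A A' Ni (ι.lTensor A' t) i =
      (r i).lTensor A' t := by
    intro t i
    induction t using TensorProduct.induction_on with
    | zero => simp
    | tmul a n => simp [ι]
    | add x y hx hy => simp only [map_add, Pi.add_apply, hx, hy]
  have keyd : ∀ (τ : A' ⊗[A] (∀ i, Ni i)) (k : K),
      TensorProduct.piRight A A A' Pk (d.lTensor A' τ) k =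
        (p k).lTensor A' (TensorProduct.piRight A A A' Ni τ (α k)) -
          (q k).lTensor A' (TensorProduct.piRight A A A' Ni τ (β k)) := by
    intro τ k
    induction τ using TensorProduct.induction_on with
    | zero => simp
    | tmul a x => simp [d, TensorProduct.tmul_sub]
    | add x y hx hy =>
      simp only [map_add, Pi.add_apply, hx, hy]
      abel
  let τ := (TensorProduct.piRight A A A' Ni).symm y
  have hτ : d.lTensor A' τ = 0 := by
    apply (TensorProduct.piRight A A A' Pk).injective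
    rw [map_zero]
    funext k
    rw [keyd, LinearEquiv.apply_symm_apply, hy k, sub_self]
    rfl
  obtain ⟨t, ht⟩ := (hex' τ).mp hτ
  refine ⟨t, fun i => ?_⟩
  rw [← keyι, ht, LinearEquiv.apply_symm_apply]

end FlatGlue

variable {X S X' S' : Scheme.{u}} {f : X ⟶ S} {g : S' ⟶ S} {g' : X' ⟶ X} {f' : X' ⟶ S'}

/-- In a cartesian square, `g'⁻¹ U ⊓ f'⁻¹ V'` is affine for affine `U`, `V'` over an affine `V`. -/
theorem isAffineOpen_inf (h : IsPullback g' f' f g) {V : S.Opens} (hV : IsAffineOpen V)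
    {V' : S'.Opens} (hV' : IsAffineOpen V') (hle : V' ≤ g ⁻¹ᵁ V) {U : X.Opens}
    (hU : IsAffineOpen U) (hUV : U ≤ f ⁻¹ᵁ V) : IsAffineOpen (g' ⁻¹ᵁ U ⊓ f' ⁻¹ᵁ V') := by
  have : IsAffine _ := hV
  have : IsAffine _ := hV'
  have : IsAffine _ := hU
  exact .of_isIso (Scheme.Hom.isPullback_resLE h hle hUV rfl).isoPullback.hom

section LemmaA

variable (h : IsPullback g' f' f g) (F : X.Modules) [F.IsQuasicoherent]
  {V : S.Opens} (hV : IsAffineOpen V) {V' : S'.Opens} (hV' : IsAffineOpen V')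
  (hle : V' ≤ g ⁻¹ᵁ V) {U : X.Opens} (hU : IsAffineOpen U) (hUV : U ≤ f ⁻¹ᵁ V)

/-- The `Γ(S, V)`-module structure on `Γ(F, U)` for `U ≤ f⁻¹ V`. -/
abbrev modOver (F : X.Modules) {V : S.Opens} {U : X.Opens} (hUV : U ≤ f ⁻¹ᵁ V) :
    Module Γ(S, V) Γ(F, U) :=
  Module.compHom Γ(F, U) (f.appLE V U hUV).hom

set_option maxHeartbeats 1000000 in
include hV hV' hU h in
/-- Sections of `g'^* F` over `g'⁻¹ U ⊓ f'⁻¹ V'` are `Γ(S', V') ⊗ Γ(F, U)`. -/
theorem exists_tensorEquiv :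
    letI := (g.appLE V V' hle).hom.toAlgebra
    letI := modOver F hUV
    ∃ Θ : TensorProduct Γ(S, V) Γ(S', V') Γ(F, U) ≃+
        Γ((pullback g').obj F, g' ⁻¹ᵁ U ⊓ f' ⁻¹ᵁ V'),
      ∀ (a : Γ(S', V')) (m : Γ(F, U)), Θ (a ⊗ₜ m) =
        (f'.appLE V' (g' ⁻¹ᵁ U ⊓ f' ⁻¹ᵁ V') inf_le_right a) •
          pullSectLE g' F U (g' ⁻¹ᵁ U ⊓ f' ⁻¹ᵁ V') inf_le_left m := by
  have hU' : IsAffineOpen (g' ⁻¹ᵁ U ⊓ f' ⁻¹ᵁ V') := isAffineOpen_inf h hV hV' hle hU hUV
  obtain ⟨E₂, hE₂⟩ := exists_sectionsPullbackEquiv g' F hU hU'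
    (inf_le_left : g' ⁻¹ᵁ U ⊓ f' ⁻¹ᵁ V' ≤ g' ⁻¹ᵁ U)
  letI algAA' : Algebra Γ(S, V) Γ(S', V') := (g.appLE V V' hle).hom.toAlgebra
  letI algBB' : Algebra Γ(X, U) Γ(X', g' ⁻¹ᵁ U ⊓ f' ⁻¹ᵁ V') :=
    (g'.appLE U (g' ⁻¹ᵁ U ⊓ f' ⁻¹ᵁ V') inf_le_left).hom.toAlgebra
  letI algAB : Algebra Γ(S, V) Γ(X, U) := (f.appLE V U hUV).hom.toAlgebra
  letI algA'B' : Algebra Γ(S', V') Γ(X', g' ⁻¹ᵁ U ⊓ f' ⁻¹ᵁ V') :=
    (f'.appLE V' (g' ⁻¹ᵁ U ⊓ f' ⁻¹ᵁ V') inf_le_right).hom.toAlgebra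
  letI algAB' : Algebra Γ(S, V) Γ(X', g' ⁻¹ᵁ U ⊓ f' ⁻¹ᵁ V') :=
    ((g.appLE V V' hle) ≫ f'.appLE V' (g' ⁻¹ᵁ U ⊓ f' ⁻¹ᵁ V') inf_le_right).hom.toAlgebra
  haveI st1 : IsScalarTower Γ(S, V) Γ(S', V') Γ(X', g' ⁻¹ᵁ U ⊓ f' ⁻¹ᵁ V') :=
    IsScalarTower.of_algebraMap_eq (fun a => rfl)
  have hcomm : g.appLE V V' hle ≫ f'.appLE V' (g' ⁻¹ᵁ U ⊓ f' ⁻¹ᵁ V') inf_le_right =
      f.appLE V U hUV ≫ g'.appLE U (g' ⁻¹ᵁ U ⊓ f' ⁻¹ᵁ V') inf_le_left := by
    rw [Scheme.Hom.appLE_comp_appLE, Scheme.Hom.appLE_comp_appLE]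
    simp only [h.w]
  haveI st2 : IsScalarTower Γ(S, V) Γ(X, U) Γ(X', g' ⁻¹ᵁ U ⊓ f' ⁻¹ᵁ V') :=
    IsScalarTower.of_algebraMap_eq (fun a => congrArg (fun t => t.hom a) hcomm)
  have hiso := AlgebraicGeometry.isIso_pushoutSection_of_isAffineOpen h hle hUV rfl hV hV' hU
  have hpo := (AlgebraicGeometry.isIso_pushoutSection_iff h hle hUV rfl).mp hiso
  haveI po : Algebra.IsPushout Γ(S, V) Γ(X, U) Γ(S', V') Γ(X', g' ⁻¹ᵁ U ⊓ f' ⁻¹ᵁ V') :=
    CommRingCat.isPushout_iff_isPushout.mp hpo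
  haveI po' : Algebra.IsPushout Γ(S, V) Γ(S', V') Γ(X, U) Γ(X', g' ⁻¹ᵁ U ⊓ f' ⁻¹ᵁ V') := po.symm
  letI modAM : Module Γ(S, V) Γ(F, U) := modOver F hUV
  haveI st3 : IsScalarTower Γ(S, V) Γ(X, U) Γ(F, U) :=
    ⟨fun a b m => by
      show (f.appLE V U hUV a * b) • m = (f.appLE V U hUV a) • (b • m)
      exact mul_smul _ _ _⟩
  let C := Algebra.IsPushout.cancelBaseChange Γ(S, V) Γ(S', V') Γ(X, U)
    Γ(X', g' ⁻¹ᵁ U ⊓ f' ⁻¹ᵁ V') Γ(F, U)
  refine ⟨C.symm.toAddEquiv.trans E₂.symm.toAddEquiv, fun a m => ?_⟩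
  show E₂.symm (C.symm (a ⊗ₜ m)) = _
  rw [LinearEquiv.symm_apply_eq, _root_.map_smul, hE₂,
    Algebra.IsPushout.cancelBaseChange_symm_tmul, TensorProduct.smul_tmul', smul_eq_mul, mul_one]
  rfl

end LemmaA

section LemmaB

variable (G : S.Modules) [G.IsQuasicoherent]
  {V : S.Opens} (hV : IsAffineOpen V) {V' : S'.Opens} (hV' : IsAffineOpen V')
  (hle : V' ≤ g ⁻¹ᵁ V)

include hV hV' in
theorem exists_tensorEquiv_base :
    letI := (g.appLE V V' hle).hom.toAlgebra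
    ∃ Θ₀ : TensorProduct Γ(S, V) Γ(S', V') Γ(G, V) ≃+ Γ((pullback g).obj G, V'),
      ∀ (a : Γ(S', V')) (m : Γ(G, V)), Θ₀ (a ⊗ₜ m) = a • pullSectLE g G V V' hle m := by
  obtain ⟨E₁, hE₁⟩ := exists_sectionsPullbackEquiv g G hV hV' hle
  letI algAA' : Algebra Γ(S, V) Γ(S', V') := (g.appLE V V' hle).hom.toAlgebra
  refine ⟨E₁.symm.toAddEquiv, fun a m => ?_⟩
  show E₁.symm (a ⊗ₜ m) = _
  rw [LinearEquiv.symm_apply_eq, _root_.map_smul, hE₁, TensorProduct.smul_tmul', smul_eq_mul,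
    mul_one]

end LemmaB

section LemmaR

variable (F : X.Modules) {V : S.Opens} {V' : S'.Opens} (hle : V' ≤ g ⁻¹ᵁ V)

/-- Compatibility with restriction of additive maps given on pure tensors by
`a ⊗ m ↦ a • (pulled-back m)`. -/
theorem res_tensorMap
    [Algebra Γ(S, V) Γ(S', V')]
    {U₁ U₂ : X.Opens} (h21 : U₂ ≤ U₁) {O₁ O₂ : X'.Opens} (hO : O₂ ≤ O₁)
    (hO₁U : O₁ ≤ g' ⁻¹ᵁ U₁) (hO₂U : O₂ ≤ g' ⁻¹ᵁ U₂)
    (hO₁V : O₁ ≤ f' ⁻¹ᵁ V') (hO₂V : O₂ ≤ f' ⁻¹ᵁ V')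
    [Module Γ(S, V) Γ(F, U₁)] [Module Γ(S, V) Γ(F, U₂)]
    (ρ : Γ(F, U₁) →ₗ[Γ(S, V)] Γ(F, U₂))
    (hρ : ∀ m, ρ m = F.presheaf.map (homOfLE h21).op m)
    (Θ₁ : TensorProduct Γ(S, V) Γ(S', V') Γ(F, U₁) →+ Γ((pullback g').obj F, O₁))
    (hΘ₁ : ∀ (a : Γ(S', V')) (m : Γ(F, U₁)), Θ₁ (a ⊗ₜ m) =
      (f'.appLE V' O₁ hO₁V a) • pullSectLE g' F U₁ O₁ hO₁U m)
    (Θ₂ : TensorProduct Γ(S, V) Γ(S', V') Γ(F, U₂) →+ Γ((pullback g').obj F, O₂))
    (hΘ₂ : ∀ (a : Γ(S', V')) (m : Γ(F, U₂)), Θ₂ (a ⊗ₜ m) =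
      (f'.appLE V' O₂ hO₂V a) • pullSectLE g' F U₂ O₂ hO₂U m)
    (y : TensorProduct Γ(S, V) Γ(S', V') Γ(F, U₁)) :
    ((pullback g').obj F).presheaf.map (homOfLE hO).op (Θ₁ y) = Θ₂ (ρ.lTensor Γ(S', V') y) := by
  induction y using TensorProduct.induction_on with
  | zero => simp only [map_zero]
  | add x y hx hy => simp only [map_add, hx, hy]
  | tmul a m =>
    rw [hΘ₁, LinearMap.lTensor_tmul, hΘ₂, hρ, res_smul, pullSectLE_res_target,
      pullSectLE_res_source]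
    congr 1
    exact congrArg (fun t => t.hom a) (Scheme.Hom.appLE_map f' hO₁V (homOfLE hO).op)

end LemmaR


section Core

variable (h : IsPullback g' f' f g) (F : X.Modules) [F.IsQuasicoherent]
  [QuasiCompact f] [QuasiSeparated f] [Flat g]
  {V : S.Opens} (hV : IsAffineOpen V) {V' : S'.Opens} (hV' : IsAffineOpen V')
  (hle : V' ≤ g ⁻¹ᵁ V)
  {I K : Type u} [Fintype I] [DecidableEq I] [Fintype K] [DecidableEq K]
  (T : I → X.Opens) (hT : ∀ i, IsAffineOpen (T i)) (hTW : ∀ i, T i ≤ f ⁻¹ᵁ V)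
  (hcovT : ∀ x ∈ f ⁻¹ᵁ V, ∃ i, x ∈ T i)
  (U : K → X.Opens) (hU : ∀ k, IsAffineOpen (U k)) (α β : K → I)
  (hUα : ∀ k, U k ≤ T (α k)) (hUβ : ∀ k, U k ≤ T (β k))
  (hcovU : ∀ i j x, x ∈ T i → x ∈ T j → ∃ k, α k = i ∧ β k = j ∧ x ∈ U k)

set_option maxHeartbeats 1000000 in
include hV hV' hle hT hTW hcovT hU hUα hUβ hcovU in
theorem uMap_app_bijective_core :
    Function.Bijective ((uMap f g g' f' h.w F).app V') := by
  have hleW := preimage_le f g g' f' h.w hle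
  haveI : ((pushforward f).obj F).IsQuasicoherent := isQuasicoherent_pushforward f F
  letI algAA' : Algebra Γ(S, V) Γ(S', V') := (g.appLE V V' hle).hom.toAlgebra
  haveI flatAA' : Module.Flat Γ(S, V) Γ(S', V') := g.flat_appLE hV hV' hle
  obtain ⟨Θ₀, hΘ₀⟩ := exists_tensorEquiv_base (g := g) ((pushforward f).obj F) hV hV' hle
  letI modN : Module Γ(S, V) Γ(F, f ⁻¹ᵁ V) :=
    inferInstanceAs (Module Γ(S, V) Γ((pushforward f).obj F, V))
  letI modT : ∀ i : I, Module Γ(S, V) Γ(F, T i) := fun i => modOver F (hTW i)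
  have hUV : ∀ k, U k ≤ f ⁻¹ᵁ V := fun k => (hUα k).trans (hTW _)
  letI modU : ∀ k : K, Module Γ(S, V) Γ(F, U k) := fun k => modOver F (hUV k)
  choose ΘT hΘT using fun i => exists_tensorEquiv h F hV hV' hle (hT i) (hTW i)
  choose ΘU hΘU using fun k => exists_tensorEquiv h F hV hV' hle (hU k) (hUV k)
  let r : ∀ i : I, Γ(F, f ⁻¹ᵁ V) →ₗ[Γ(S, V)] Γ(F, T i) := fun i =>
    { toFun := fun m => F.presheaf.map (homOfLE (hTW i)).op m
      map_add' := fun m n => _root_.map_add _ m n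
      map_smul' := fun a m => by
        show F.presheaf.map (homOfLE (hTW i)).op ((f.app V a) • m) =
          (f.appLE V (T i) (hTW i) a) • F.presheaf.map (homOfLE (hTW i)).op m
        rw [res_smul]
        rfl }
  let p : ∀ k : K, Γ(F, T (α k)) →ₗ[Γ(S, V)] Γ(F, U k) := fun k =>
    { toFun := fun m => F.presheaf.map (homOfLE (hUα k)).op m
      map_add' := fun m n => _root_.map_add _ m n
      map_smul' := fun a m => by
        show F.presheaf.map (homOfLE (hUα k)).op ((f.appLE V (T (α k)) (hTW _) a) • m) =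
          (f.appLE V (U k) (hUV k) a) • F.presheaf.map (homOfLE (hUα k)).op m
        rw [res_smul]
        congr 1
        exact congrArg (fun t => t.hom a) (Scheme.Hom.appLE_map f (hTW _) (homOfLE (hUα k)).op) }
  let q : ∀ k : K, Γ(F, T (β k)) →ₗ[Γ(S, V)] Γ(F, U k) := fun k =>
    { toFun := fun m => F.presheaf.map (homOfLE (hUβ k)).op m
      map_add' := fun m n => _root_.map_add _ m n
      map_smul' := fun a m => by
        show F.presheaf.map (homOfLE (hUβ k)).op ((f.appLE V (T (β k)) (hTW _) a) • m) =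
          (f.appLE V (U k) (hUV k) a) • F.presheaf.map (homOfLE (hUβ k)).op m
        rw [res_smul]
        congr 1
        exact congrArg (fun t => t.hom a) (Scheme.Hom.appLE_map f (hTW _) (homOfLE (hUβ k)).op) }
  have hinj : ∀ n : Γ(F, f ⁻¹ᵁ V), (∀ i, r i n = 0) → n = 0 := by
    intro n hn
    refine section_eq_of_cover F n 0 (fun x hx => ?_)
    obtain ⟨i, hi⟩ := hcovT x hx
    refine ⟨T i, hTW i, hi, ?_⟩
    rw [map_zero]
    exact hn i
  have hcomp : ∀ (n : Γ(F, f ⁻¹ᵁ V)) (k : K), p k (r (α k) n) = q k (r (β k) n) := by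
    intro n k
    show F.presheaf.map _ (F.presheaf.map _ n) = F.presheaf.map _ (F.presheaf.map _ n)
    rw [res_res, res_res]
  have hglue : ∀ x : ∀ i, Γ(F, T i), (∀ k, p k (x (α k)) = q k (x (β k))) →
      ∃ n : Γ(F, f ⁻¹ᵁ V), ∀ i, r i n = x i := by
    intro x hx
    have hcompat : TopCat.Presheaf.IsCompatible F.presheaf T x := by
      intro i j
      refine section_eq_of_cover F _ _ (fun z hz => ?_)
      obtain ⟨k, hk1, hk2, hzk⟩ := hcovU i j z hz.1 hz.2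
      subst hk1 hk2
      refine ⟨U k, le_inf (hUα k) (hUβ k), hzk, ?_⟩
      have e1 := res_res F (le_inf (hUα k) (hUβ k)) (inf_le_left : T (α k) ⊓ T (β k) ≤ T (α k))
        (x (α k))
      have e2 := res_res F (le_inf (hUα k) (hUβ k)) (inf_le_right : T (α k) ⊓ T (β k) ≤ T (β k))
        (x (β k))
      exact e1.trans ((hx k).trans e2.symm)
    have hcov' : f ⁻¹ᵁ V ≤ iSup T := fun z hz => by
      obtain ⟨i, hi⟩ := hcovT z hz
      exact Opens.mem_iSup.mpr ⟨i, hi⟩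
    obtain ⟨n, hn, -⟩ := TopCat.Sheaf.existsUnique_gluing' ⟨F.presheaf, F.isSheaf⟩ T (f ⁻¹ᵁ V)
      (fun i => homOfLE (hTW i)) hcov' x hcompat
    exact ⟨n, hn⟩
  let uHom : Γ((pullback g).obj ((pushforward f).obj F), V') →+
      Γ((pullback g').obj F, f' ⁻¹ᵁ V') :=
    AddMonoidHom.mk' (fun x => (uMap f g g' f' h.w F).app V' x)
      (fun a b => _root_.map_add (ConcreteCategory.hom ((uMap f g g' f' h.w F).app V')) a b)
  let φ : TensorProduct Γ(S, V) Γ(S', V') Γ(F, f ⁻¹ᵁ V) →+ Γ((pullback g').obj F, f' ⁻¹ᵁ V') :=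
    uHom.comp Θ₀.toAddMonoidHom
  have hφ : ∀ (a : Γ(S', V')) (m : Γ(F, f ⁻¹ᵁ V)), φ (a ⊗ₜ m) =
      (f'.appLE V' (f' ⁻¹ᵁ V') le_rfl a) • pullSectLE g' F (f ⁻¹ᵁ V) (f' ⁻¹ᵁ V') hleW m := by
    intro a m
    have e1 := hΘ₀ a m
    show (uMap f g g' f' h.w F).app V' (Θ₀ (a ⊗ₜ m)) = _
    refine (congrArg (fun t => (uMap f g g' f' h.w F).app V' t) e1).trans ?_
    show (uMap f g g' f' h.w F).app V' (a • pullSectLE g ((pushforward f).obj F) V V' hle m) = _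
    rw [Scheme.Modules.Hom.app_smul]
    refine (congrArg (fun t => a • t) (uMap_pullSectLE f g g' f' h.w F V V' hle m)).trans ?_
    refine (pushforward_smul f' _ V' a _).trans ?_
    rw [Scheme.Hom.app_eq_appLE]
  have hT'le : ∀ i, g' ⁻¹ᵁ T i ⊓ f' ⁻¹ᵁ V' ≤ f' ⁻¹ᵁ V' := fun i => inf_le_right
  have star2 : ∀ (i : I) (y : TensorProduct Γ(S, V) Γ(S', V') Γ(F, f ⁻¹ᵁ V)),
      ((pullback g').obj F).presheaf.map (homOfLE (hT'le i)).op (φ y) =
        ΘT i ((r i).lTensor Γ(S', V') y) :=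
    fun i y => res_tensorMap F (hTW i) (hT'le i) hleW inf_le_left le_rfl inf_le_right (r i)
      (fun m => rfl) φ hφ (ΘT i).toAddMonoidHom (hΘT i) y
  have hU'α : ∀ k, g' ⁻¹ᵁ U k ⊓ f' ⁻¹ᵁ V' ≤ g' ⁻¹ᵁ T (α k) ⊓ f' ⁻¹ᵁ V' :=
    fun k x hx => ⟨hUα k hx.1, hx.2⟩
  have hU'β : ∀ k, g' ⁻¹ᵁ U k ⊓ f' ⁻¹ᵁ V' ≤ g' ⁻¹ᵁ T (β k) ⊓ f' ⁻¹ᵁ V' :=
    fun k x hx => ⟨hUβ k hx.1, hx.2⟩
  have star3α : ∀ (k : K) (y : TensorProduct Γ(S, V) Γ(S', V') Γ(F, T (α k))),
      ((pullback g').obj F).presheaf.map (homOfLE (hU'α k)).op (ΘT (α k) y) =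
        ΘU k ((p k).lTensor Γ(S', V') y) :=
    fun k y => res_tensorMap F (hUα k) (hU'α k) inf_le_left inf_le_left inf_le_right inf_le_right
      (p k) (fun m => rfl) (ΘT (α k)).toAddMonoidHom (hΘT (α k)) (ΘU k).toAddMonoidHom (hΘU k) y
  have star3β : ∀ (k : K) (y : TensorProduct Γ(S, V) Γ(S', V') Γ(F, T (β k))),
      ((pullback g').obj F).presheaf.map (homOfLE (hU'β k)).op (ΘT (β k) y) =
        ΘU k ((q k).lTensor Γ(S', V') y) :=
    fun k y => res_tensorMap F (hUβ k) (hU'β k) inf_le_left inf_le_left inf_le_right inf_le_right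
      (q k) (fun m => rfl) (ΘT (β k)).toAddMonoidHom (hΘT (β k)) (ΘU k).toAddMonoidHom (hΘU k) y
  have hφbij : Function.Bijective φ := by
    constructor
    · rw [injective_iff_map_eq_zero]
      intro y hy
      refine lTensor_jointly_injective r hinj y (fun i => ?_)
      apply (ΘT i).injective
      rw [map_zero, ← star2 i y, hy, map_zero]
    · intro s
      let y : ∀ i, TensorProduct Γ(S, V) Γ(S', V') Γ(F, T i) := fun i =>
        (ΘT i).symm (((pullback g').obj F).presheaf.map (homOfLE (hT'le i)).op s)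
      have hy : ∀ k, (p k).lTensor Γ(S', V') (y (α k)) = (q k).lTensor Γ(S', V') (y (β k)) := by
        intro k
        apply (ΘU k).injective
        rw [← star3α k, ← star3β k]
        simp only [y, AddEquiv.apply_symm_apply]
        rw [res_res, res_res]
      obtain ⟨t, ht⟩ := lTensor_glue r α β p q hcomp hglue y hy
      refine ⟨t, ?_⟩
      refine section_eq_of_cover _ _ _ (fun x hx => ?_)
      obtain ⟨i, hi⟩ := hcovT (g' x) (hleW hx)
      refine ⟨g' ⁻¹ᵁ T i ⊓ f' ⁻¹ᵁ V', hT'le i, ⟨hi, hx⟩, ?_⟩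
      rw [star2 i t, ht i]
      exact (ΘT i).apply_symm_apply _
  have hfun : ⇑(ConcreteCategory.hom ((uMap f g g' f' h.w F).app V')) = φ ∘ Θ₀.symm := by
    funext x
    show _ = (uMap f g g' f' h.w F).app V' (Θ₀ (Θ₀.symm x))
    rw [AddEquiv.apply_symm_apply]
  rw [hfun]
  exact hφbij.comp Θ₀.symm.bijective

end Core

section Main

variable (h : IsPullback g' f' f g) (F : X.Modules) [F.IsQuasicoherent]
  [QuasiCompact f] [QuasiSeparated f] [Flat g]
  {V : S.Opens} (hV : IsAffineOpen V) {V' : S'.Opens} (hV' : IsAffineOpen V')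
  (hle : V' ≤ g ⁻¹ᵁ V)

set_option maxHeartbeats 1000000 in
include hV hV' hle in
theorem uMap_app_bijective_of_flat :
    Function.Bijective ((uMap f g g' f' h.w F).app V') := by
  classical
  have hleW := preimage_le f g g' f' h.w hle
  haveI : ((pushforward f).obj F).IsQuasicoherent := isQuasicoherent_pushforward f F
  letI algAA' : Algebra Γ(S, V) Γ(S', V') := (g.appLE V V' hle).hom.toAlgebra
  haveI flatAA' : Module.Flat Γ(S, V) Γ(S', V') := g.flat_appLE hV hV' hle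
  obtain ⟨Θ₀, hΘ₀⟩ := exists_tensorEquiv_base (g := g) ((pushforward f).obj F) hV hV' hle
  letI modN : Module Γ(S, V) Γ(F, f ⁻¹ᵁ V) :=
    inferInstanceAs (Module Γ(S, V) Γ((pushforward f).obj F, V))
  -- the finite affine cover of `W = f⁻¹ V`
  have hWc : IsCompact ((f ⁻¹ᵁ V : X.Opens) : Set X) :=
    QuasiCompact.isCompact_preimage (f := f) _ V.2 hV.isCompact
  have hWqs : IsQuasiSeparated ((f ⁻¹ᵁ V : X.Opens) : Set X) :=
    f.isQuasiSeparated_preimage hV.isQuasiSeparated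
  obtain ⟨Sa, hSafin, hSa⟩ :=
    (isCompact_and_isOpen_iff_finite_and_eq_biUnion_affineOpens
      (U := ((f ⁻¹ᵁ V : X.Opens) : Set X))).mp ⟨hWc, (f ⁻¹ᵁ V).2⟩
  have hTle : ∀ T ∈ Sa, (T : X.Opens) ≤ f ⁻¹ᵁ V := fun T hT x hx => by
    change x ∈ ((f ⁻¹ᵁ V : X.Opens) : Set X)
    rw [hSa]
    exact Set.mem_biUnion hT hx
  haveI := hSafin.to_subtype
  cases nonempty_fintype Sa
  have hTTc : ∀ T₁ T₂ : Sa, IsCompact ((((T₁.1 : X.Opens) ⊓ (T₂.1 : X.Opens) : X.Opens)) : Set X) :=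
    fun T₁ T₂ => hWqs _ _ (hTle T₁.1 T₁.2) T₁.1.1.2 T₁.1.2.isCompact (hTle T₂.1 T₂.2) T₂.1.1.2
      T₂.1.2.isCompact
  have hSb : ∀ p : Sa × Sa, ∃ s : Set X.affineOpens, s.Finite ∧
      ((((p.1.1 : X.Opens) ⊓ (p.2.1 : X.Opens) : X.Opens)) : Set X) = ⋃ i ∈ s, ((i : X.Opens) : Set X) :=
    fun p => (isCompact_and_isOpen_iff_finite_and_eq_biUnion_affineOpens).mp
      ⟨hTTc p.1 p.2, ((p.1.1 : X.Opens) ⊓ (p.2.1 : X.Opens)).2⟩
  choose Sb hSbfin hSbeq using hSb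
  haveI : ∀ p : Sa × Sa, Finite (Sb p) := fun p => (hSbfin p).to_subtype
  haveI : Finite (Σ p : Sa × Sa, Sb p) := inferInstance
  cases nonempty_fintype (Σ p : Sa × Sa, Sb p)
  have hUle : ∀ k : (Σ p : Sa × Sa, Sb p), (k.2.1 : X.Opens) ≤
      (k.1.1.1 : X.Opens) ⊓ (k.1.2.1 : X.Opens) := fun k x hx => by
    change x ∈ ((((k.1.1.1 : X.Opens) ⊓ (k.1.2.1 : X.Opens) : X.Opens)) : Set X)
    rw [hSbeq k.1]
    exact Set.mem_biUnion k.2.2 hx
  refine uMap_app_bijective_core h F hV hV' hle (I := Sa) (K := Σ p : Sa × Sa, Sb p)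
    (fun i => (i.1 : X.Opens)) (fun i => i.1.2) (fun i => hTle i.1 i.2) ?_
    (fun k => (k.2.1 : X.Opens)) (fun k => k.2.1.2) (fun k => k.1.1) (fun k => k.1.2)
    (fun k => (hUle k).trans inf_le_left) (fun k => (hUle k).trans inf_le_right) ?_
  · intro x hx
    have hx' : x ∈ ((f ⁻¹ᵁ V : X.Opens) : Set X) := hx
    rw [hSa] at hx'
    obtain ⟨T, hT, hxT⟩ : ∃ T ∈ Sa, x ∈ (T : X.Opens) := by simpa using hx'
    exact ⟨⟨T, hT⟩, hxT⟩
  · intro i j x hxi hxj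
    have hx' : x ∈ ((((i.1 : X.Opens) ⊓ (j.1 : X.Opens) : X.Opens)) : Set X) := ⟨hxi, hxj⟩
    rw [hSbeq (i, j)] at hx'
    obtain ⟨W, hW, hxW⟩ : ∃ W ∈ Sb (i, j), x ∈ (W : X.Opens) := by simpa using hx'
    exact ⟨⟨(i, j), ⟨W, hW⟩⟩, rfl, rfl, hxW⟩

theorem isIso_uMap_of_flat :
    IsIso (uMap f g g' f' h.w F) := by
  haveI : QuasiCompact f' := MorphismProperty.of_isPullback h inferInstance
  haveI : QuasiSeparated f' := MorphismProperty.of_isPullback h inferInstance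
  haveI : ((pushforward f).obj F).IsQuasicoherent := isQuasicoherent_pushforward f F
  haveI : ((pullback g).obj ((pushforward f).obj F)).IsQuasicoherent :=
    isQuasicoherent_pullback g _
  haveI : ((pullback g').obj F).IsQuasicoherent := isQuasicoherent_pullback g' F
  haveI : ((pushforward f').obj ((pullback g').obj F)).IsQuasicoherent :=
    isQuasicoherent_pushforward f' _
  let ι := {V' : S'.affineOpens // ∃ V : S.affineOpens, (V' : S'.Opens) ≤ g ⁻¹ᵁ (V : S.Opens)}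
  have hcov : IsOpenCover (fun i : ι => ((i.1 : S'.affineOpens) : S'.Opens)) := by
    apply le_antisymm le_top
    intro x' _
    obtain ⟨U, hU, hxU, -⟩ := exists_isAffineOpen_mem_and_subset (x := g x')
      (U := (⊤ : S.Opens)) trivial
    obtain ⟨U', hU', hxU', hU'le⟩ := exists_isAffineOpen_mem_and_subset (x := x')
      (U := g ⁻¹ᵁ U) hxU
    exact Opens.mem_iSup.mpr ⟨⟨⟨U', hU'⟩, ⟨⟨U, hU⟩, hU'le⟩⟩, hxU'⟩
  refine isIso_of_bijective_affine_cover (uMap f g g' f' h.w F)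
    (fun i : ι => ((i.1 : S'.affineOpens) : S'.Opens)) hcov (fun i => i.1.2) (fun i => ?_)
  obtain ⟨V, hle⟩ := i.2
  exact uMap_app_bijective_of_flat h F V.2 i.1.2 hle

end Main

/-- The base change map in "unit–identification–counit" form equals `uMap`. -/
theorem baseChange_eq_uMap (hw : g' ≫ f = f' ≫ g) (F : X.Modules) :
    (pullback g).map ((pushforward f).map ((pullbackPushforwardAdjunction g').unit.app F)) ≫
      (pullback g).map ((pushforwardComp g' f ≪≫ pushforwardCongr hw ≪≫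
        (pushforwardComp f' g).symm).hom.app ((pullback g').obj F)) ≫
      (pullbackPushforwardAdjunction g).counit.app
        ((pushforward f').obj ((pullback g').obj F)) = uMap f g g' f' hw F := by
  unfold uMap vMap
  rw [Adjunction.homEquiv_counit]
  simp only [Functor.map_comp, Category.assoc, Iso.trans_hom, NatTrans.comp_app, Iso.symm_hom]

end

end Groth.Agent.H8.FlatBC
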