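import Mathlib
import Groth.Agent.H8.DevAR
import Groth.Agent.S0046
set_option autoImplicit false
set_option linter.style.haveILetI false
universe u
open CategoryTheory CategoryTheory.Limits AlgebraicGeometry TopologicalSpace Opposite
open scoped ZeroObject

namespace Groth.Agent.H8.Dev
open AlgebraicGeometry.Scheme.Modules Groth.Agent.H17.StalkSeq
open Groth.Agent.H31.Dev_B Groth.Agent.H36.IdealMul Groth.Agent.H36.DeligneLift
variable {X : Scheme.{u}}

theorem not_mem_support_pow (I : X.IdealSheafData) (n : ℕ) (y : X) (hy : y ∉ (I.support : Set X)) :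
    y ∉ ((I ^ n).support : Set X) := by
  rcases n with _ | n
  · rw [pow_zero]
    simp
  · rw [Scheme.IdealSheafData.support_pow_succ]
    exact hy

/-- `(I * J) · M ⊆ I · (J · M)`. -/
theorem idealMul_mul_lift (I J : X.IdealSheafData) (M : X.Modules) [M.IsQuasicoherent] :
    ∃ ℓ : (Dual3.idealMul (I * J)).obj M ⟶ (Dual3.idealMul I).obj ((Dual3.idealMul J).obj M),
      ℓ ≫ (Dual3.idealMulι I ((Dual3.idealMul J).obj M) ≫ Dual3.idealMulι J M) =
        Dual3.idealMulι (I * J) M := by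
  haveI : ((Dual3.idealMul J).obj M).IsQuasicoherent := isQuasicoherent_idealMul J M
  haveI : ((Dual3.idealMul (I * J)).obj M).IsQuasicoherent := isQuasicoherent_idealMul _ M
  refine exists_lift_of_sections (Dual3.idealMulι (I * J) M)
    (Dual3.idealMulι I ((Dual3.idealMul J).obj M) ≫ Dual3.idealMulι J M) Set.univ
    (fun x => exists_affine_mem X x) ?_
  intro W _ t
  have h1 := idealMulι_app_mem (I * J) M W t
  -- (I*J)(W) • ⊤ = I(W) • (J(W) • ⊤) = I(W) • range L = map L (I(W) • ⊤)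
  let L := Groth.Agent.H8.appₗ (Dual3.idealMulι J M) W.1
  have hrange : (J.ideal W) • (⊤ : Submodule Γ(X, W.1) Γ(M, W.1)) ≤ LinearMap.range L := by
    intro s hs
    obtain ⟨t', ht'⟩ := (exists_idealMulι_app_eq_iff J M W s).mpr hs
    exact ⟨t', ht'⟩
  have h2 : Scheme.Modules.Hom.app (Dual3.idealMulι (I * J) M) W.1 t ∈
      Submodule.map L ((I.ideal W) • (⊤ : Submodule Γ(X, W.1) Γ((Dual3.idealMul J).obj M, W.1))) := by
    rw [Submodule.map_smul'', Submodule.map_top]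
    have h3 : ((I * J).ideal W) • (⊤ : Submodule Γ(X, W.1) Γ(M, W.1)) ≤
        (I.ideal W) • LinearMap.range L := by
      show ((I.ideal W) * (J.ideal W)) • (⊤ : Submodule Γ(X, W.1) Γ(M, W.1)) ≤ _
      rw [Submodule.mul_smul]
      exact Submodule.smul_mono le_rfl hrange
    exact h3 h1
  obtain ⟨x, hx, hLx⟩ := h2
  obtain ⟨t', ht'⟩ := (exists_idealMulι_app_eq_iff I ((Dual3.idealMul J).obj M) W x).mpr hx
  refine ⟨t', ?_⟩
  show Scheme.Modules.Hom.app (Dual3.idealMulι J M) W.1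
    (Scheme.Modules.Hom.app (Dual3.idealMulι I ((Dual3.idealMul J).obj M)) W.1 t') = _
  rw [ht']
  exact hLx

/-- functoriality of `pw`. -/
noncomputable def pwMap {A B : X.Modules} (f : A ⟶ B) : ∀ n : ℕ, pw A n ⟶ pw B n
  | 0 => 0
  | (n + 1) => biprod.map f (pwMap f n)

theorem pwMap_mono {A B : X.Modules} (f : A ⟶ B) [Mono f] : ∀ n : ℕ, Mono (pwMap f n)
  | 0 => ⟨fun g h _ => (isZero_zero X.Modules).eq_of_tgt g h⟩
  | (n + 1) => by
    haveI := pwMap_mono f n
    exact inferInstanceAs (Mono (biprod.map f (pwMap f n)))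


theorem enat_eq_zero_of_add {a c : ℕ∞} (ha : a ≠ ⊤) (h : a = a + c) : c = 0 := by
  obtain ⟨k, rfl⟩ := ENat.ne_top_iff_exists.mp ha
  cases c with
  | top => simp at h
  | coe j =>
    have : k = k + j := by exact_mod_cast h
    have : j = 0 := by omega
    simp [this]

/-- The generic step of the extension-only devissage (Stacks 01YL / EGA III 3.1.3). -/
theorem step_G [IsNoetherian X] (K' : ObjectProperty X.Modules) [K'.IsClosedUnderIsomorphisms]
    (hext : ∀ S : ShortComplex X.Modules, S.ShortExact → Coh.IsCoh S.X₁ → Coh.IsCoh S.X₂ →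
      Coh.IsCoh S.X₃ → K' S.X₁ → K' S.X₃ → K' S.X₂)
    (h0 : ∀ M : X.Modules, IsZero M → K' M)
    (hsum : ∀ (F : X.Modules) (r : ℕ), Coh.IsCoh F → 1 ≤ r → K' (pw F r) → K' F)
    (T : Set X) (hT : IsClosed T) (y : X) (hy : closure {y} = T)
    (G : X.Modules) (hG : Coh.IsCoh G) (hGy : ¬ Subsingleton ↑(G.presheaf.stalk y))
    (hGk : ∀ a ∈ IsLocalRing.maximalIdeal (X.presheaf.stalk y),
      ∀ t : ↑(G.presheaf.stalk y), a • t = 0)
    (hG4 : ∀ J : X.IdealSheafData, y ∉ (J.support : Set X) →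
      ∃ (G' : X.Modules) (ι' : G' ⟶ (Dual3.idealMul J).obj G), Mono ι' ∧ Coh.IsQCoh G' ∧
        Function.Bijective (Groth.Agent.H8.stalkMap (ι' ≫ Dual3.idealMulι J G) y) ∧ K' G')
    (small : ∀ N : X.Modules, Coh.IsCoh N → CohB1.support N ⊆ T →
      Subsingleton ↑(N.presheaf.stalk y) → K' N)
    (M : X.Modules) (hM : Coh.IsCoh M)
    (hMk : ClSub.KilledByIdeal (Scheme.IdealSheafData.vanishingIdeal ⟨T, hT⟩) M)
    (hMT : CohB1.support M ⊆ T) : K' M := by
  haveI := Groth.Agent.H8.finite_stalk_of_isCoh _ hM y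
  have hfinM : Module.length (X.presheaf.stalk y) ↑(M.presheaf.stalk y) ≠ ⊤ :=
    R1b _ _ (Groth.Agent.H60.Dev.S1 T hT y hy M hMk)
  obtain ⟨m, hm⟩ := ENat.ne_top_iff_exists.mp hfinM
  haveI := Groth.Agent.H8.finite_stalk_of_isCoh _ hG y
  have hfinG : Module.length (X.presheaf.stalk y) ↑(G.presheaf.stalk y) ≠ ⊤ := R1b _ _ hGk
  obtain ⟨q, hq⟩ := ENat.ne_top_iff_exists.mp hfinG
  have hq1 : 1 ≤ q := by
    by_contra h
    have hq0 : q = 0 := by omega
    rw [hq0] at hq
    exact hGy (Module.length_eq_zero_iff.mp hq.symm)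
  have cGm := isCoh_pw hG m
  have cMq := isCoh_pw hM q
  haveI := Groth.Agent.H8.finite_stalk_of_isCoh _ cGm y
  haveI := Groth.Agent.H8.finite_stalk_of_isCoh _ cMq y
  obtain ⟨ψ⟩ := Groth.Agent.H60.Dev.R1 (X.presheaf.stalk y) ↑((pw G m).presheaf.stalk y)
    ↑((pw M q).presheaf.stalk y)
    (stalk_killed_pw y hGk m)
    (Groth.Agent.H60.Dev.S1 T hT y hy _ (killed_pw _ hMk q))
    (by rw [length_pw, length_pw, ← hq, ← hm, mul_comm])
  obtain ⟨Γ', p1, p2, hΓ, -, hb1, hb2⟩ := CL (pw G m) (pw M q) cGm cMq y ψ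
  haveI : (pw G m).IsQuasicoherent := cGm.1
  obtain ⟨I, n, β, hyI, hβ, hβb⟩ := DL hΓ cGm p1 y hb1
  have cIN := isCoh_idealMul (I ^ n) (pw G m) cGm
  let f := β ≫ p2
  have hfb : Function.Bijective (Groth.Agent.H8.stalkMap f y) := by
    have h2 : (Groth.Agent.H8.stalkMap f y : _ → _) =
        (Groth.Agent.H8.stalkMap p2 y) ∘ (Groth.Agent.H8.stalkMap β y) :=
      funext (stalkMap_comp β p2 y)
    rw [h2]
    exact hb2.comp hβb
  have sf := (Groth.Agent.H8.stalkMap_bijective_iff f y).mp hfb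
  obtain ⟨J₂, n₂, hyJ₂, hAR⟩ := AR cIN cMq f y sf.1
  have hyJ : y ∉ (((J₂ ^ n₂) * (I ^ n) : X.IdealSheafData).support : Set X) := by
    rw [Scheme.IdealSheafData.support_mul]
    rintro (h | h)
    · exact not_mem_support_pow J₂ n₂ y hyJ₂ h
    · exact not_mem_support_pow I n y hyI h
  obtain ⟨G', ι', hι'mono, hG'q, hG'b, hG'K⟩ := hG4 _ hyJ
  haveI := hι'mono
  have cJG := isCoh_idealMul ((J₂ ^ n₂) * (I ^ n)) G hG
  have cG' : Coh.IsCoh G' := Groth.Agent.S0046.result X _ G' ι' cJG hG'q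
  obtain ⟨ℓ, hℓ⟩ := idealMul_mul_lift (J₂ ^ n₂) (I ^ n) (pw G m)
  haveI : Mono ℓ := mono_of_mono_fac hℓ
  haveI := pwMap_mono ι' m
  haveI := hAR
  let Φ : pw G' m ⟶ pw M q :=
    pwMap ι' m ≫ (mapPw (Dual3.idealMul ((J₂ ^ n₂) * (I ^ n))) G m).inv ≫ ℓ ≫
      (Dual3.idealMulι (J₂ ^ n₂) ((Dual3.idealMul (I ^ n)).obj (pw G m)) ≫ f)
  haveI : Mono Φ := mono_comp _ _
  have cA := isCoh_pw cG' m
  have cC := Groth.Agent.H8.isCoh_cokernel cA cMq Φ
  -- lengths
  have hlenG' : Module.length (X.presheaf.stalk y) ↑(G'.presheaf.stalk y) = q := by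
    rw [hq]
    exact (LinearEquiv.ofBijective (stalkMapₗ (ι' ≫ Dual3.idealMulι _ G) y) hG'b).length_eq
  let S : ShortComplex X.Modules := ShortComplex.mk Φ (cokernel.π Φ) (cokernel.condition _)
  have hS : S.ShortExact :=
    { exact := S.exact_of_g_is_cokernel (cokernelIsCokernel _)
      mono_f := inferInstanceAs (Mono Φ)
      epi_g := inferInstanceAs (Epi (cokernel.π Φ)) }
  have hlen := length_stalk_ses S hS y
  have hA : Module.length (X.presheaf.stalk y) ↑((pw G' m).presheaf.stalk y) = (m : ℕ∞) * q := by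
    rw [length_pw, hlenG']
  have hB : Module.length (X.presheaf.stalk y) ↑((pw M q).presheaf.stalk y) = (m : ℕ∞) * q := by
    rw [length_pw, ← hm, mul_comm]
  have hC0 : Module.length (X.presheaf.stalk y) ↑((cokernel Φ).presheaf.stalk y) = 0 := by
    change Module.length (X.presheaf.stalk y) ↑((pw M q).presheaf.stalk y) =
      Module.length (X.presheaf.stalk y) ↑((pw G' m).presheaf.stalk y) +
      Module.length (X.presheaf.stalk y) ↑((cokernel Φ).presheaf.stalk y) at hlen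
    rw [hA, hB] at hlen
    refine enat_eq_zero_of_add ?_ hlen
    exact_mod_cast ENat.natCast_ne_top (m * q)
  have hCs : Subsingleton ↑((cokernel Φ).presheaf.stalk y) := Module.length_eq_zero_iff.mp hC0
  have hKC : K' (cokernel Φ) := small _ cC
    ((supp_epi (cokernel.π Φ)).trans ((supp_pw M q).trans hMT)) hCs
  have hKA : K' (pw G' m) := K_pw₃ K' h0 hext cG' hG'K m
  have hKB : K' (pw M q) := hext S hS cA cMq cC hKA hKC
  exact hsum M q hM hq1 hKB

end Groth.Agent.H8.Dev
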