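import Groth.Agent.H31.PushColim
import Groth.Agent.H31.StalkExact
import Groth.Agent.H31.PullTensor
import Groth.Agent.H8.QCohQcqs

/-!
# The direct image along a closed embedding preserves colimits and is a left adjoint

`preservesColimit_of_jointly_reflecting` (colimit preservation detected by a jointly conservative
family of colimit-preserving functors), `T X x` (the stalk functor to abelian groups), `spIso`
(stalks of a direct image along an inducing map), `isZero_T_pushforward`,
`preservesColimitsOfSize_pushforward`, `isLeftAdjoint_pushforward`.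
-/

set_option autoImplicit false
set_option linter.style.haveILetI false
set_option backward.isDefEq.respectTransparency false
universe u v₁ v₂ v₃ u₁ u₂ u₃ w w'
open CategoryTheory CategoryTheory.Limits Opposite

namespace Groth.Agent.H8.ClosedPush

section General

variable {A : Type u₁} [Category.{v₁} A] {B : Type u₂} [Category.{v₂} B]
  {K : Type w} [Category.{w'} K]

/-- If a family of functors `T x` jointly reflects isomorphisms, each `T x` preserves the colimit
of `G ⋙ F` and each `F ⋙ T x` preserves the colimit of `G`, then `F` preserves the colimit of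
`G`. -/
theorem preservesColimit_of_jointly_reflecting (G : K ⥤ A) (F : A ⥤ B) [HasColimit G]
    [HasColimit (G ⋙ F)] {ι : Type*} {C : ι → Type u₃} [∀ x, Category.{v₃} (C x)]
    (T : ∀ x, B ⥤ C x)
    (hT : ∀ {b b' : B} (φ : b ⟶ b'), (∀ x, IsIso ((T x).map φ)) → IsIso φ)
    (h₁ : ∀ x, PreservesColimit (G ⋙ F) (T x)) (h₂ : ∀ x, PreservesColimit G (F ⋙ T x)) :
    PreservesColimit G F := by
  haveI : IsIso (colimit.post G F) := hT _ (fun x => by
    haveI : HasColimit ((G ⋙ F) ⋙ T x) :=
      ⟨⟨⟨_, isColimitOfPreserves (T x) (colimit.isColimit (G ⋙ F))⟩⟩⟩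
    have h := colimit.post_post G F (T x)
    haveI : HasColimit (G ⋙ F ⋙ T x) := ‹HasColimit ((G ⋙ F) ⋙ T x)›
    haveI : IsIso (colimit.post (G ⋙ F) (T x)) := inferInstance
    haveI : IsIso (colimit.post G (F ⋙ T x)) := inferInstance
    exact IsIso.of_isIso_fac_left h)
  exact preservesColimit_of_isIso_post F G

/-- A functor all of whose values are zero objects preserves all colimits. -/
theorem preservesColimit_of_isZero {C : Type u₃} [Category.{v₃} C] (G : K ⥤ A) (Φ : A ⥤ C)
    (h : ∀ a, IsZero (Φ.obj a)) : PreservesColimit G Φ :=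
  ⟨fun {c} _ => ⟨{ desc := fun s => (h c.pt).to_ s.pt
                   fac := fun _ j => (h (G.obj j)).eq_of_src _ _
                   uniq := fun _ _ _ => (h c.pt).eq_of_src _ _ }⟩⟩

end General

section Sch

open AlgebraicGeometry TopologicalSpace
open Groth.Agent.H31 Groth.Agent.H31.Stalk Groth.Agent.H40.StalkTensor
  Groth.Agent.H40.FlatBridge2

/-- The stalk functor to abelian groups. -/
noncomputable abbrev T (X : Scheme.{u}) (x : X) : X.Modules ⥤ AddCommGrpCat.{u} :=
  stk (shX X) x ⋙ forget₂ (ModuleCat.{u} (Rx (shX X).obj x)) AddCommGrpCat.{u}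

theorem isIso_of_T {X : Scheme.{u}} {A B : X.Modules} (g : A ⟶ B)
    (h : ∀ x : X, IsIso ((T X x).map g)) : IsIso g :=
  PullTensor.isIso_of_stk (shX X) g (fun x => by
    haveI : IsIso ((forget₂ (ModuleCat.{u} (Rx (shX X).obj x)) AddCommGrpCat.{u}).map
      ((stk (shX X) x).map g)) := h x
    exact isIso_of_reflects_iso ((stk (shX X) x).map g) (forget₂ _ AddCommGrpCat))

instance (X : Scheme.{u}) (x : X) : PreservesColimitsOfSize.{u, u} (T X x) := by
  have h1 : PreservesColimitsOfSize.{u, u} (stk (shX X) x) := inferInstance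
  have h2 : PreservesColimitsOfSize.{u, u}
    (forget₂ (ModuleCat.{u} (Rx (shX X).obj x)) AddCommGrpCat.{u}) := inferInstance
  exact comp_preservesColimits (stk (shX X) x) _

variable {Z X : Scheme.{u}} (i : Z ⟶ X)

/-- The comparison of stalks. -/
noncomputable def sp (M : Z.Modules) (z : Z) :
    (T X (i z)).obj ((Scheme.Modules.pushforward i).obj M) ⟶ (T Z z).obj M :=
  TopCat.Presheaf.stalkPushforward AddCommGrpCat i.base M.presheaf z

lemma sp_gm (M : Z.Modules) (z : Z) (U : X.Opens) (hU : i z ∈ U)
    (n : ((toPM (shX Z)).obj M).obj (op (i ⁻¹ᵁ U))) :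
    (sp i M z) (gm ((toPM (shX X)).obj ((Scheme.Modules.pushforward i).obj M)) (i z) U hU n) =
      gm ((toPM (shX Z)).obj M) z (i ⁻¹ᵁ U) hU n :=
  TopCat.Presheaf.stalkPushforward_germ_apply AddCommGrpCat i.base M.presheaf U z hU n

lemma T_map_gm {X : Scheme.{u}} {A B : X.Modules} (φ : A ⟶ B) (x : X) (U : X.Opens) (hU : x ∈ U)
    (n : ((toPM (shX X)).obj A).obj (op U)) :
    ((T X x).map φ) (gm ((toPM (shX X)).obj A) x U hU n) =
      gm ((toPM (shX X)).obj B) x U hU (((toPM (shX X)).map φ).app (op U) n) :=
  stkP_map_gm x ((toPM (shX X)).map φ) U hU n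

lemma sp_naturality {M N : Z.Modules} (φ : M ⟶ N) (z : Z) :
    (T X (i z)).map ((Scheme.Modules.pushforward i).map φ) ≫ sp i N z =
      sp i M z ≫ (T Z z).map φ := by
  ext a
  obtain ⟨U, hU, n, rfl⟩ :=
    exists_gm_eq ((toPM (shX X)).obj ((Scheme.Modules.pushforward i).obj M)) (i z) a
  show sp i N z ((T X (i z)).map ((Scheme.Modules.pushforward i).map φ)
      (gm ((toPM (shX X)).obj ((Scheme.Modules.pushforward i).obj M)) (i z) U hU n)) =
    (T Z z).map φ (sp i M z
      (gm ((toPM (shX X)).obj ((Scheme.Modules.pushforward i).obj M)) (i z) U hU n))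
  rw [T_map_gm, sp_gm, sp_gm, T_map_gm]
  rfl

theorem isIso_sp (hi : Topology.IsInducing i.base) (M : Z.Modules) (z : Z) : IsIso (sp i M z) :=
  TopCat.Presheaf.stalkPushforward.stalkPushforward_iso_of_isInducing AddCommGrpCat hi
    M.presheaf z

/-- For an inducing map, the stalk of a direct image at `i z` is the stalk at `z`. -/
noncomputable def spIso (hi : Topology.IsInducing i.base) (z : Z) :
    Scheme.Modules.pushforward i ⋙ T X (i z) ≅ T Z z :=
  NatIso.ofComponents (fun M => haveI := isIso_sp i hi M z; asIso (sp i M z))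
    (fun φ => sp_naturality i φ z)

theorem isZero_T_pushforward (hcl : IsClosed (Set.range i.base)) (M : Z.Modules) (x : X)
    (hx : x ∉ Set.range i.base) :
    IsZero ((T X x).obj ((Scheme.Modules.pushforward i).obj M)) := by
  let N := (toPM (shX X)).obj ((Scheme.Modules.pushforward i).obj M)
  haveI : Subsingleton (St N x) := by
    suffices h : ∀ a : St N x, a = 0 from ⟨fun a b => (h a).trans (h b).symm⟩
    intro a
    obtain ⟨U, hU, n, rfl⟩ := exists_gm_eq N x a
    let V : X.Opens := ⟨(Set.range i.base)ᶜ, hcl.isOpen_compl⟩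
    have hxV : x ∈ V := hx
    have hUV : x ∈ U ⊓ V := ⟨hU, hxV⟩
    rw [← gm_res N x (homOfLE (inf_le_left : U ⊓ V ≤ U)) hUV n]
    have hbot : ∀ y, y ∉ i ⁻¹ᵁ (U ⊓ V) := fun y hy => hy.2 ⟨y, rfl⟩
    have h0 : N.map (homOfLE (inf_le_left : U ⊓ V ≤ U)).op n = 0 := by
      show (N.map (homOfLE (inf_le_left : U ⊓ V ≤ U)).op n : Γ(M, i ⁻¹ᵁ (U ⊓ V))) = 0
      exact Groth.Agent.H8.section_eq_of_cover M _ 0 (fun y hy => absurd hy (hbot y))
    rw [h0, map_zero]
  exact @AddCommGrpCat.isZero_of_subsingleton (AddCommGrpCat.of (St N x)) this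

theorem preservesColimit_pushforward_T (hce : Topology.IsClosedEmbedding i.base)
    {K : Type u} [SmallCategory K] (G : K ⥤ Z.Modules) (x : X) :
    PreservesColimit G (Scheme.Modules.pushforward i ⋙ T X x) := by
  by_cases hx : x ∈ Set.range i.base
  · obtain ⟨z, rfl⟩ := hx
    exact preservesColimit_of_natIso G (spIso i hce.isInducing z).symm
  · exact preservesColimit_of_isZero G _
      (fun M => isZero_T_pushforward i hce.isClosed_range M x hx)

/-- The direct image along a closed embedding preserves colimits of modules. -/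
theorem preservesColimitsOfSize_pushforward (hce : Topology.IsClosedEmbedding i.base) :
    PreservesColimitsOfSize.{u, u} (Scheme.Modules.pushforward i) := by
  refine ⟨fun {K} _ => ⟨fun {G} => ?_⟩⟩
  exact preservesColimit_of_jointly_reflecting G (Scheme.Modules.pushforward i)
    (fun x : X => T X x) (fun φ h => isIso_of_T φ h) (fun x => inferInstance)
    (fun x => preservesColimit_pushforward_T i hce G x)

/-- The direct image along a closed embedding is a left adjoint. -/
theorem isLeftAdjoint_pushforward (hce : Topology.IsClosedEmbedding i.base) :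
    (Scheme.Modules.pushforward i).IsLeftAdjoint := by
  have := preservesColimitsOfSize_pushforward i hce
  have := GrothAb.isGrothendieckAbelian (Opens.grothendieckTopology Z) Z.ringCatSheaf
  have h1 : WellPowered.{u} (SheafOfModules.{u} Z.ringCatSheaf) := inferInstance
  have h2 : WellPowered.{u} (SheafOfModules.{u} Z.ringCatSheaf)ᵒᵖ := Abelian.wellPowered_opposite
  exact isLeftAdjoint_of_preservesColimits_of_isSeparating
    (GrothAb.isSeparating_gen (Opens.grothendieckTopology Z) Z.ringCatSheaf)
    (Scheme.Modules.pushforward i)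

end Sch

end Groth.Agent.H8.ClosedPush
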