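import Mathlib.AlgebraicGeometry.Morphisms.FlatDescent
import Mathlib.AlgebraicGeometry.Morphisms.LocalFlatDescent
import Mathlib.AlgebraicGeometry.Morphisms.Proper
import Mathlib.AlgebraicGeometry.Morphisms.Immersion
import Mathlib.AlgebraicGeometry.Morphisms.Separated

set_option autoImplicit false
universe u

namespace Groth.Agent.H8

open AlgebraicGeometry CategoryTheory Limits MorphismProperty

/-- morphisms with closed range -/
def closedRange : MorphismProperty Scheme.{u} := fun _ _ f => IsClosed (Set.range f)

lemma closedRange_iff {X Y : Scheme.{u}} (f : X ⟶ Y) : closedRange f ↔ IsClosed (Set.range f) :=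
  Iff.rfl

instance closedRange_respectsIso : closedRange.{u}.RespectsIso := by
  apply MorphismProperty.RespectsIso.mk
  · intro X Y Z e f hf
    rw [closedRange_iff] at hf ⊢
    rw [Scheme.Hom.comp_base, TopCat.coe_comp, Set.range_comp]
    have : Set.range e.hom = Set.univ := Set.range_eq_univ.mpr e.hom.homeomorph.surjective
    rw [this, Set.image_univ]
    exact hf
  · intro X Y Z e f hf
    rw [closedRange_iff] at hf ⊢
    rw [Scheme.Hom.comp_base, TopCat.coe_comp, Set.range_comp]
    exact e.hom.homeomorph.isClosedMap _ hf

instance closedRange_descendsAlong :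
    closedRange.{u}.DescendsAlong (@Surjective ⊓ @Flat ⊓ @QuasiCompact) where
  of_isPullback {A X Y Z fst snd f g} h hf hfst := by
    obtain ⟨⟨hf1, hf2⟩, hf3⟩ := hf
    rw [closedRange_iff] at hfst ⊢
    have h1 := Scheme.image_preimage_eq_of_isPullback h.flip (Set.univ : Set Y)
    rw [Set.preimage_univ, Set.image_univ, Set.image_univ] at h1
    rw [h1] at hfst
    exact (Flat.isQuotientMap_of_surjective f).isClosed_preimage.mp hfst

lemma isSeparated_eq_diagonal_closedRange :
    @IsSeparated = MorphismProperty.diagonal closedRange.{u} := by
  ext X Y f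
  rw [MorphismProperty.diagonal_iff, closedRange_iff]
  constructor
  · intro hf
    exact (pullback.diagonal f).isClosedEmbedding.isClosed_range
  · intro hf
    exact ⟨IsClosedImmersion.of_isPreimmersion _ hf⟩

instance isSeparated_descendsAlong :
    MorphismProperty.DescendsAlong (@IsSeparated : MorphismProperty Scheme.{u})
      (@Surjective ⊓ @Flat ⊓ @QuasiCompact) := by
  rw [isSeparated_eq_diagonal_closedRange]
  infer_instance

instance isProper_descendsAlong :
    MorphismProperty.DescendsAlong (@IsProper : MorphismProperty Scheme.{u})
      (@Surjective ⊓ @Flat ⊓ @QuasiCompact) := by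
  rw [isProper_eq]
  infer_instance

end Groth.Agent.H8
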