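import Groth.Agent.H8.OmegaSect
import Groth.Agent.H8.HomBasis
import Groth.Agent.H39.DerUniv
import Groth.Agent.H39.DerAff

/-!
# The differential `d_{X/Y} : O_X → Omega.sheaf f` is a universal derivation

`isUniversal_dOmega f : OmegaSh.IsUniversal (OmegaSh.dOmega f)` for quasi-separated `f`.
The proof glues, over the basis of affine opens of `X` lying over affine opens of `Y`, the linear
maps `Γ(Ω, U) ≃ Ω[Γ(X,U)/Γ(Y,V)] → Γ(F, U)` induced by a derivation.
-/

set_option autoImplicit false
set_option linter.style.haveILetI false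
universe u
open CategoryTheory CategoryTheory.Limits AlgebraicGeometry Opposite OmegaSh TopologicalSpace
open scoped TensorProduct

namespace Groth.Agent.H8.OmegaUniv

open Groth.Agent.H39 Groth.Agent.H8

variable {X Y : Scheme.{u}} (f : X ⟶ Y) [QuasiSeparated f]

/-- Index type: affine opens of `X` lying over an affine open of `Y`. -/
structure Small : Type u where
  /-- the affine open of the source -/
  U : X.Opens
  /-- the affine open of the target -/
  V : Y.Opens
  hU : IsAffineOpen U
  hV : IsAffineOpen V
  le : U ≤ f ⁻¹ᵁ V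

omit [QuasiSeparated f] in
lemma isBasis_small : Opens.IsBasis (Set.range (fun i : Small f => i.U)) := by
  have := DerUniv.isBasis_small f
  convert this using 1
  ext W
  constructor
  · rintro ⟨i, rfl⟩
    exact ⟨i.hU, i.V, i.hV, i.le⟩
  · rintro ⟨hW, V, hV, hle⟩
    exact ⟨⟨W, V, hW, hV, hle⟩, rfl⟩

/-- Over a small affine, the sections of `Ω` are spanned by the `d s`. -/
theorem span_dSect_eq_top {U : X.Opens} (hU : IsAffineOpen U) {V : Y.Opens}
    (hV : IsAffineOpen V) (h : U ≤ f ⁻¹ᵁ V) :
    Submodule.span Γ(X, U) (Set.range (dSect f U)) = ⊤ := by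
  letI algAB : Algebra Γ(Y, V) Γ(X, U) := (f.appLE V U h).hom.toAlgebra
  have hbij := OmegaSect.toSect_bijective f hU hV h
  rw [eq_top_iff]
  intro m hm
  clear hm
  obtain ⟨ω, rfl⟩ := hbij.2 m
  have hω : ω ∈ Submodule.span Γ(X, U) (Set.range (KaehlerDifferential.D Γ(Y, V) Γ(X, U))) := by
    rw [KaehlerDifferential.span_range_derivation]; trivial
  induction hω using Submodule.span_induction with
  | mem x hx =>
    obtain ⟨c, rfl⟩ := hx
    exact Submodule.subset_span ⟨c, (OmAff.toSect_d f V U h c).symm⟩
  | zero => rw [map_zero]; exact zero_mem _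
  | add x y _ _ hx hy => rw [map_add]; exact add_mem hx hy
  | smul b x _ hx => rw [map_smul]; exact Submodule.smul_mem _ b hx

section Loc

variable {f} {F : X.Modules} (D : Der f F)

/-- The derivation of section rings over a small affine induced by a sheaf derivation. -/
noncomputable def locDer (i : Small f) :
    (OmAff.sectMod F i.U).Derivation (f.appLE i.V i.U i.le) :=
  ModuleCat.Derivation.mk (fun b => D.app i.U b) (fun a b => map_add _ a b)
    (DerAff.der_app_mul F D i.U)
    (fun c => by
      rw [Scheme.Hom.appLE]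
      change D.app i.U (X.presheaf.map (homOfLE i.le).op (f.app i.V c)) = 0
      rw [DerAff.der_app_map, DerAff.der_app_app, map_zero])

/-- The local linear map `Γ(Ω, U) → Γ(F, U)` induced by a derivation. -/
noncomputable def locLin (i : Small f) : Γ(Omega.sheaf f, i.U) →ₗ[Γ(X, i.U)] Γ(F, i.U) :=
  (locDer D i).desc.hom ∘ₗ (LinearEquiv.ofBijective (OmAff.toSect f i.V i.U i.le).hom
    (OmegaSect.toSect_bijective f i.hU i.hV i.le)).symm.toLinearMap

lemma locLin_dSect (i : Small f) (c : Γ(X, i.U)) :
    locLin D i (dSect f i.U c) = D.app i.U c := by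
  have h1 : dSect f i.U c =
      LinearEquiv.ofBijective (OmAff.toSect f i.V i.U i.le).hom
        (OmegaSect.toSect_bijective f i.hU i.hV i.le) (CommRingCat.KaehlerDifferential.d c) :=
    (OmAff.toSect_d f i.V i.U i.le c).symm
  rw [locLin, LinearMap.comp_apply, h1]
  erw [LinearEquiv.symm_apply_apply]
  exact (locDer D i).desc_d c

lemma locLin_res (i j : Small f) (h : i.U ≤ j.U) (m : Γ(Omega.sheaf f, j.U)) :
    locLin D i ((Omega.sheaf f).presheaf.map (homOfLE h).op m) =
      F.presheaf.map (homOfLE h).op (locLin D j m) := by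
  have hm : m ∈ Submodule.span Γ(X, j.U) (Set.range (dSect f j.U)) := by
    rw [span_dSect_eq_top f j.hU j.hV j.le]; trivial
  induction hm using Submodule.span_induction with
  | mem x hx =>
    obtain ⟨c, rfl⟩ := hx
    rw [locLin_dSect, ← DerAff.der_app_map F D h, ← locLin_dSect D i]
    congr 1
    exact (dSect_map f h c).symm
  | zero => simp only [map_zero]
  | add x y _ _ hx hy => simp only [map_add, hx, hy]
  | smul b x _ hx =>
    rw [Scheme.Modules.map_smul, map_smul, map_smul, Scheme.Modules.map_smul, hx]

end Loc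

theorem isUniversal_dOmega : IsUniversal (dOmega f) := by
  intro F D
  obtain ⟨φ, hφ⟩ := HomBasis.exists_hom_of_basis (Omega.sheaf f) F (isBasis_small f)
    (fun i => (locLin D i).toAddMonoidHom) (fun i j h m => locLin_res D i j h m)
    (fun i r m => (locLin D i).map_smul r m)
  have hφd : ∀ (U : X.Opens) (s : Γ(X, U)), φ.app U (dSect f U s) = D.app U s := by
    intro U s
    refine HomBasis.sect_ext_of_basis F (isBasis_small f) U _ _ (fun i hi => ?_)
    have e1 : (Omega.sheaf f).presheaf.map (homOfLE hi).op (dSect f U s) =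
        dSect f i.U (X.presheaf.map (homOfLE hi).op s) := (dSect_map f hi s).symm
    rw [← app_res φ hi, ← DerAff.der_app_map F D hi, e1]
    exact (hφ i _).trans (locLin_dSect D i _)
  refine ⟨φ, ?_, ?_⟩
  · apply DerKit.der_ext
    intro U s
    rw [DerKit.postcomp_app]
    exact hφd U s
  · intro ψ hψ
    refine HomBasis.hom_ext_of_basis _ _ (isBasis_small f) ψ φ (fun i m => ?_)
    have hψd : ∀ c : Γ(X, i.U), ψ.app i.U (dSect f i.U c) = D.app i.U c := fun c => by
      exact congrArg (fun E => Der.app E i.U c) hψ
    have hm : m ∈ Submodule.span Γ(X, i.U) (Set.range (dSect f i.U)) := by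
      rw [span_dSect_eq_top f i.hU i.hV i.le]; trivial
    induction hm using Submodule.span_induction with
    | mem x hx =>
      obtain ⟨c, rfl⟩ := hx
      rw [hψd, hφd]
    | zero => simp only [map_zero]
    | add x y _ _ hx hy => simp only [map_add, hx, hy]
    | smul b x _ hx => rw [Scheme.Modules.Hom.app_smul, Scheme.Modules.Hom.app_smul, hx]

end Groth.Agent.H8.OmegaUniv
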