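import Groth.Agent.H39.PullTrack5
import Groth.Agent.H8.IsoCover
import Groth.Agent.H8.QCohPush
import Groth.Agent.H8.PullbackStalk

/-!
# Affine base change for quasi-coherent modules

`uMap f g g' f' hw F : g^* f_* F ⟶ f'_* g'^* F` is the base change map (adjoint of
`f_* F ⟶ f_* g'_* g'^* F = g_* f'_* g'^* F`); `isIso_uMap`: it is an isomorphism when the square is
cartesian, `f` is affine and `F` is quasi-coherent.
-/

set_option autoImplicit false
set_option linter.style.haveILetI false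
universe u
open CategoryTheory AlgebraicGeometry TensorProduct Opposite TopologicalSpace
open Scheme.Modules OmegaSh
open Groth.Agent.H39.PullTrack

namespace Groth.Agent.H8.AffBC

noncomputable section

variable {X S X' S' : Scheme.{u}} (f : X ⟶ S) (g : S' ⟶ S) (g' : X' ⟶ X) (f' : X' ⟶ S')
  (hw : g' ≫ f = f' ≫ g) (F : X.Modules)

/-- `f_* F ⟶ g_* f'_* g'^* F`. -/
def vMap : (pushforward f).obj F ⟶
    (pushforward g).obj ((pushforward f').obj ((pullback g').obj F)) :=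
  (pushforward f).map ((pullbackPushforwardAdjunction g').unit.app F) ≫
    (pushforwardComp g' f).hom.app ((pullback g').obj F) ≫
    (pushforwardCongr hw).hom.app ((pullback g').obj F) ≫
    (pushforwardComp f' g).inv.app ((pullback g').obj F)

/-- The base change map `g^* f_* F ⟶ f'_* g'^* F`. -/
def uMap : (pullback g).obj ((pushforward f).obj F) ⟶
    (pushforward f').obj ((pullback g').obj F) :=
  ((pullbackPushforwardAdjunction g).homEquiv ((pushforward f).obj F)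
    ((pushforward f').obj ((pullback g').obj F))).symm (vMap f g g' f' hw F)

include hw in
lemma preimage_eq (V : S.Opens) : g' ⁻¹ᵁ (f ⁻¹ᵁ V) = f' ⁻¹ᵁ (g ⁻¹ᵁ V) := by
  rw [← Scheme.Hom.comp_preimage, ← Scheme.Hom.comp_preimage, hw]

lemma vMap_app (V : S.Opens) (m : Γ(F, f ⁻¹ᵁ V)) :
    (vMap f g g' f' hw F).app V m =
      ((pullback g').obj F).presheaf.map (eqToHom (preimage_eq f g g' f' hw V).symm).op
        (pullSect g' F (f ⁻¹ᵁ V) m) := rfl

lemma uMap_pullSect (V : S.Opens) (m : Γ(F, f ⁻¹ᵁ V)) :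
    (uMap f g g' f' hw F).app (g ⁻¹ᵁ V) (pullSect g ((pushforward f).obj F) V m) =
      (vMap f g g' f' hw F).app V m := by
  have h1 : (pullbackPushforwardAdjunction g).unit.app ((pushforward f).obj F) ≫
      (pushforward g).map (uMap f g g' f' hw F) = vMap f g g' f' hw F := by
    have h2 := Adjunction.homEquiv_unit (pullbackPushforwardAdjunction g)
      (X := (pushforward f).obj F) (Y := (pushforward f').obj ((pullback g').obj F))
      (f := uMap f g g' f' hw F)
    rw [← h2]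
    exact Equiv.apply_symm_apply _ _
  exact congrArg (fun t => (Scheme.Modules.Hom.app t V) m) h1

include hw in
lemma preimage_le {V : S.Opens} {V' : S'.Opens} (hle : V' ≤ g ⁻¹ᵁ V) :
    f' ⁻¹ᵁ V' ≤ g' ⁻¹ᵁ (f ⁻¹ᵁ V) := by
  rw [preimage_eq f g g' f' hw V]
  exact fun _ hx => hle hx

lemma uMap_pullSectLE (V : S.Opens) (V' : S'.Opens) (hle : V' ≤ g ⁻¹ᵁ V)
    (m : Γ((pushforward f).obj F, V)) :
    (uMap f g g' f' hw F).app V' (pullSectLE g ((pushforward f).obj F) V V' hle m) =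
      pullSectLE g' F (f ⁻¹ᵁ V) (f' ⁻¹ᵁ V') (preimage_le f g g' f' hw hle)
        (show Γ(F, f ⁻¹ᵁ V) from m) := by
  have h1 := pullSectLE_apply g ((pushforward f).obj F) V V' hle m
  have h2 := app_res (uMap f g g' f' hw F) hle (pullSect g ((pushforward f).obj F) V m)
  have h3 := uMap_pullSect f g g' f' hw F V m
  have h4 := vMap_app f g g' f' hw F V m
  have h5 := pullSectLE_apply g' F (f ⁻¹ᵁ V) (f' ⁻¹ᵁ V') (preimage_le f g g' f' hw hle)
    (show Γ(F, f ⁻¹ᵁ V) from m)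
  rw [h1, h2, h3, h4, h5]
  show ((pullback g').obj F).presheaf.map _ (((pullback g').obj F).presheaf.map _ _) = _
  rw [← ConcreteCategory.comp_apply, ← Functor.map_comp]
  rfl

section Bij

variable {f g g' f'}

include hw in
lemma appLE_comm {V : S.Opens} {V' : S'.Opens} (hle : V' ≤ g ⁻¹ᵁ V) :
    g.appLE V V' hle ≫ f'.app V' =
      f.app V ≫ g'.appLE (f ⁻¹ᵁ V) (f' ⁻¹ᵁ V') (preimage_le f g g' f' hw hle) := by
  rw [Scheme.Hom.app_eq_appLE, Scheme.Hom.app_eq_appLE, Scheme.Hom.appLE_comp_appLE,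
    Scheme.Hom.appLE_comp_appLE]
  simp only [hw]

set_option maxHeartbeats 1000000 in
theorem uMap_app_bijective (h : IsPullback g' f' f g) [IsAffineHom f] [F.IsQuasicoherent]
    {V : S.Opens} (hV : IsAffineOpen V) {V' : S'.Opens} (hV' : IsAffineOpen V')
    (hle : V' ≤ g ⁻¹ᵁ V) :
    Function.Bijective ((uMap f g g' f' h.w F).app V') := by
  haveI : IsAffineHom f' := MorphismProperty.of_isPullback h inferInstance
  have hW : IsAffineOpen (f ⁻¹ᵁ V) := hV.preimage f
  have hW' : IsAffineOpen (f' ⁻¹ᵁ V') := hV'.preimage f'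
  have hleW := preimage_le f g g' f' h.w hle
  haveI : ((pushforward f).obj F).IsQuasicoherent := isQuasicoherent_pushforward f F
  obtain ⟨E₁, hE₁⟩ := exists_sectionsPullbackEquiv g ((pushforward f).obj F) hV hV' hle
  obtain ⟨E₂, hE₂⟩ := exists_sectionsPullbackEquiv g' F hW hW' hleW
  letI algAA' : Algebra Γ(S, V) Γ(S', V') := (g.appLE V V' hle).hom.toAlgebra
  letI algBB' : Algebra Γ(X, f ⁻¹ᵁ V) Γ(X', f' ⁻¹ᵁ V') :=
    (g'.appLE (f ⁻¹ᵁ V) (f' ⁻¹ᵁ V') hleW).hom.toAlgebra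
  letI algAB : Algebra Γ(S, V) Γ(X, f ⁻¹ᵁ V) := (f.app V).hom.toAlgebra
  letI algA'B' : Algebra Γ(S', V') Γ(X', f' ⁻¹ᵁ V') := (f'.app V').hom.toAlgebra
  letI algAB' : Algebra Γ(S, V) Γ(X', f' ⁻¹ᵁ V') :=
    ((g.appLE V V' hle) ≫ f'.app V').hom.toAlgebra
  haveI st1 : IsScalarTower Γ(S, V) Γ(S', V') Γ(X', f' ⁻¹ᵁ V') :=
    IsScalarTower.of_algebraMap_eq (fun a => rfl)
  haveI st2 : IsScalarTower Γ(S, V) Γ(X, f ⁻¹ᵁ V) Γ(X', f' ⁻¹ᵁ V') :=
    IsScalarTower.of_algebraMap_eq (fun a => by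
      have := appLE_comm (f := f) (g := g) (g' := g') (f' := f') h.w hle
      exact congrArg (fun t => t.hom a) this)
  have hUY : f' ⁻¹ᵁ V' = g' ⁻¹ᵁ (f ⁻¹ᵁ V) ⊓ f' ⁻¹ᵁ V' := (inf_eq_right.mpr hleW).symm
  have hiso := AlgebraicGeometry.isIso_pushoutSection_of_isAffineOpen h hle (le_refl (f ⁻¹ᵁ V)) hUY
    hV hV' hW
  have hpo := (AlgebraicGeometry.isIso_pushoutSection_iff h hle (le_refl (f ⁻¹ᵁ V)) hUY).mp hiso
  rw [← Scheme.Hom.app_eq_appLE, ← Scheme.Hom.app_eq_appLE] at hpo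
  haveI po : Algebra.IsPushout Γ(S, V) Γ(X, f ⁻¹ᵁ V) Γ(S', V') Γ(X', f' ⁻¹ᵁ V') :=
    CommRingCat.isPushout_iff_isPushout.mp hpo
  haveI po' : Algebra.IsPushout Γ(S, V) Γ(S', V') Γ(X, f ⁻¹ᵁ V) Γ(X', f' ⁻¹ᵁ V') := po.symm
  letI modAM : Module Γ(S, V) Γ(F, f ⁻¹ᵁ V) :=
    inferInstanceAs (Module Γ(S, V) Γ((pushforward f).obj F, V))
  haveI st3 : IsScalarTower Γ(S, V) Γ(X, f ⁻¹ᵁ V) Γ(F, f ⁻¹ᵁ V) :=
    ⟨fun a b m => by
      show (f.app V a * b) • m = (f.app V a) • (b • m)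
      exact mul_smul _ _ _⟩
  let C := Algebra.IsPushout.cancelBaseChange Γ(S, V) Γ(S', V') Γ(X, f ⁻¹ᵁ V) Γ(X', f' ⁻¹ᵁ V')
    Γ(F, f ⁻¹ᵁ V)
  have key : ∀ t : TensorProduct Γ(S, V) Γ(S', V') Γ((pushforward f).obj F, V),
      E₂ ((uMap f g g' f' h.w F).app V' (E₁.symm t)) = C.symm t := by
    intro t
    have z2 : ∀ p q, (uMap f g g' f' h.w F).app V' (p + q) =
        (uMap f g g' f' h.w F).app V' p + (uMap f g g' f' h.w F).app V' q :=
      fun p q => map_add (ConcreteCategory.hom ((uMap f g g' f' h.w F).app V')) p q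
    induction t using TensorProduct.induction_on with
    | zero =>
      have z1 : E₁.symm 0 = 0 := _root_.map_zero _
      have z2 : (uMap f g g' f' h.w F).app V' 0 = 0 :=
        _root_.map_zero (ConcreteCategory.hom ((uMap f g g' f' h.w F).app V'))
      have z3 : E₂ 0 = 0 := _root_.map_zero _
      have z4 : C.symm 0 = 0 := _root_.map_zero _
      exact (congrArg (fun t => E₂ ((uMap f g g' f' h.w F).app V' t)) z1).trans
        ((congrArg E₂ z2).trans (z3.trans z4.symm))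
    | add x y hx hy =>
      have a1 : E₁.symm (x + y) = E₁.symm x + E₁.symm y := _root_.map_add _ _ _
      have a3 : ∀ p q, E₂ (p + q) = E₂ p + E₂ q := fun p q => _root_.map_add _ _ _
      have a4 : C.symm (x + y) = C.symm x + C.symm y := _root_.map_add _ _ _
      exact (congrArg (fun t => E₂ ((uMap f g g' f' h.w F).app V' t)) a1).trans
        ((congrArg E₂ (z2 _ _)).trans ((a3 _ _).trans
          ((congrArg₂ (· + ·) hx hy).trans a4.symm)))
    | tmul a m =>
      have e1 : E₁.symm (a ⊗ₜ m) = a • pullSectLE g ((pushforward f).obj F) V V' hle m := by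
        rw [LinearEquiv.symm_apply_eq, _root_.map_smul, hE₁, TensorProduct.smul_tmul', smul_eq_mul,
          mul_one]
      rw [e1, Scheme.Modules.Hom.app_smul, uMap_pullSectLE]
      refine (congrArg E₂ (pushforward_smul f' _ V' a _)).trans ?_
      refine (E₂.map_smul (f'.app V' a) _).trans ?_
      refine (congrArg (fun t => (f'.app V' a) • t) (hE₂ m)).trans ?_
      refine Eq.trans ?_ (Algebra.IsPushout.cancelBaseChange_symm_tmul Γ(S, V) Γ(S', V')
        Γ(X, f ⁻¹ᵁ V) Γ(X', f' ⁻¹ᵁ V') Γ(F, f ⁻¹ᵁ V) a m).symm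
      show (f'.app V' a) • ((1 : Γ(X', f' ⁻¹ᵁ V')) ⊗ₜ[Γ(X, f ⁻¹ᵁ V)] (id m : Γ(F, f ⁻¹ᵁ V))) =
        (f'.app V' a) ⊗ₜ (id m : Γ(F, f ⁻¹ᵁ V))
      rw [TensorProduct.smul_tmul', smul_eq_mul, mul_one]
  have key' : ∀ x, E₂ ((uMap f g g' f' h.w F).app V' x) = C.symm (E₁ x) := fun x => by
    have := key (E₁ x)
    rwa [E₁.symm_apply_apply] at this
  constructor
  · intro x y hxy
    have := (key' x).symm.trans ((congrArg E₂ hxy).trans (key' y))
    exact E₁.injective (C.symm.injective this)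
  · intro y
    refine ⟨E₁.symm (C (E₂ y)), ?_⟩
    apply E₂.injective
    refine (key _).trans ?_
    exact C.symm_apply_apply _

theorem isIso_uMap (h : IsPullback g' f' f g) [IsAffineHom f] [F.IsQuasicoherent] :
    IsIso (uMap f g g' f' h.w F) := by
  haveI : IsAffineHom f' := MorphismProperty.of_isPullback h inferInstance
  haveI : ((pushforward f).obj F).IsQuasicoherent := isQuasicoherent_pushforward f F
  haveI : ((pullback g).obj ((pushforward f).obj F)).IsQuasicoherent :=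
    isQuasicoherent_pullback g _
  haveI : ((pullback g').obj F).IsQuasicoherent := isQuasicoherent_pullback g' F
  haveI : ((pushforward f').obj ((pullback g').obj F)).IsQuasicoherent :=
    isQuasicoherent_pushforward f' _
  let ι := {V' : S'.affineOpens // ∃ V : S.affineOpens, (V' : S'.Opens) ≤ g ⁻¹ᵁ (V : S.Opens)}
  have hcov : IsOpenCover (fun i : ι => ((i.1 : S'.affineOpens) : S'.Opens)) := by
    apply le_antisymm le_top
    intro x' _
    obtain ⟨U, hU, hxU, -⟩ := exists_isAffineOpen_mem_and_subset (x := g x')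
      (U := (⊤ : S.Opens)) trivial
    obtain ⟨U', hU', hxU', hU'le⟩ := exists_isAffineOpen_mem_and_subset (x := x')
      (U := g ⁻¹ᵁ U) hxU
    exact Opens.mem_iSup.mpr ⟨⟨⟨U', hU'⟩, ⟨⟨U, hU⟩, hU'le⟩⟩, hxU'⟩
  refine isIso_of_bijective_affine_cover (uMap f g g' f' h.w F)
    (fun i : ι => ((i.1 : S'.affineOpens) : S'.Opens)) hcov (fun i => i.1.2) (fun i => ?_)
  obtain ⟨V, hle⟩ := i.2
  exact uMap_app_bijective F h V.2 i.1.2 hle

end Bij

end

end Groth.Agent.H8.AffBC
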