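import Groth.Agent.H8.AssSch
import Groth.Agent.H8.QCohPush
import Groth.Agent.S2507

/-!
# Associated points of direct images
-/

set_option autoImplicit false
set_option linter.style.haveILetI false
universe u
open CategoryTheory CategoryTheory.Limits AlgebraicGeometry TopologicalSpace Opposite

namespace Groth.Agent.H8

section Algebra

/-- The contraction of an associated prime is an associated prime for the restricted module
structure. -/
lemma isAssociatedPrime_comap_compHom {A B : Type*} [CommRing A] [CommRing B] (φ : A →+* B)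
    {N : Type*} [AddCommGroup N] [Module B N] {q : Ideal B} (hq : IsAssociatedPrime q N) :
    letI := Module.compHom N φ
    IsAssociatedPrime (q.comap φ) N := by
  letI := Module.compHom N φ
  obtain ⟨hprime, s, hs⟩ := hq
  haveI := hprime
  refine ⟨Ideal.comap_isPrime φ q, s, ?_⟩
  ext a
  rw [Ideal.mem_comap, hs, Ideal.mem_radical_iff, Ideal.mem_radical_iff]
  constructor
  · rintro ⟨n, hn⟩
    refine ⟨n, ?_⟩
    rw [Submodule.mem_colon_singleton, Submodule.mem_bot] at hn ⊢
    rw [← map_pow] at hn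
    exact hn
  · rintro ⟨n, hn⟩
    refine ⟨n, ?_⟩
    rw [Submodule.mem_colon_singleton, Submodule.mem_bot] at hn ⊢
    rw [← map_pow]
    exact hn

/-- Over a Noetherian ring `B`, an associated prime of a `B`-module for the module structure
restricted along `A → B` is the contraction of an associated prime over `B`. -/
lemma exists_comap_eq_of_isAssociatedPrime_compHom {A B : Type u} [CommRing A] [CommRing B]
    [IsNoetherianRing B] (φ : A →+* B) {N : Type u} [AddCommGroup N] [Module B N] {p : Ideal A}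
    (hp : letI := Module.compHom N φ; IsAssociatedPrime p N) :
    ∃ q : Ideal B, IsAssociatedPrime q N ∧ q.comap φ = p := by
  letI : Algebra A B := φ.toAlgebra
  letI : Module A N := Module.compHom N φ
  haveI : IsScalarTower A B N := IsScalarTower.of_algebraMap_smul fun r m => rfl
  have h := Groth.Agent.S2507.result (A := A) (B := B) N
  have hp' : p ∈ associatedPrimes A N := hp
  rw [h] at hp'
  obtain ⟨q, hq, rfl⟩ := hp'
  exact ⟨q, hq, rfl⟩

end Algebra

variable {X Y : Scheme.{u}} (f : X ⟶ Y)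

/-- Compatibility of the primes of points with a morphism of schemes on affine opens. -/
lemma primeIdealOf_map {V : Y.Opens} (hV : IsAffineOpen V) {W : X.Opens} (hW : IsAffineOpen W)
    (e : W ≤ f ⁻¹ᵁ V) (x : X) (hxW : x ∈ W) :
    (hV.primeIdealOf ⟨f x, e hxW⟩).asIdeal =
      (hW.primeIdealOf ⟨x, hxW⟩).asIdeal.comap (f.appLE V W e).hom := by
  ext b
  rw [Ideal.mem_comap]
  have h1 := mem_basicOpen_iff_notMem_primeIdealOf hV (f x) (e hxW) b
  have h2 := mem_basicOpen_iff_notMem_primeIdealOf hW x hxW (f.appLE V W e b)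
  have h3 : x ∈ X.basicOpen (f.appLE V W e b) ↔ f x ∈ Y.basicOpen b := by
    rw [Scheme.basicOpen_appLE]
    exact ⟨fun h => h.2, fun h => ⟨hxW, h⟩⟩
  rw [← not_iff_not]
  exact h1.symm.trans (h3.symm.trans h2)

variable [IsLocallyNoetherian X] [IsLocallyNoetherian Y] [QuasiCompact f] [QuasiSeparated f]
  (M : X.Modules) [M.IsQuasicoherent]

/-- If `x` is an associated point of `M` and `f x` has an affine open neighbourhood with affine
preimage, `f x` is an associated point of `f_* M`. -/
theorem isAssPoint_pushforward_of_isAffineOpen_preimage (x : X) (hx : Curv2.IsAssPoint M x)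
    {V : Y.Opens} (hV : IsAffineOpen V) (hfx : f x ∈ V) (hW : IsAffineOpen (f ⁻¹ᵁ V)) :
    Curv2.IsAssPoint ((Scheme.Modules.pushforward f).obj M) (f x) := by
  haveI := isQuasicoherent_pushforward f M
  haveI : IsNoetherianRing Γ(Y, V) := IsLocallyNoetherian.component_noetherian ⟨V, hV⟩
  haveI : IsNoetherianRing Γ(X, f ⁻¹ᵁ V) := IsLocallyNoetherian.component_noetherian ⟨_, hW⟩
  rw [isAssPoint_iff_isAssociatedPrime hV _ (f x) hfx]
  rw [isAssPoint_iff_isAssociatedPrime hW M x hfx] at hx
  have h1 := isAssociatedPrime_comap_compHom (f.app V).hom hx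
  have h2 := primeIdealOf_map f hV hW le_rfl x hfx
  rw [f.appLE_eq_app] at h2
  rw [h2]
  exact h1

/-- Every associated point of `f_* M` is the image of an associated point of `M`. -/
theorem exists_isAssPoint_of_isAssPoint_pushforward (y : Y)
    (hy : Curv2.IsAssPoint ((Scheme.Modules.pushforward f).obj M) y) :
    ∃ x, Curv2.IsAssPoint M x ∧ f x = y := by
  haveI := isQuasicoherent_pushforward f M
  obtain ⟨_, ⟨V, hV, rfl⟩, hyV, -⟩ := Y.isBasis_affineOpens.exists_subset_of_mem_open
    (Set.mem_univ y) isOpen_univ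
  haveI : IsNoetherianRing Γ(Y, V) := IsLocallyNoetherian.component_noetherian ⟨V, hV⟩
  rw [isAssPoint_iff_isAssociatedPrime hV _ y hyV] at hy
  obtain ⟨hprime, s, hs⟩ := hy
  have hWc : IsCompact ((f ⁻¹ᵁ V : X.Opens) : Set X) :=
    QuasiCompact.isCompact_preimage (f := f) V V.2 hV.isCompact
  obtain ⟨S, hSfin, hS⟩ :=
    (isCompact_and_isOpen_iff_finite_and_eq_biUnion_affineOpens
      (U := ((f ⁻¹ᵁ V : X.Opens) : Set X))).mp ⟨hWc, (f ⁻¹ᵁ V).2⟩
  have hle : ∀ T ∈ S, (T : X.Opens) ≤ f ⁻¹ᵁ V := fun T hT x hx => by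
    change x ∈ ((f ⁻¹ᵁ V : X.Opens) : Set X)
    rw [hS]
    exact Set.mem_biUnion hT hx
  haveI := hSfin.to_subtype
  cases nonempty_fintype S
  -- the section `s` as a section of `M` over `f ⁻¹ V`
  let s' : Γ(M, f ⁻¹ᵁ V) := s
  -- the contracted annihilators of the restrictions of `s`
  let J : S → Ideal Γ(Y, V) := fun T =>
    Ideal.comap (f.appLE V T.1.1 (hle T.1 T.2)).hom
      (Submodule.colon (⊥ : Submodule Γ(X, T.1.1) Γ(M, T.1.1))
        {M.presheaf.map (homOfLE (hle T.1 T.2)).op s'})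
  have hJmem : ∀ (T : S) (a : Γ(Y, V)), a ∈ J T ↔
      (f.appLE V T.1.1 (hle T.1 T.2)) a • M.presheaf.map (homOfLE (hle T.1 T.2)).op s' = 0 :=
    fun T a => by
      simp only [J, Ideal.mem_comap, Submodule.mem_colon_singleton, Submodule.mem_bot]
  have hcolon : Submodule.colon (⊥ : Submodule Γ(Y, V)
      Γ((Scheme.Modules.pushforward f).obj M, V)) {s} = Finset.univ.inf J := by
    ext a
    rw [Submodule.mem_colon_singleton, Submodule.mem_bot, Finset.inf_univ_eq_iInf,
      Ideal.mem_iInf]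
    constructor
    · intro ha T
      rw [hJmem]
      have ha' : (f.app V a) • s' = 0 := ha
      have h1 := congrArg (M.presheaf.map (homOfLE (hle T.1 T.2)).op) ha'
      rw [res_smul, map_zero] at h1
      exact h1
    · intro h
      refine (pushforward_smul f M V a s).trans ?_
      refine section_eq_of_cover M _ 0 (fun x hxW => ?_)
      obtain ⟨T, hTS, hxT⟩ : ∃ T ∈ S, x ∈ (T : X.Opens) := by
        have hx' : x ∈ ((f ⁻¹ᵁ V : X.Opens) : Set X) := hxW
        rw [hS] at hx'
        simpa using hx'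
      refine ⟨T, hle T hTS, hxT, ?_⟩
      rw [map_zero]
      refine (res_smul M (hle T hTS) (f.app V a) s').trans ?_
      exact (hJmem ⟨T, hTS⟩ a).mp (h ⟨T, hTS⟩)
  have hle_all : ∀ T, (hV.primeIdealOf ⟨y, hyV⟩).asIdeal ≤ (J T).radical := fun T => by
    rw [hs, hcolon]
    exact Ideal.radical_mono (Finset.inf_le (Finset.mem_univ T))
  have hex : ∃ T, J T ≤ (hV.primeIdealOf ⟨y, hyV⟩).asIdeal := by
    have h1 : Finset.univ.inf J ≤ (hV.primeIdealOf ⟨y, hyV⟩).asIdeal := by
      rw [← hcolon]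
      exact Ideal.le_radical.trans hs.ge
    obtain ⟨T, -, hT⟩ := (Ideal.IsPrime.inf_le' hprime).mp h1
    exact ⟨T, hT⟩
  obtain ⟨T, hT⟩ := hex
  have hpT : (hV.primeIdealOf ⟨y, hyV⟩).asIdeal = (J T).radical :=
    le_antisymm (hle_all T) ((hprime.radical_le_iff).mpr hT)
  haveI : IsNoetherianRing Γ(X, T.1.1) := IsLocallyNoetherian.component_noetherian T.1
  have hpAss : letI := Module.compHom Γ(M, T.1.1) (f.appLE V T.1.1 (hle T.1 T.2)).hom
      IsAssociatedPrime (hV.primeIdealOf ⟨y, hyV⟩).asIdeal Γ(M, T.1.1) := by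
    letI := Module.compHom Γ(M, T.1.1) (f.appLE V T.1.1 (hle T.1 T.2)).hom
    refine ⟨hprime, M.presheaf.map (homOfLE (hle T.1 T.2)).op s', ?_⟩
    rw [hpT]
    congr 1
  obtain ⟨q, hq, hqp⟩ := exists_comap_eq_of_isAssociatedPrime_compHom
    (f.appLE V T.1.1 (hle T.1 T.2)).hom hpAss
  haveI : q.IsPrime := hq.isPrime
  have hxT : pointOfPrime T.1.2 q ∈ (T.1.1 : X.Opens) := pointOfPrime_mem T.1.2 q
  have hpx : (T.1.2.primeIdealOf ⟨pointOfPrime T.1.2 q, hxT⟩).asIdeal = q :=
    congrArg PrimeSpectrum.asIdeal (primeIdealOf_pointOfPrime T.1.2 q)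
  refine ⟨pointOfPrime T.1.2 q, ?_, ?_⟩
  · rw [isAssPoint_iff_isAssociatedPrime T.1.2 M _ hxT, hpx]
    exact hq
  · have h2 := primeIdealOf_map f hV T.1.2 (hle T.1 T.2) (pointOfPrime T.1.2 q) hxT
    rw [hpx, hqp] at h2
    calc f (pointOfPrime T.1.2 q)
        = pointOfPrime hV (hV.primeIdealOf ⟨f (pointOfPrime T.1.2 q),
            hle T.1 T.2 hxT⟩).asIdeal := (pointOfPrime_primeIdealOf hV _ _).symm
      _ = pointOfPrime hV (hV.primeIdealOf ⟨y, hyV⟩).asIdeal := pointOfPrime_congr hV _ _ h2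
      _ = y := pointOfPrime_primeIdealOf hV y hyV

end Groth.Agent.H8
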