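import Groth.Agent.H8.HomBasis
import Groth.Agent.H39.ConormalMap

/-!
# Existence of the map `C_{Z/X} → i^* Ω` induced by a derivation

For any morphism `i : Z ⟶ X` and any derivation `d : O_X → Ω` (relative to `f : X ⟶ Y`), there is
an `O_Z`-linear map `φ : C_{Z/X} ⟶ i^* Ω` with `IsConormalDiff i d φ`.
-/

set_option autoImplicit false
set_option linter.style.haveILetI false
universe u
open CategoryTheory CategoryTheory.Limits AlgebraicGeometry Opposite OmegaSh TopologicalSpace

namespace Groth.Agent.H8.ConormalDiffEx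

open Groth.Agent.H39 Groth.Agent.H8

variable {X Y Z : Scheme.{u}} (i : Z ⟶ X) {f : X ⟶ Y} {Ω : X.Modules} (d : Der f Ω)

/-- The sectionwise map `s ↦ i^*(d s)` from the ideal to `i_* i^* Ω`. -/
noncomputable def α (U : X.Opens) : Γ(ClSub.idealMod i.ker, U) →+
    Γ((Scheme.Modules.pushforward i).obj ((Scheme.Modules.pullback i).obj Ω), U) :=
  ((pullSect i Ω U).hom.comp (d.app U)).comp (idealSect i.ker U)

lemma α_apply (U : X.Opens) (s : Γ(ClSub.idealMod i.ker, U)) :
    α i d U s = pullSect i Ω U (d.app U (idealSect i.ker U s)) := rfl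

lemma α_res {U V : X.Opens} (h : V ≤ U) (s : Γ(ClSub.idealMod i.ker, U)) :
    α i d V ((ClSub.idealMod i.ker).presheaf.map (homOfLE h).op s) =
      ((Scheme.Modules.pushforward i).obj ((Scheme.Modules.pullback i).obj Ω)).presheaf.map
        (homOfLE h).op (α i d U s) := by
  rw [α_apply, α_apply, ConormalMap.idealSect_res, DerAff.der_app_map, PullTrack.pullSect_res]
  rfl

lemma α_smul (U : X.Opens) (r : Γ(X, U)) (s : Γ(ClSub.idealMod i.ker, U)) :
    α i d U (r • s) = r • α i d U s := by
  let u := (Scheme.Modules.pullbackPushforwardAdjunction i).unit.app Ω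
  have hu : ∀ x : Γ(Ω, U), α i d U s = α i d U s → u.app U x = pullSect i Ω U x := fun _ _ => rfl
  have e1 : ∀ t, α i d U t = u.app U (d.app U (idealSect i.ker U t)) := fun _ => rfl
  rw [e1, e1, ConormalMap.idealSect_smul, DerAff.der_app_mul, map_add,
    Scheme.Modules.Hom.app_smul, Scheme.Modules.Hom.app_smul]
  have h3 : idealSect i.ker U s • u.app U (d.app U r) = 0 := by
    change (i.app U).hom (idealSect i.ker U s) •
      (pullSect i Ω U (d.app U r) : Γ((Scheme.Modules.pullback i).obj Ω, i ⁻¹ᵁ U)) = 0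
    rw [ConormalLocal.app_idealSect, zero_smul]
  rw [h3, add_zero]

/-- Existence of the canonical map `C_{Z/X} → i^*Ω` induced by a derivation. -/
theorem exists_isConormalDiff :
    ∃ φ : Omega.conormal i ⟶ (Scheme.Modules.pullback i).obj Ω, IsConormalDiff i d φ := by
  have hB : Opens.IsBasis (Set.range (fun U : X.Opens => U)) := by
    rw [Opens.isBasis_iff_nbhd]
    intro U x hx
    exact ⟨U, ⟨U, rfl⟩, hx, le_rfl⟩
  obtain ⟨ψ, hψ⟩ := HomBasis.exists_hom_of_basis (ClSub.idealMod i.ker)
    ((Scheme.Modules.pushforward i).obj ((Scheme.Modules.pullback i).obj Ω)) hB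
    (fun U => α i d U) (fun U V h s => α_res i d h s) (fun U r s => α_smul i d U r s)
  refine ⟨((Scheme.Modules.pullbackPushforwardAdjunction i).homEquiv _ _).symm ψ, ?_⟩
  intro U s
  have h1 := DerKit.homEquiv_app i
    (((Scheme.Modules.pullbackPushforwardAdjunction i).homEquiv _ _).symm ψ) U s
  rw [Equiv.apply_symm_apply] at h1
  exact h1.symm.trans (hψ U s)

end Groth.Agent.H8.ConormalDiffEx
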