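import Groth.Agent.H8.ConormalDiffEx
import Groth.Agent.H8.OmegaUniv
import Groth.Agent.S9370
import Groth.Agent.S9384
import Groth.Agent.S5937

/-!
# The conormal sheaf of a section

For a section `e` of a quasi-separated morphism `f : X ⟶ S`, the conormal sheaf of `e` is
`e^* Ω_{X/S}`.
-/

set_option autoImplicit false
set_option linter.style.haveILetI false
universe u
open CategoryTheory CategoryTheory.Limits AlgebraicGeometry Opposite OmegaSh TopologicalSpace

namespace Groth.Agent.H8.ConormalSection

open Groth.Agent.H39 Groth.Agent.H8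

variable {X S : Scheme.{u}} (f : X ⟶ S) [QuasiSeparated f] (e : S ⟶ X) (he : e ≫ f = 𝟙 S)

include he in
lemma isImmersion_section : IsImmersion e := by
  haveI : IsImmersion (e ≫ f) := by rw [he]; infer_instance
  exact IsImmersion.of_comp e f

include he in
lemma quasiCompact_section : QuasiCompact e := by
  haveI : QuasiCompact (e ≫ f) := by rw [he]; infer_instance
  exact QuasiCompact.of_comp e f

include he in
/-- The conormal sheaf of a section `e` of `f` is `e^*Ω_f`, via the map induced by `d`. -/
theorem exists_isIso_conormalDiff :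
    ∃ φ : Omega.conormal e ⟶ (Scheme.Modules.pullback e).obj (Omega.sheaf f),
      IsConormalDiff e (dOmega f) φ ∧ IsIso φ := by
  haveI : IsImmersion e := isImmersion_section f e he
  haveI : QuasiCompact e := quasiCompact_section f e he
  haveI : QuasiSeparated (e ≫ f) := by rw [he]; infer_instance
  haveI : FormallyUnramified (e ≫ f) := by rw [he]; infer_instance
  have hu := OmegaUniv.isUniversal_dOmega f
  have hu' := OmegaUniv.isUniversal_dOmega (e ≫ f)
  obtain ⟨φ, hφ⟩ := ConormalDiffEx.exists_isConormalDiff e (dOmega f)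
  obtain ⟨c, hc, -⟩ := Groth.Agent.S9370.result f (e ≫ f) e (𝟙 S) (Category.comp_id _)
    _ (dOmega f) hu _ (dOmega (e ≫ f)) hu'
  obtain ⟨w, hex, ⟨r, hr⟩, -⟩ := Groth.Agent.S9384.result f e f he (by rw [he, Category.comp_id])
    _ (dOmega f) hu _ (dOmega (e ≫ f)) hu' φ hφ c hc
  have hz : IsZero (Omega.sheaf (e ≫ f)) :=
    (Groth.Agent.S5937.result (e ≫ f) _ (dOmega (e ≫ f)) hu').mp inferInstance
  have hc0 : c = 0 := hz.eq_of_tgt c 0
  haveI : Epi φ := (ShortComplex.exact_iff_epi (ShortComplex.mk φ c w) hc0).mp hex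
  haveI : Mono φ := mono_of_mono_fac hr
  exact ⟨φ, hφ, isIso_of_mono_of_epi φ⟩

end Groth.Agent.H8.ConormalSection
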