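import Mathlib
import Groth.Agent.H8.DevAR
set_option autoImplicit false
set_option linter.style.haveILetI false
universe u
open CategoryTheory CategoryTheory.Limits AlgebraicGeometry TopologicalSpace Opposite
open scoped ZeroObject

namespace Groth.Agent.H8.Dev3_ARI
open Groth.Agent.H8.Dev Groth.Agent.H31.Dev_B Groth.Agent.H36.IdealMul Groth.Agent.H36.SubSec
variable {X : Scheme.{u}}

/-- Artin–Rees injectivity for a given ideal `I` containing the support of the kernel. -/
theorem AR_gen [IsNoetherian X] {A B : X.Modules} (hA : Coh.IsCoh A) (hB : Coh.IsCoh B) (φ : A ⟶ B)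
    (I : X.IdealSheafData) (hsupp : CohB1.support (kernel φ) ⊆ (I.support : Set X)) :
    ∃ e : ℕ, Mono (Dual3.idealMulι (I ^ e) A ≫ φ) := by
  have cK := Groth.Agent.H8.isCoh_kernel hA hB φ
  haveI : A.IsQuasicoherent := hA.1
  haveI : (kernel φ).IsQuasicoherent := cK.1
  obtain ⟨c, hc⟩ := Groth.Agent.S9517.result X A (kernel φ) hA cK.1 (kernel.ι φ) I
  obtain ⟨s, hs⟩ := exists_finite_affine_cover X
  have hIle : I ≤ Scheme.IdealSheafData.vanishingIdeal ⟨(I.support : Set X), I.support.isClosed⟩ :=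
    Scheme.IdealSheafData.le_support_iff_le_vanishingIdeal.mp le_rfl
  have hm : ∀ W : X.affineOpens, ∃ m : ℕ, ∀ a ∈ (I.ideal W) ^ m,
      ∀ t : Γ(kernel φ, W.1), a • t = 0 := by
    intro W
    obtain ⟨m, hm⟩ := exists_pow_smul_eq_zero_of_support (I.support : Set X) I.support.isClosed
      (kernel φ) cK hsupp W
    exact ⟨m, fun a ha t => hm a (Ideal.pow_right_mono (hIle W) m ha) t⟩
  choose m hm using hm
  refine ⟨c + s.sup m, ?_⟩
  have hcn := hc (c + s.sup m) (Nat.le_add_right _ _)
  rw [Nat.add_sub_cancel_left] at hcn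
  set S : Subobject A := Subobject.mk (Dual3.idealMulι (I ^ c) A) ⊓ Subobject.mk (kernel.ι φ)
    with hS
  haveI : ((Dual3.idealMul (I ^ c)).obj A).IsQuasicoherent := isQuasicoherent_idealMul _ A
  haveI hNq : (S : X.Modules).IsQuasicoherent :=
    isQuasicoherent_inf (Dual3.idealMulι (I ^ c) A) (kernel.ι φ)
  haveI : ((Dual3.idealMul (I ^ s.sup m)).obj (S : X.Modules)).IsQuasicoherent :=
    isQuasicoherent_idealMul _ _
  let j : (S : X.Modules) ⟶ kernel φ := Subobject.ofLEMk S (kernel.ι φ) inf_le_right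
  haveI : Mono j := by
    have : j ≫ kernel.ι φ = S.arrow := Subobject.ofLEMk_comp _
    exact mono_of_mono_fac this
  have hzero : Dual3.idealMulι (I ^ s.sup m) (S : X.Modules) = 0 := by
    refine hom_eq_zero_of_affine_cover _ (s : Set X.affineOpens) (fun x => ?_) ?_
    · obtain ⟨W, hW, hxW⟩ := hs x
      exact ⟨W, hW, hxW⟩
    · intro W hW t
      have hWs : W ∈ s := hW
      have h1 := idealMulι_app_mem (I ^ s.sup m) (S : X.Modules) W t
      have hle : (I.ideal W) ^ (s.sup m) ≤ (I.ideal W) ^ (m W) :=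
        Ideal.pow_le_pow_right (Finset.le_sup hWs)
      have h2 : ((I ^ s.sup m).ideal W) • (⊤ : Submodule Γ(X, W.1) Γ((S : X.Modules), W.1)) ≤ ⊥ := by
        rw [Submodule.smul_le]
        intro a ha x _
        rw [Submodule.mem_bot]
        apply Groth.Agent.H8.app_injective_of_mono j W.1
        rw [map_zero, Scheme.Modules.Hom.app_smul]
        exact hm W a (hle ha) _
      exact (Submodule.mem_bot _).mp (h2 h1)
  have hbot : Subobject.mk (Dual3.idealMulι (I ^ (c + s.sup m)) A) ⊓ Subobject.mk (kernel.ι φ) = ⊥ := by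
    rw [← hcn, Subobject.mk_eq_bot_iff_zero, hzero, zero_comp]
  exact mono_comp_of_inf_kernel_eq_bot _ φ hbot

/-- (ARI) Artin–Rees injectivity -/
theorem ARI (X : Scheme.{u}) [IsNoetherian X] (G' G : X.Modules)
    (hG' : Coh.IsCoh G') (hG : Coh.IsCoh G) (I : X.IdealSheafData) (U : X.Opens)
    (hU : (U : Set X) = (I.support : Set X)ᶜ) (α : G' ⟶ G)
    (hα : IsIso ((Scheme.Modules.restrictFunctor U.ι).map α)) :
    ∃ e : ℕ, Mono (Dual3.idealMulι (I ^ e) G' ≫ α) := by
  refine AR_gen hG' hG α I ?_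
  intro x hx
  by_contra hxI
  apply hx
  have hxU : x ∈ U := by
    have : x ∈ (U : Set X) := by rw [hU]; exact hxI
    exact this
  have hb := stalkMap_bijective_of_isIso_restrict U.ι α hα ⟨x, hxU⟩
  have hinj : Function.Injective (Groth.Agent.H8.stalkMap α x) := hb.1
  exact (Groth.Agent.H8.stalkMap_injective_iff α x).mp hinj

end Groth.Agent.H8.Dev3_ARI
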