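import Mathlib.AlgebraicGeometry.IdealSheaf.Basic
import Mathlib.AlgebraicGeometry.Noetherian
import Mathlib.RingTheory.Ideal.KrullsHeightTheorem
import Mathlib.RingTheory.Ideal.Height

set_option autoImplicit false
universe u

namespace Groth.Agent.H8

open AlgebraicGeometry CategoryTheory

/-- In an affine open `U`, a point of the support of `D` which is maximal under generisation
gives a prime minimal over `D.ideal U`. -/
lemma primeIdealOf_mem_minimalPrimes {X : Scheme.{u}} (D : X.IdealSheafData) (U : X.affineOpens)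
    (ξ : X) (hξU : ξ ∈ U.1) (hξ : ξ ∈ D.support)
    (hgen : ∀ y ∈ D.support, y ⤳ ξ → y = ξ) :
    (U.2.primeIdealOf ⟨ξ, hξU⟩).asIdeal ∈ (D.ideal U).minimalPrimes := by
  set p := U.2.primeIdealOf ⟨ξ, hξU⟩ with hp
  have hpξ : U.2.fromSpec p = ξ := U.2.fromSpec_primeIdealOf ⟨ξ, hξU⟩
  have hle : D.ideal U ≤ p.asIdeal := by
    have h1 : ξ ∈ X.zeroLocus (U := U.1) (D.ideal U) :=
      (Scheme.IdealSheafData.mem_support_iff_of_mem hξU).mp hξ
    rw [← hpξ] at h1
    have h2 : p ∈ U.2.fromSpec ⁻¹' X.zeroLocus (U := U.1) (D.ideal U) := h1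
    rw [U.2.fromSpec_preimage_zeroLocus] at h2
    exact h2
  refine ⟨⟨p.isPrime, hle⟩, ?_⟩
  rintro q ⟨hq, hIq⟩ hqp
  let q' : PrimeSpectrum Γ(X, U.1) := ⟨q, hq⟩
  have hyU : U.2.fromSpec q' ∈ U.1 := by
    have : U.2.fromSpec q' ∈ Set.range U.2.fromSpec := ⟨q', rfl⟩
    rw [U.2.range_fromSpec] at this
    exact this
  have hy1 : U.2.fromSpec q' ∈ X.zeroLocus (U := U.1) (D.ideal U) := by
    have h2 : q' ∈ U.2.fromSpec ⁻¹' X.zeroLocus (U := U.1) (D.ideal U) := by
      rw [U.2.fromSpec_preimage_zeroLocus]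
      exact hIq
    exact h2
  have hy2 : U.2.fromSpec q' ∈ D.support :=
    (Scheme.IdealSheafData.mem_support_iff_of_mem hyU).mpr hy1
  have hsp : U.2.fromSpec q' ⤳ ξ := by
    rw [← hpξ]
    have : q' ⤳ p := (PrimeSpectrum.le_iff_specializes q' p).mp hqp
    exact this.map U.2.fromSpec.continuous
  have heq := hgen _ hy2 hsp
  rw [← hpξ] at heq
  have hinj : Function.Injective U.2.fromSpec := U.2.fromSpec.isOpenEmbedding.injective
  have : q' = p := hinj heq
  rw [← this]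

/-- Krull dimension of the stalk is the height of the corresponding prime. -/
lemma ringKrullDim_stalk_eq_height {X : Scheme.{u}} (U : X.affineOpens) (ξ : X) (hξU : ξ ∈ U.1) :
    ringKrullDim (X.presheaf.stalk ξ) = (U.2.primeIdealOf ⟨ξ, hξU⟩).asIdeal.height := by
  letI := X.presheaf.algebra_section_stalk ⟨ξ, hξU⟩
  haveI := U.2.isLocalization_stalk ⟨ξ, hξU⟩
  exact IsLocalization.AtPrime.ringKrullDim_eq_height (U.2.primeIdealOf ⟨ξ, hξU⟩).asIdeal
    (X.presheaf.stalk ξ)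

lemma ringKrullDim_stalk_le_one {X : Scheme.{u}} [IsLocallyNoetherian X]
    (D : X.IdealSheafData) (U : X.affineOpens) (f : Γ(X, U.1)) (hf : D.ideal U = Ideal.span {f})
    (ξ : X) (hξU : ξ ∈ U.1) (hξ : ξ ∈ D.support)
    (hgen : ∀ y ∈ D.support, y ⤳ ξ → y = ξ) :
    ringKrullDim (X.presheaf.stalk ξ) ≤ 1 := by
  rw [ringKrullDim_stalk_eq_height U ξ hξU]
  have hmin := primeIdealOf_mem_minimalPrimes D U ξ hξU hξ hgen
  haveI : IsNoetherianRing Γ(X, U.1) := IsLocallyNoetherian.component_noetherian U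
  haveI : (D.ideal U).IsPrincipal := ⟨⟨f, hf⟩⟩
  have := Ideal.height_le_one_of_isPrincipal_of_mem_minimalPrimes (D.ideal U) _ hmin
  exact_mod_cast this

lemma one_le_ringKrullDim_stalk {X : Scheme.{u}} [IsLocallyNoetherian X]
    (D : X.IdealSheafData) (U : X.affineOpens) (f : Γ(X, U.1))
    (hfnzd : f ∈ nonZeroDivisors Γ(X, U.1)) (hf : D.ideal U = Ideal.span {f})
    (ξ : X) (hξU : ξ ∈ U.1) (hξ : ξ ∈ D.support)
    (hgen : ∀ y ∈ D.support, y ⤳ ξ → y = ξ) :
    1 ≤ ringKrullDim (X.presheaf.stalk ξ) := by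
  rw [ringKrullDim_stalk_eq_height U ξ hξU]
  have hmin := primeIdealOf_mem_minimalPrimes D U ξ hξU hξ hgen
  haveI : IsNoetherianRing Γ(X, U.1) := IsLocallyNoetherian.component_noetherian U
  have h1 : 1 ≤ (Ideal.span {f}).height :=
    Ideal.one_le_height_span_singleton_of_mem_nonZeroDivisors hfnzd
  have h2 : (Ideal.span {f}).height ≤ (U.2.primeIdealOf ⟨ξ, hξU⟩).asIdeal.height :=
    Ideal.height_mono (hf ▸ hmin.1.2)
  exact_mod_cast h1.trans h2

end Groth.Agent.H8
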