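import Mathlib
import Groth.Agent.H56.WeakEtale
import Groth.Prelude.Def_FlatMod2

/-!
# Morphisms with flat diagonal

`flat_diagonal_SpecMap_iff`, `flat_lmul'_stalkMap` (flat diagonal ⇒ the multiplication maps of the
stalk maps are flat), `isFlat_of_isFlatOver` (a module flat over the base of a morphism with flat
diagonal is flat).
-/

set_option autoImplicit false
set_option backward.isDefEq.respectTransparency.types false
set_option linter.style.haveILetI false
universe u
open AlgebraicGeometry CategoryTheory Limits TensorProduct

namespace Groth.Agent.H8.FlatDiag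

/-- The affine case of "flat diagonal". -/
theorem flat_diagonal_SpecMap_iff {R S : CommRingCat.{u}} (φ : R ⟶ S) :
    Flat (pullback.diagonal (Spec.map φ)) ↔
      (letI := φ.hom.toAlgebra
       (Algebra.TensorProduct.lmul' R (S := S)).toRingHom.Flat) := by
  algebraize [φ.hom]
  have hφ : φ = CommRingCat.ofHom (algebraMap R S) := rfl
  rw [hφ, diagonal_SpecMap R S,
    MorphismProperty.cancel_right_of_respectsIso (P := @Flat),
    HasRingHomProperty.Spec_iff (P := @Flat)]
  rfl

/-- If `f` has flat diagonal, the multiplication maps of the stalk maps are flat. -/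
theorem flat_lmul'_stalkMap {X Y : Scheme.{u}} (f : X ⟶ Y) [Flat (pullback.diagonal f)] (x : X) :
    letI := (f.stalkMap x).hom.toAlgebra
    (Algebra.TensorProduct.lmul' (S := ↑(X.presheaf.stalk x))
      (↑(Y.presheaf.stalk (f x)))).toRingHom.Flat := by
  let P : MorphismProperty Scheme.{u} := MorphismProperty.diagonal @Flat
  haveI i1 : P.IsMultiplicative := inferInstanceAs (MorphismProperty.diagonal @Flat).IsMultiplicative
  haveI i2 : P.IsStableUnderBaseChange :=
    inferInstanceAs (MorphismProperty.diagonal @Flat).IsStableUnderBaseChange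
  have hPf : P f := ‹Flat (pullback.diagonal f)›
  have hmonoP : ∀ {A B : Scheme.{u}} (i : A ⟶ B) [Mono i], P i := fun i _ => by
    show Flat (pullback.diagonal i)
    infer_instance
  have h1 : P (X.fromSpecStalk x ≫ f) := P.comp_mem _ _ (hmonoP _) hPf
  rw [← Scheme.SpecMap_stalkMap_fromSpecStalk] at h1
  have hpost : P.HasOfPostcompProperty (MorphismProperty.monomorphisms Scheme.{u}) := by
    rw [MorphismProperty.hasOfPostcompProperty_iff_le_diagonal]
    intro A B i hi
    haveI : Mono i := hi
    show Flat (pullback.diagonal (pullback.diagonal i))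
    infer_instance
  have h2 : P (Spec.map (f.stalkMap x)) :=
    MorphismProperty.of_postcomp _ _ (Y.fromSpecStalk (f x))
      (MorphismProperty.monomorphisms.infer_property _) h1
  exact (flat_diagonal_SpecMap_iff (f.stalkMap x)).mp h2

/-- A module flat over `Y` along a morphism with flat diagonal is flat. -/
theorem isFlat_of_isFlatOver {X Y : Scheme.{u}} (f : X ⟶ Y) [Flat (pullback.diagonal f)]
    (F : X.Modules) (hF : FlatMod.IsFlatOver f F) : FlatMod.IsFlat F := by
  intro x
  have hμ := flat_lmul'_stalkMap f x
  have hFx := hF x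
  letI alg : Algebra (Y.presheaf.stalk (f x)) (X.presheaf.stalk x) := (f.stalkMap x).hom.toAlgebra
  letI modA : Module (Y.presheaf.stalk (f x)) (F.presheaf.stalk x) := FlatMod.moduleStalkOver f F x
  haveI st : IsScalarTower (Y.presheaf.stalk (f x)) (X.presheaf.stalk x) (F.presheaf.stalk x) :=
    ⟨fun a b m => by
      show ((f.stalkMap x).hom a * b) • m = (f.stalkMap x).hom a • (b • m)
      exact mul_smul _ _ _⟩
  haveI : Module.Flat (Y.presheaf.stalk (f x)) (F.presheaf.stalk x) := hFx
  exact Groth.Agent.H56.WeakEtale.flat_of_flat (Y.presheaf.stalk (f x)) (X.presheaf.stalk x) hμ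
    (F.presheaf.stalk x)

end Groth.Agent.H8.FlatDiag
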