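import Groth.Agent.H8.FlatAffine
import Groth.Agent.H8.QCohPush
import Mathlib

/-!
Flatness over the base and direct images along affine morphisms.
-/

set_option autoImplicit false
set_option linter.style.haveILetI false
universe u

open CategoryTheory CategoryTheory.Limits AlgebraicGeometry TopologicalSpace Opposite TensorProduct

namespace Groth.Agent.H8

variable {X Y S : Scheme.{u}} (f : X ⟶ Y) (q : Y ⟶ S) (F : X.Modules)

/-- Sections of the direct image over `W`, as a module over `Γ(S, V)`, are the sections of `F` over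
`f⁻¹ W`. -/
theorem flat_sections_pushforward_iff {W : Y.Opens} {V : S.Opens} (hWV : W ≤ q ⁻¹ᵁ V)
    (hUV : f ⁻¹ᵁ W ≤ (f ≫ q) ⁻¹ᵁ V) :
    @Module.Flat Γ(S, V) Γ((Scheme.Modules.pushforward f).obj F, W) _ _
      (Module.compHom _ (q.appLE V W hWV).hom) ↔
    @Module.Flat Γ(S, V) Γ(F, f ⁻¹ᵁ W) _ _
      (Module.compHom _ ((f ≫ q).appLE V (f ⁻¹ᵁ W) hUV).hom) := by
  letI m1 : Module Γ(S, V) Γ((Scheme.Modules.pushforward f).obj F, W) :=
    Module.compHom _ (q.appLE V W hWV).hom
  letI m2 : Module Γ(S, V) Γ(F, f ⁻¹ᵁ W) :=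
    Module.compHom _ ((f ≫ q).appLE V (f ⁻¹ᵁ W) hUV).hom
  have hcomp : ∀ r : Γ(S, V), (f ≫ q).appLE V (f ⁻¹ᵁ W) hUV r = f.app W (q.appLE V W hWV r) := by
    intro r
    have h1 := Scheme.Hom.appLE_comp_appLE f q V W (f ⁻¹ᵁ W) hWV le_rfl
    rw [Scheme.Hom.appLE_eq_app] at h1
    exact (congrFun (congrArg DFunLike.coe (congrArg CommRingCat.Hom.hom h1)) r).symm
  let e : Γ((Scheme.Modules.pushforward f).obj F, W) ≃ₗ[Γ(S, V)] Γ(F, f ⁻¹ᵁ W) :=
    { toFun := fun y => y
      invFun := fun y => y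
      map_add' := fun _ _ => rfl
      map_smul' := fun r y => by
        show (show Γ((Scheme.Modules.pushforward f).obj F, W) from
          (f.app W (q.appLE V W hWV r)) • (show Γ(F, f ⁻¹ᵁ W) from y)) =
          ((f ≫ q).appLE V (f ⁻¹ᵁ W) hUV r) • (show Γ(F, f ⁻¹ᵁ W) from y)
        rw [hcomp]
      left_inv := fun _ => rfl
      right_inv := fun _ => rfl }
  exact Module.Flat.equiv_iff e

/-- For an affine morphism `f` and a quasi-coherent module `F`, flatness of `F` over `S` is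
equivalent to flatness of the direct image `f_* F` over `S`. -/
theorem isFlatOver_pushforward_iff [IsAffineHom f] [F.IsQuasicoherent] :
    FlatMod.IsFlatOver (f ≫ q) F ↔
      FlatMod.IsFlatOver q ((Scheme.Modules.pushforward f).obj F) := by
  haveI := isQuasicoherent_pushforward f F
  constructor
  · intro H y
    obtain ⟨V, hV, hsV, -⟩ := exists_isAffineOpen_mem_and_subset (x := q y)
      (U := (⊤ : S.Opens)) trivial
    obtain ⟨W, hW, hyW, hWV⟩ := exists_isAffineOpen_mem_and_subset (x := y)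
      (U := q ⁻¹ᵁ V) hsV
    have hU : IsAffineOpen (f ⁻¹ᵁ W) := hW.preimage f
    have hUV : f ⁻¹ᵁ W ≤ (f ≫ q) ⁻¹ᵁ V := fun x hx => hWV hx
    exact isFlatOverAt_of_flat_sections q _ hW hV hWV y hyW
      ((flat_sections_pushforward_iff f q F hWV hUV).mpr
        (flat_sections_of_isFlatOverAt (f ≫ q) F hU hV hUV (fun x _ => H x)))
  · intro H x
    obtain ⟨V, hV, hsV, -⟩ := exists_isAffineOpen_mem_and_subset (x := q (f x))
      (U := (⊤ : S.Opens)) trivial
    obtain ⟨W, hW, hyW, hWV⟩ := exists_isAffineOpen_mem_and_subset (x := f x)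
      (U := q ⁻¹ᵁ V) hsV
    have hU : IsAffineOpen (f ⁻¹ᵁ W) := hW.preimage f
    have hUV : f ⁻¹ᵁ W ≤ (f ≫ q) ⁻¹ᵁ V := fun x hx => hWV hx
    exact isFlatOverAt_of_flat_sections (f ≫ q) F hU hV hUV x hyW
      ((flat_sections_pushforward_iff f q F hWV hUV).mp
        (flat_sections_of_isFlatOverAt q _ hW hV hWV (fun y _ => H y)))

end Groth.Agent.H8
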