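import Groth.Agent.H8.FlatFamily
import Groth.Agent.H8.PullbackStalk
import Groth.Agent.H8.FinType
import Groth.Agent.H8.CohAffine
import Groth.Agent.H8.FPAffine
import Mathlib

/-!
fpqc descent of finite type / finite presentation for quasi-coherent modules.
-/

set_option autoImplicit false
set_option linter.style.haveILetI false
universe u

open CategoryTheory CategoryTheory.Limits AlgebraicGeometry TopologicalSpace Opposite TensorProduct

namespace Groth.Agent.H8

variable {X' X : Scheme.{u}} (f : X' ⟶ X)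

/-- Over an affine open `V` of the target of a flat, surjective, quasi-compact morphism, the
preimage is covered by finitely many affine opens whose rings form a jointly surjective flat
family over `Γ(X, V)`. -/
theorem exists_flat_family [Flat f] [Surjective f] [QuasiCompact f] {V : X.Opens}
    (hV : IsAffineOpen V) :
    ∃ (s : Set X'.affineOpens) (_ : s.Finite) (hle : ∀ i : s, (i.1 : X'.Opens) ≤ f ⁻¹ᵁ V),
      (∀ i : s, (f.appLE V (i.1 : X'.Opens) (hle i)).hom.Flat) ∧
      ∀ p : PrimeSpectrum Γ(X, V), ∃ (i : s) (q : PrimeSpectrum Γ(X', (i.1 : X'.Opens))),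
        q.comap (f.appLE V (i.1 : X'.Opens) (hle i)).hom = p := by
  have hc : IsCompact ((f ⁻¹ᵁ V : X'.Opens) : Set X') :=
    QuasiCompact.isCompact_preimage (f := f) V V.2 hV.isCompact
  obtain ⟨s, hs, hU⟩ := isCompact_iff_finite_and_eq_biUnion_affineOpens.mp hc
  have hle : ∀ i : s, (i.1 : X'.Opens) ≤ f ⁻¹ᵁ V := by
    intro i
    rw [hU]
    exact le_iSup₂ (f := fun (j : X'.affineOpens) (_ : j ∈ s) => (j : X'.Opens)) i.1 i.2
  refine ⟨s, hs, hle, fun i => Scheme.Hom.flat_appLE f hV i.1.2 (hle i), ?_⟩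
  intro p
  have hpV : hV.fromSpec p ∈ V := by
    rw [← SetLike.mem_coe, ← hV.range_fromSpec]
    exact ⟨p, rfl⟩
  have hprime : hV.primeIdealOf ⟨hV.fromSpec p, hpV⟩ = p := by
    apply hV.fromSpec.isOpenEmbedding.injective
    rw [hV.fromSpec_primeIdealOf]
  obtain ⟨x', hx'⟩ := f.surjective (hV.fromSpec p)
  have hx'V : x' ∈ f ⁻¹ᵁ V := by
    show f x' ∈ V
    rw [hx']; exact hpV
  rw [hU] at hx'V
  obtain ⟨i, hi⟩ := Opens.mem_iSup.mp hx'V
  obtain ⟨hi_s, hx'i⟩ := Opens.mem_iSup.mp hi
  refine ⟨⟨i, hi_s⟩, i.2.primeIdealOf ⟨x', hx'i⟩, ?_⟩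
  have h1 := IsAffineOpen.comap_primeIdealOf_appLE (f := f) (x := x') V hV (i : X'.Opens) i.2
    (hle ⟨i, hi_s⟩) hx'i
  rw [h1, ← hprime]
  congr 1
  exact Subtype.ext hx'

variable (M : X.Modules) [M.IsQuasicoherent]

/-- fpqc descent of finiteness of sections over an affine open. -/
theorem finite_sections_of_pullback [Flat f] [Surjective f] [QuasiCompact f] {V : X.Opens}
    (hV : IsAffineOpen V)
    (h : ∀ W : X'.affineOpens, (W : X'.Opens) ≤ f ⁻¹ᵁ V →
      Module.Finite Γ(X', (W : X'.Opens)) Γ((Scheme.Modules.pullback f).obj M, (W : X'.Opens))) :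
    Module.Finite Γ(X, V) Γ(M, V) := by
  obtain ⟨s, hs, hle, hflat, hsurj⟩ := exists_flat_family f hV
  haveI : Finite s := hs.to_subtype
  letI alg : ∀ i : s, Algebra Γ(X, V) Γ(X', (i.1 : X'.Opens)) :=
    fun i => (f.appLE V (i.1 : X'.Opens) (hle i)).hom.toAlgebra
  haveI : ∀ i : s, Module.Flat Γ(X, V) Γ(X', (i.1 : X'.Opens)) := fun i => hflat i
  refine finite_of_forall_tensor_finite (A := Γ(X, V)) (ι := s)
    (fun i => Γ(X', (i.1 : X'.Opens))) hsurj Γ(M, V) ?_
  intro i
  haveI := h i.1 (hle i)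
  obtain ⟨E⟩ : Nonempty (Γ((Scheme.Modules.pullback f).obj M, (i.1 : X'.Opens))
      ≃ₗ[Γ(X', (i.1 : X'.Opens))]
      TensorProduct Γ(X, V) Γ(X', (i.1 : X'.Opens)) Γ(M, V)) :=
    ⟨sectionsPullbackEquiv f M hV i.1.2 (hle i)⟩
  exact Module.Finite.equiv E

/-- fpqc descent of finite presentation of sections over an affine open. -/
theorem finitePresentation_sections_of_pullback [Flat f] [Surjective f] [QuasiCompact f]
    {V : X.Opens} (hV : IsAffineOpen V)
    (h : ∀ W : X'.affineOpens, (W : X'.Opens) ≤ f ⁻¹ᵁ V →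
      Module.FinitePresentation Γ(X', (W : X'.Opens))
        Γ((Scheme.Modules.pullback f).obj M, (W : X'.Opens))) :
    Module.FinitePresentation Γ(X, V) Γ(M, V) := by
  obtain ⟨s, hs, hle, hflat, hsurj⟩ := exists_flat_family f hV
  haveI : Finite s := hs.to_subtype
  letI alg : ∀ i : s, Algebra Γ(X, V) Γ(X', (i.1 : X'.Opens)) :=
    fun i => (f.appLE V (i.1 : X'.Opens) (hle i)).hom.toAlgebra
  haveI : ∀ i : s, Module.Flat Γ(X, V) Γ(X', (i.1 : X'.Opens)) := fun i => hflat i
  refine finitePresentation_of_forall_tensor_finitePresentation (A := Γ(X, V)) (ι := s)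
    (fun i => Γ(X', (i.1 : X'.Opens))) hsurj Γ(M, V) ?_
  intro i
  haveI := h i.1 (hle i)
  obtain ⟨E⟩ : Nonempty (Γ((Scheme.Modules.pullback f).obj M, (i.1 : X'.Opens))
      ≃ₗ[Γ(X', (i.1 : X'.Opens))]
      TensorProduct Γ(X, V) Γ(X', (i.1 : X'.Opens)) Γ(M, V)) :=
    ⟨sectionsPullbackEquiv f M hV i.1.2 (hle i)⟩
  exact Module.FinitePresentation.of_equiv E

/-- fpqc descent of finite type for quasi-coherent modules. -/
theorem isFiniteType_of_pullback [Flat f] [Surjective f] [QuasiCompact f]
    [SheafOfModules.IsFiniteType (R := X'.ringCatSheaf) ((Scheme.Modules.pullback f).obj M)] :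
    SheafOfModules.IsFiniteType (R := X.ringCatSheaf) M := by
  haveI := isQuasicoherent_pullback f M
  apply isFiniteType_of_forall_affine_finite
  intro V
  exact finite_sections_of_pullback f M V.2
    (fun W _ => finite_sections_of_isAffineOpen ((Scheme.Modules.pullback f).obj M) W.2)

/-- fpqc descent of finite presentation for quasi-coherent modules. -/
theorem isFinitePresentation_of_pullback [Flat f] [Surjective f] [QuasiCompact f]
    [SheafOfModules.IsFinitePresentation (R := X'.ringCatSheaf)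
      ((Scheme.Modules.pullback f).obj M)] :
    SheafOfModules.IsFinitePresentation (R := X.ringCatSheaf) M := by
  haveI := isQuasicoherent_pullback f M
  apply isFinitePresentation_of_forall_affine_finitePresentation
  intro V
  exact finitePresentation_sections_of_pullback f M V.2
    (fun W _ => finitePresentation_sections_of_isAffineOpen
      ((Scheme.Modules.pullback f).obj M) W.2)

end Groth.Agent.H8
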