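import Groth.Agent.H22.PullGen
import Groth.Agent.H18.TensorPowIso

/-!
# A morphism between trivial invertible modules whose direct image is an isomorphism (helper8)

* `isIso_of_isUnit_endVal` : an endomorphism of `O_X` whose value at `1` is a unit is an iso.
* `isIso_of_isIso_pushforward` : `ψ : P₁ ⟶ P₂` with `P₁ ≅ O_X ≅ P₂` and `f_* ψ` an isomorphism
  (for any morphism `f : X ⟶ S`) is an isomorphism.
-/

set_option autoImplicit false
set_option linter.style.haveILetI false
universe u
open CategoryTheory CategoryTheory.Limits AlgebraicGeometry TopologicalSpace Opposite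

namespace Groth.Agent.H8

open Groth.Agent.H18.SecTw Groth.Agent.H18 Groth.Agent.H22.PullGen

variable {X : Scheme.{u}}

theorem secHom_sv_top' {N : X.Modules} (s : Coh.structureModule X ⟶ N) :
    TensorPowIso.secHom N (sv s ⊤) = s := by
  unfold TensorPowIso.secHom
  refine (Equiv.symm_apply_eq _).mpr ?_
  apply Subtype.ext
  funext V
  exact sv_res s le_top

theorem hom_ext_sv_top' {N : X.Modules} (s s' : Coh.structureModule X ⟶ N)
    (h : sv s ⊤ = sv s' ⊤) : s = s' := by
  rw [← secHom_sv_top' s, ← secHom_sv_top' s', h]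

theorem sv_secHom_top' (N : X.Modules) (t : Γ(N, ⊤)) :
    sv (TensorPowIso.secHom N t) ⊤ = t := by
  rw [TensorPowIso.sv_secHom]
  have h : (homOfLE (le_top : (⊤ : X.Opens) ≤ ⊤)).op = 𝟙 (op (⊤ : X.Opens)) := rfl
  rw [h, CategoryTheory.Functor.map_id]
  rfl

/-- An endomorphism of the structure module whose value at `1` is a unit is an isomorphism. -/
theorem isIso_of_isUnit_endVal (ω : Coh.structureModule X ⟶ Coh.structureModule X)
    (h : IsUnit (endVal ω)) : IsIso ω := by
  obtain ⟨v, hv⟩ := h.exists_right_inv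
  let τ : Coh.structureModule X ⟶ Coh.structureModule X :=
    TensorPowIso.secHom (Coh.structureModule X) (show Γ(Coh.structureModule X, ⊤) from v)
  have hτ : endVal τ = v := sv_secHom_top' _ _
  refine ⟨⟨τ, ?_, ?_⟩⟩
  · apply hom_ext_sv_top'
    show endVal (ω ≫ τ) = endVal (𝟙 _)
    rw [endVal_comp, hτ, hv, endVal_id]
  · apply hom_ext_sv_top'
    show endVal (τ ≫ ω) = endVal (𝟙 _)
    rw [endVal_comp, hτ, mul_comm, hv, endVal_id]

/-- An endomorphism of `O_X` whose direct image is an isomorphism is an isomorphism. -/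
theorem isIso_end_of_isIso_pushforward {S : Scheme.{u}} (f : X ⟶ S)
    (χ : Coh.structureModule X ⟶ Coh.structureModule X)
    (h : IsIso ((Scheme.Modules.pushforward f).map χ)) : IsIso χ := by
  apply isIso_of_isUnit_endVal
  haveI := h
  have hb : Function.Bijective (((Scheme.Modules.pushforward f).map χ).app ⊤) :=
    ConcreteCategory.bijective_of_isIso _
  have hb' : Function.Bijective (χ.app ⊤) := hb
  obtain ⟨w, hw⟩ := hb'.2 (show Γ(Coh.structureModule X, ⊤) from (1 : Γ(X, ⊤)))
  have h1 : w = (show Γ(X, ⊤) from w) • (show Γ(Coh.structureModule X, ⊤) from (1 : Γ(X, ⊤))) :=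
    (mul_one (show Γ(X, ⊤) from w)).symm
  rw [h1, Scheme.Modules.Hom.app_smul] at hw
  have h2 : (show Γ(X, ⊤) from w) * endVal χ = 1 := hw
  exact IsUnit.of_mul_eq_one _ (by rw [mul_comm]; exact h2)

/-- A morphism between modules isomorphic to `O_X` whose direct image is an isomorphism is an
isomorphism. -/
theorem isIso_of_isIso_pushforward {S : Scheme.{u}} (f : X ⟶ S) {P₁ P₂ : X.Modules}
    (e₁ : P₁ ≅ Coh.structureModule X) (e₂ : P₂ ≅ Coh.structureModule X) (ψ : P₁ ⟶ P₂)
    (h : IsIso ((Scheme.Modules.pushforward f).map ψ)) : IsIso ψ := by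
  haveI := h
  have h1 : IsIso ((Scheme.Modules.pushforward f).map (e₁.inv ≫ ψ ≫ e₂.hom)) := by
    rw [Functor.map_comp, Functor.map_comp]
    infer_instance
  haveI := isIso_end_of_isIso_pushforward f _ h1
  have h2 : ψ = e₁.hom ≫ (e₁.inv ≫ ψ ≫ e₂.hom) ≫ e₂.inv := by simp
  rw [h2]
  infer_instance

end Groth.Agent.H8
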