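import Groth.Agent.H8.FreeRes
import Groth.Agent.H22.PullGen

set_option autoImplicit false
set_option linter.style.haveILetI false
universe u
open CategoryTheory CategoryTheory.Limits AlgebraicGeometry TopologicalSpace Opposite
open AlgebraicGeometry.Scheme.Modules

namespace Groth.Agent.H8.UnitFLF

variable {X S : Scheme.{u}} (g : X ⟶ S)

set_option backward.isDefEq.respectTransparency.types false in
/-- If `O_S(U) → O_X(g⁻¹U)` is bijective for all `U`, the unit `O_S ⟶ g_* g^* O_S` is an iso. -/
theorem isIso_unit_structureModule (hg : ∀ U : S.Opens, Function.Bijective (g.app U)) :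
    IsIso ((pullbackPushforwardAdjunction g).unit.app (Coh.structureModule S)) := by
  obtain ⟨υ, hυ⟩ : ∃ υ : Coh.structureModule S ⟶
      (Scheme.Modules.pushforward g).obj (Coh.structureModule X),
      υ = SheafOfModules.unitToPushforwardObjUnit g.toRingCatSheafHom := ⟨_, rfl⟩
  have h3 : (pullbackPushforwardAdjunction g).homEquiv _ _
      (Groth.Agent.H22.PullGen.pullbackUnitIso g).hom = υ := by
    rw [hυ]
    exact SheafOfModules.pullbackPushforwardAdjunction_homEquiv_pullbackObjUnitToUnit _
  rw [Adjunction.homEquiv_unit] at h3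
  haveI : IsIso υ := by
    apply isIso_of_bijective_basis υ (fun V : S.Opens => V)
    · rw [Opens.isBasis_iff_nbhd]
      intro W x hx
      exact ⟨W, ⟨W, rfl⟩, hx, le_rfl⟩
    · intro V
      rw [hυ]
      exact hg V
  have h4 : (pullbackPushforwardAdjunction g).unit.app (Coh.structureModule S) =
      υ ≫ inv ((pushforward g).map (Groth.Agent.H22.PullGen.pullbackUnitIso g).hom) := by
    rw [← h3, Category.assoc, IsIso.hom_inv_id, Category.comp_id]
  rw [h4]
  infer_instance

/-- The unit is an isomorphism at finite free modules. -/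
theorem isIso_unit_freeMod (hg : ∀ U : S.Opens, Function.Bijective (g.app U)) (n : ℕ) :
    IsIso ((pullbackPushforwardAdjunction g).unit.app (FlatMod.freeMod S n)) := by
  haveI := isIso_unit_structureModule g hg
  obtain ⟨η, hη⟩ : ∃ η : 𝟭 S.Modules ⟶ pullback g ⋙ pushforward g,
      η = (pullbackPushforwardAdjunction g).unit := ⟨_, rfl⟩
  rw [← hη]
  haveI : IsIso (η.app (Coh.structureModule S)) := by rw [hη]; infer_instance
  refine ⟨⟨∑ i, (pullback g ⋙ pushforward g).map (freeπ S n i) ≫
    inv (η.app (Coh.structureModule S)) ≫ freeι S n i, ?_, ?_⟩⟩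
  · rw [Preadditive.comp_sum]
    have : ∀ i, η.app (FlatMod.freeMod S n) ≫ (pullback g ⋙ pushforward g).map (freeπ S n i) ≫
        inv (η.app (Coh.structureModule S)) ≫ freeι S n i = freeπ S n i ≫ freeι S n i := by
      intro i
      have h1 := η.naturality (freeπ S n i)
      rw [Functor.id_map] at h1
      rw [← Category.assoc, ← h1, Category.assoc, IsIso.hom_inv_id_assoc]
    simp_rw [this]
    exact sum_freeπ_ι S n
  · rw [Preadditive.sum_comp]
    have : ∀ i, ((pullback g ⋙ pushforward g).map (freeπ S n i) ≫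
        inv (η.app (Coh.structureModule S)) ≫ freeι S n i) ≫ η.app (FlatMod.freeMod S n) =
        (pullback g ⋙ pushforward g).map (freeπ S n i ≫ freeι S n i) := by
      intro i
      have h1 := η.naturality (freeι S n i)
      rw [Functor.id_map] at h1
      rw [Category.assoc, Category.assoc, h1, IsIso.inv_hom_id_assoc, Functor.map_comp]
    simp_rw [this]
    rw [← Functor.map_sum, sum_freeπ_ι]
    exact CategoryTheory.Functor.map_id _ _

/-- The unit is an isomorphism at modules isomorphic to finite free modules. -/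
theorem isIso_unit_of_iso_freeMod (hg : ∀ U : S.Opens, Function.Bijective (g.app U)) (n : ℕ)
    (E : S.Modules) (e : E ≅ FlatMod.freeMod S n) :
    IsIso ((pullbackPushforwardAdjunction g).unit.app E) := by
  haveI := isIso_unit_freeMod g hg n
  exact (NatTrans.isIso_app_iff_of_iso (pullbackPushforwardAdjunction g).unit e).mpr inferInstance

section Local

variable (f : X ⟶ S) (W : S.Opens)

/-- The two composite right adjoints agree. -/
noncomputable def rightIso :
    pushforward (f ⁻¹ᵁ W).ι ⋙ pushforward f ≅ pushforward (f ∣_ W) ⋙ pushforward W.ι :=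
  pushforwardComp (f ⁻¹ᵁ W).ι f ≪≫ pushforwardCongr (morphismRestrict_ι f W).symm ≪≫
    (pushforwardComp (f ∣_ W) W.ι).symm

noncomputable def adj1 :
    pullback f ⋙ restrictFunctor (f ⁻¹ᵁ W).ι ⊣ pushforward (f ⁻¹ᵁ W).ι ⋙ pushforward f :=
  (pullbackPushforwardAdjunction f).comp (restrictAdjunction (f ⁻¹ᵁ W).ι)

noncomputable def adj2 :
    restrictFunctor W.ι ⋙ pullback (f ∣_ W) ⊣ pushforward (f ∣_ W) ⋙ pushforward W.ι :=
  (restrictAdjunction W.ι).comp (pullbackPushforwardAdjunction (f ∣_ W))

noncomputable def adj2' :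
    restrictFunctor W.ι ⋙ pullback (f ∣_ W) ⊣ pushforward (f ⁻¹ᵁ W).ι ⋙ pushforward f :=
  (adj2 f W).ofNatIsoRight (rightIso f W).symm

theorem unit_compat (N : S.Modules) :
    (adj1 f W).unit.app N ≫ (pushforward (f ⁻¹ᵁ W).ι ⋙ pushforward f).map
      (((adj1 f W).leftAdjointUniq (adj2' f W)).hom.app N) =
    (adj2 f W).unit.app N ≫ (rightIso f W).inv.app _ := by
  rw [Adjunction.unit_leftAdjointUniq_hom_app]
  simp [adj2']

lemma isIso_map_of_le_of_le {Y : Scheme.{u}} (M : Y.Modules) {A B : Y.Opens} (h : A ≤ B)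
    (h' : B ≤ A) : IsIso (M.presheaf.map (homOfLE h).op) := by
  haveI : IsIso (homOfLE h) := ⟨⟨homOfLE h', Subsingleton.elim _ _, Subsingleton.elim _ _⟩⟩
  infer_instance

lemma le_image_preimage_ι {Y : Scheme.{u}} (U V : Y.Opens) (hV : V ≤ U) :
    V ≤ U.ι ''ᵁ (U.ι ⁻¹ᵁ V) := by
  rw [Scheme.Hom.image_preimage_eq_opensRange_inf, Scheme.Opens.opensRange_ι]
  exact le_inf hV le_rfl

/-- If the unit of `f ∣_ W` at `N|_W` is an isomorphism, then the unit of `f` at `N` is bijective
on sections over opens contained in `W`. -/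
theorem unit_app_bijective_of_le (N : S.Modules)
    [IsIso ((pullbackPushforwardAdjunction (f ∣_ W)).unit.app (N.restrict W.ι))]
    (V : S.Opens) (hV : V ≤ W) :
    Function.Bijective (((pullbackPushforwardAdjunction f).unit.app N).app V) := by
  have h := congrArg (fun t => Scheme.Modules.Hom.app t V) (unit_compat f W N)
  simp only [adj1, adj2, Adjunction.comp_unit_app, Hom.comp_app, Functor.comp_map] at h
  haveI hb : IsIso (((pushforward f).map ((restrictAdjunction (f ⁻¹ᵁ W).ι).unit.app
      ((Scheme.Modules.pullback f).obj N))).app V) := by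
    rw [pushforward_map_app, restrictAdjunction_unit_app_app]
    exact isIso_map_of_le_of_le _ _ (le_image_preimage_ι _ _ (f.preimage_mono hV))
  haveI hd : IsIso (((restrictAdjunction W.ι).unit.app N).app V) := by
    rw [restrictAdjunction_unit_app_app]
    exact isIso_map_of_le_of_le _ _ (le_image_preimage_ι _ _ hV)
  haveI he : IsIso (((pushforward W.ι).map ((pullbackPushforwardAdjunction (f ∣_ W)).unit.app
      ((restrictFunctor W.ι).obj N))).app V) := by
    rw [pushforward_map_app]
    have h0 : IsIso ((pullbackPushforwardAdjunction (f ∣_ W)).unit.app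
        ((restrictFunctor W.ι).obj N)) := ‹_›
    exact Hom.isIso_iff_isIso_app.mp h0 _
  haveI hc : IsIso (Hom.app ((pushforward f).map ((pushforward (f ⁻¹ᵁ W).ι).map
      ((((pullbackPushforwardAdjunction f).comp (restrictAdjunction (f ⁻¹ᵁ W).ι)).leftAdjointUniq
        (adj2' f W)).hom.app N))) V) := Hom.isIso_iff_isIso_app.mp inferInstance _
  haveI hr : IsIso (Hom.app ((rightIso f W).inv.app
      ((restrictFunctor W.ι ⋙ Scheme.Modules.pullback (f ∣_ W)).obj N)) V) :=
    Hom.isIso_iff_isIso_app.mp inferInstance _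
  haveI h1 : IsIso ((Hom.app ((pullbackPushforwardAdjunction f).unit.app N) V ≫
      Hom.app ((pushforward f).map ((restrictAdjunction (f ⁻¹ᵁ W).ι).unit.app
        ((Scheme.Modules.pullback f).obj N))) V) ≫
      Hom.app ((pushforward f).map ((pushforward (f ⁻¹ᵁ W).ι).map
      ((((pullbackPushforwardAdjunction f).comp (restrictAdjunction (f ⁻¹ᵁ W).ι)).leftAdjointUniq
        (adj2' f W)).hom.app N))) V) := by
    rw [h]
    infer_instance
  haveI h2 : IsIso (Hom.app ((pullbackPushforwardAdjunction f).unit.app N) V ≫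
      Hom.app ((pushforward f).map ((restrictAdjunction (f ⁻¹ᵁ W).ι).unit.app
        ((Scheme.Modules.pullback f).obj N))) V) := IsIso.of_isIso_comp_right _
      (Hom.app ((pushforward f).map ((pushforward (f ⁻¹ᵁ W).ι).map
      ((((pullbackPushforwardAdjunction f).comp (restrictAdjunction (f ⁻¹ᵁ W).ι)).leftAdjointUniq
        (adj2' f W)).hom.app N))) V)
  haveI h3 : IsIso (Hom.app ((pullbackPushforwardAdjunction f).unit.app N) V) :=
    IsIso.of_isIso_comp_right _ (Hom.app ((pushforward f).map
      ((restrictAdjunction (f ⁻¹ᵁ W).ι).unit.app ((Scheme.Modules.pullback f).obj N))) V)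
  exact ConcreteCategory.bijective_of_isIso _

theorem morphismRestrict_app_bijective (hf : ∀ U : S.Opens, Function.Bijective (f.app U))
    (U : W.toScheme.Opens) : Function.Bijective ((f ∣_ W).app U) := by
  haveI : IsIso (X.presheaf.map (eqToHom (image_morphismRestrict_preimage f W U)).op) :=
    inferInstance
  have h2 : Function.Bijective
      (X.presheaf.map (eqToHom (image_morphismRestrict_preimage f W U)).op) :=
    ConcreteCategory.bijective_of_isIso _
  have h1 : ∀ x : Γ(S, W.ι ''ᵁ U), ((f ∣_ W).app U).hom x =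
      (X.presheaf.map (eqToHom (image_morphismRestrict_preimage f W U)).op).hom
        ((f.app (W.ι ''ᵁ U)).hom x) := by
    intro x
    rw [morphismRestrict_app]
    rfl
  have h3 : Function.Bijective (fun x : Γ(S, W.ι ''ᵁ U) =>
      (X.presheaf.map (eqToHom (image_morphismRestrict_preimage f W U)).op).hom
        ((f.app (W.ι ''ᵁ U)).hom x)) := h2.comp (hf _)
  constructor
  · intro a b hab
    exact h3.1 (((h1 a).symm.trans hab).trans (h1 b))
  · intro c
    obtain ⟨a, ha⟩ := h3.2 c
    exact ⟨a, (h1 a).trans ha⟩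

/-- If `O_S ≅ f_* O_X`, the unit `N ⟶ f_* f^* N` is an isomorphism for `N` finite locally free. -/
theorem isIso_unit_of_isFinLocFree (hf : ∀ U : S.Opens, Function.Bijective (f.app U))
    (N : S.Modules) (hN : FlatMod.IsFinLocFree N) :
    IsIso ((pullbackPushforwardAdjunction f).unit.app N) := by
  apply isIso_of_bijective_basis _
    (fun V : {V : S.Opens // ∃ (W : S.Opens) (n : ℕ), V ≤ W ∧
      Nonempty (N.restrict W.ι ≅ FlatMod.freeMod (↑W) n)} => V.1)
  · rw [Opens.isBasis_iff_nbhd]
    intro W' x hx
    obtain ⟨W, n, hxW, hW⟩ := hN x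
    exact ⟨W' ⊓ W, ⟨⟨W' ⊓ W, W, n, inf_le_right, hW⟩, rfl⟩, ⟨hx, hxW⟩, inf_le_left⟩
  · rintro ⟨V, W, n, hVW, ⟨e⟩⟩
    haveI := isIso_unit_of_iso_freeMod (f ∣_ W) (morphismRestrict_app_bijective f W hf) n _ e
    exact unit_app_bijective_of_le f W N V hVW

/-- If `O_S ≅ f_* O_X`, then `f^*` is bijective on morphisms into a finite locally free module. -/
theorem pullback_map_bijective (hf : ∀ U : S.Opens, Function.Bijective (f.app U))
    (N N' : S.Modules) (hN' : FlatMod.IsFinLocFree N') :
    Function.Bijective (fun φ : N ⟶ N' => (Scheme.Modules.pullback f).map φ) := by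
  haveI := isIso_unit_of_isFinLocFree f hf N' hN'
  have key : (fun φ : N ⟶ N' => (Scheme.Modules.pullback f).map φ) =
      ((pullbackPushforwardAdjunction f).homEquiv N ((Scheme.Modules.pullback f).obj N')).symm ∘
        (fun φ : N ⟶ N' => φ ≫ (pullbackPushforwardAdjunction f).unit.app N') := by
    funext φ
    rw [Function.comp_apply, Equiv.eq_symm_apply, Adjunction.homEquiv_unit]
    exact ((pullbackPushforwardAdjunction f).unit.naturality φ).symm
  rw [key]
  refine (Equiv.bijective _).comp ?_
  constructor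
  · intro a b hab
    exact (cancel_mono ((pullbackPushforwardAdjunction f).unit.app N')).mp hab
  · intro c
    exact ⟨c ≫ inv ((pullbackPushforwardAdjunction f).unit.app N'), by simp⟩

end Local

end Groth.Agent.H8.UnitFLF
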