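import Groth.Agent.H8.FpqcLocFree
import Groth.Agent.H8.PushIsoTriv
import Groth.Agent.H8.FlatBC
import Groth.Agent.H8.UnitFLF
import Groth.Agent.H8.UnitIso
import Groth.Agent.H8.InvRestrict
import Groth.Agent.H8.StructureCoh
import Groth.Agent.H8.QCohPush
import Groth.Agent.H8.LocFreeNearFinite
import Groth.Agent.H8.PullbackFaithful

/-!
# fpqc descent for direct images of invertible modules (helper8)

`f : X ⟶ Y` quasi-compact quasi-separated with `O_Y ≅ f_* O_X`, `g : Y' ⟶ Y` fpqc.
* `uMap_naturality` : naturality of the base change map in the module.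
* `isInvertible_pushforward_of_pullback_iso` : if `g^* f_* L ≅ O_{Y'}` then `f_* L` invertible.
* `isIso_counit_of_fpqc_trivial` : if moreover `g'^* L ≅ O_{X'}` then `f^* f_* L ⟶ L` is an iso.
-/

set_option autoImplicit false
set_option linter.style.haveILetI false
universe u
open CategoryTheory CategoryTheory.Limits AlgebraicGeometry TopologicalSpace Opposite
open AlgebraicGeometry.Scheme.Modules

namespace Groth.Agent.H8

open Groth.Agent.H8.AffBC Groth.Agent.H8.FlatBC

section Nat

variable {X S X' S' : Scheme.{u}} (f : X ⟶ S) (g : S' ⟶ S) (g' : X' ⟶ X) (f' : X' ⟶ S')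
  (hw : g' ≫ f = f' ≫ g)

lemma vMap_naturality {F₁ F₂ : X.Modules} (φ : F₁ ⟶ F₂) :
    (Scheme.Modules.pushforward f).map φ ≫ vMap f g g' f' hw F₂ =
      vMap f g g' f' hw F₁ ≫ (Scheme.Modules.pushforward g).map
        ((Scheme.Modules.pushforward f').map ((Scheme.Modules.pullback g').map φ)) := by
  unfold vMap
  have h1 := (pullbackPushforwardAdjunction g').unit.naturality φ
  simp only [Functor.id_obj, Functor.id_map, Functor.comp_obj, Functor.comp_map] at h1
  have h2 := (pushforwardComp g' f).hom.naturality ((Scheme.Modules.pullback g').map φ)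
  have h3 := (pushforwardCongr hw).hom.naturality ((Scheme.Modules.pullback g').map φ)
  have h4 := (pushforwardComp f' g).inv.naturality ((Scheme.Modules.pullback g').map φ)
  simp only [Functor.comp_map] at h2 h4
  rw [← Functor.map_comp_assoc, h1, Functor.map_comp_assoc]
  simp only [Category.assoc]
  rw [reassoc_of% h2, reassoc_of% h3, h4]

lemma uMap_naturality {F₁ F₂ : X.Modules} (φ : F₁ ⟶ F₂) :
    (Scheme.Modules.pullback g).map ((Scheme.Modules.pushforward f).map φ) ≫
        uMap f g g' f' hw F₂ =
      uMap f g g' f' hw F₁ ≫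
        (Scheme.Modules.pushforward f').map ((Scheme.Modules.pullback g').map φ) := by
  unfold uMap
  rw [← Adjunction.homEquiv_naturality_left_symm, vMap_naturality,
    Adjunction.homEquiv_naturality_right_symm]

end Nat

section Main

variable {X S X' S' : Scheme.{u}} {f : X ⟶ S} {g : S' ⟶ S} {g' : X' ⟶ X} {f' : X' ⟶ S'}

/-- fpqc descent of invertibility of a quasi-coherent module. -/
theorem isInvertible_of_pullback_iso [Flat g] [Surjective g] [QuasiCompact g]
    (N : S.Modules) [N.IsQuasicoherent] {P : S'.Modules} (hP : PicF.IsInvertible P)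
    (e : (Scheme.Modules.pullback g).obj N ≅ P) : PicF.IsInvertible N := by
  apply isInvertible_of_isFinLocFreeOfRank_one
  apply isFinLocFreeOfRank_of_pullback g N 1
  exact isFinLocFreeOfRank_one_of_isInvertible (isInvertible_of_iso e.symm hP)

/-- If the unit at `f_* L` is an isomorphism, then `f_*` of the counit at `L` is an isomorphism. -/
theorem isIso_pushforward_counit (L : X.Modules)
    (hu : IsIso ((pullbackPushforwardAdjunction f).unit.app
      ((Scheme.Modules.pushforward f).obj L))) :
    IsIso ((Scheme.Modules.pushforward f).map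
      ((pullbackPushforwardAdjunction f).counit.app L)) := by
  have h1 := (pullbackPushforwardAdjunction f).right_triangle_components L
  exact IsIso.of_isIso_fac_left h1

variable (h : IsPullback g' f' f g) [QuasiCompact f] [QuasiSeparated f] [Flat g]

include h in
/-- Flat base change transports "`f_* φ` is an isomorphism" to "`f'_* g'^* φ` is an isomorphism". -/
theorem isIso_pushforward_pullback_map {F₁ F₂ : X.Modules} [F₁.IsQuasicoherent]
    [F₂.IsQuasicoherent] (φ : F₁ ⟶ F₂) (hφ : IsIso ((Scheme.Modules.pushforward f).map φ)) :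
    IsIso ((Scheme.Modules.pushforward f').map ((Scheme.Modules.pullback g').map φ)) := by
  haveI := isIso_uMap_of_flat h F₁
  haveI := isIso_uMap_of_flat h F₂
  have h1 := uMap_naturality f g g' f' h.w φ
  have h2 : (Scheme.Modules.pushforward f').map ((Scheme.Modules.pullback g').map φ) =
      inv (uMap f g g' f' h.w F₁) ≫
        (Scheme.Modules.pullback g).map ((Scheme.Modules.pushforward f).map φ) ≫
        uMap f g g' f' h.w F₂ := by
    rw [h1, IsIso.inv_hom_id_assoc]
  rw [h2]
  infer_instance

/-- A flat surjective pullback reflects isomorphisms. -/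
theorem isIso_of_isIso_pullback_map {X Y : Scheme.{u}} (p : X ⟶ Y) [Flat p] [Surjective p]
    {F G : Y.Modules} (φ : F ⟶ G) (hφ : IsIso ((Scheme.Modules.pullback p).map φ)) : IsIso φ := by
  haveI := faithful_pullback p
  haveI : Mono φ := (Scheme.Modules.pullback p).mono_of_mono_map inferInstance
  haveI : Epi φ := (Scheme.Modules.pullback p).epi_of_epi_map inferInstance
  exact isIso_of_mono_of_epi φ

end Main

end Groth.Agent.H8
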