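import Mathlib.AlgebraicGeometry.Geometrically.Basic
import Mathlib.AlgebraicGeometry.Morphisms.UnderlyingMap
import Mathlib.RingTheory.TensorProduct.Nontrivial
import Mathlib.RingTheory.Ideal.Quotient.Basic

set_option autoImplicit false
universe u

namespace Groth.Agent.H8

open AlgebraicGeometry CategoryTheory Limits TensorProduct

/-- Two field extensions of `k` embed in a common field extension. -/
lemma exists_field_compositum (k K k' : Type u) [Field k] [Field K] [Field k'] [Algebra k K]
    [Algebra k k'] :
    ∃ (L : Type u) (_ : Field L) (i : K →+* L) (j : k' →+* L),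
      i.comp (algebraMap k K) = j.comp (algebraMap k k') := by
  haveI : Nontrivial (K ⊗[k] k') :=
    Algebra.TensorProduct.nontrivial_of_algebraMap_injective_of_isDomain k K k'
      (algebraMap k K).injective (algebraMap k k').injective
  obtain ⟨m, hm⟩ := Ideal.exists_maximal (K ⊗[k] k')
  letI : Field ((K ⊗[k] k') ⧸ m) := Ideal.Quotient.field m
  refine ⟨(K ⊗[k] k') ⧸ m, inferInstance,
    (Ideal.Quotient.mk m).comp (Algebra.TensorProduct.includeLeftRingHom),
    (Ideal.Quotient.mk m).comp (Algebra.TensorProduct.includeRight (R := k) (A := K) (B := k')).toRingHom,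
    ?_⟩
  ext x
  simp only [RingHom.coe_comp, Function.comp_apply, AlgHom.toRingHom_eq_coe, RingHom.coe_coe,
    Algebra.TensorProduct.includeLeftRingHom_apply, Algebra.TensorProduct.includeRight_apply]
  congr 1
  rw [Algebra.algebraMap_eq_smul_one, Algebra.algebraMap_eq_smul_one, TensorProduct.smul_tmul]

lemma surjective_SpecMap_of_field {K L : Type u} [Field K] [Field L] (i : K →+* L) :
    Surjective (Spec.map (CommRingCat.ofHom i)) := by
  constructor
  intro x
  obtain ⟨y⟩ : Nonempty (Spec (CommRingCat.of L)) := inferInstance
  exact ⟨y, Subsingleton.elim _ _⟩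

/-- If `P` passes to surjective images, then "geometrically `P`" for a scheme over a field `k` can
be checked after base change to an arbitrary field extension `k'`. -/
lemma geometrically_of_baseChange_field (P : ObjectProperty Scheme.{u})
    (hP : ∀ {Z W : Scheme.{u}} (h : Z ⟶ W), Surjective h → P Z → P W)
    (k k' : Type u) [Field k] [Field k'] [Algebra k k'] {X : Scheme.{u}}
    (f : X ⟶ Spec (CommRingCat.of k))
    (h : geometrically P (pullback.snd f (Spec.map (CommRingCat.ofHom (algebraMap k k'))))) :
    geometrically P f := by
  rw [geometrically_iff_of_commRing]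
  intro K _ _ Z fst snd hpb
  obtain ⟨L, _, i, j, hij⟩ := exists_field_compositum k K k'
  let g := Spec.map (CommRingCat.ofHom (algebraMap k k'))
  let g' := Spec.map (CommRingCat.ofHom j)
  let f' := pullback.snd f g
  have hPL : P (pullback f' g') := pullback_of_geometrically h L g'
  have hcomp : g' ≫ g = Spec.map (CommRingCat.ofHom i) ≫
      Spec.map (CommRingCat.ofHom (algebraMap k K)) := by
    simp only [g, g']
    rw [← Spec.map_comp, ← Spec.map_comp, ← CommRingCat.ofHom_comp, ← CommRingCat.ofHom_comp, hij]
  have hbig : IsPullback (pullback.fst f' g' ≫ pullback.fst f g) (pullback.snd f' g') f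
      (Spec.map (CommRingCat.ofHom i) ≫ Spec.map (CommRingCat.ofHom (algebraMap k K))) := by
    rw [← hcomp]
    exact (IsPullback.of_hasPullback f' g').paste_horiz (IsPullback.of_hasPullback f g)
  have hleft := IsPullback.of_right' hbig hpb
  have hsurj : Surjective (Spec.map (CommRingCat.ofHom i)) := surjective_SpecMap_of_field i
  have hsurj' := MorphismProperty.of_isPullback (P := @Surjective) hleft.flip hsurj
  exact hP _ hsurj' hPL

end Groth.Agent.H8
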