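import Mathlib.AlgebraicGeometry.Group.Smooth
import Mathlib.AlgebraicGeometry.Group.Abelian
import Mathlib.CategoryTheory.Monoidal.Cartesian.Over
import Mathlib.CategoryTheory.Monoidal.Cartesian.Grp
import Groth.Agent.H8.ConormalSection
import Groth.Agent.S9386
import Groth.Agent.H22.PullGen

/-!
# Differentials of a group scheme are translation invariant

For a group scheme `G` over `S` with structure morphism `f` and unit section `e`:
`Ω_{G/S} ≅ f^* e^* Ω_{G/S} ≅ f^* C_{S/G}`.
-/

set_option autoImplicit false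
set_option linter.style.haveILetI false
universe u
open CategoryTheory CategoryTheory.Limits AlgebraicGeometry Opposite OmegaSh TopologicalSpace
open MonoidalCategory CartesianMonoidalCategory MonObj GrpObj

namespace Groth.Agent.H8.GrpOmega

open Groth.Agent.H39 Groth.Agent.H8

variable {S : Scheme.{u}} (G : Over S) [GrpObj G]

/-- The shear automorphism `(g, h) ↦ (g, gh)` of `G × G`. -/
noncomputable def shear : G ⊗ G ≅ G ⊗ G where
  hom := lift (fst G G) μ[G]
  inv := lift (fst G G) (lift (fst G G ≫ ι[G]) (snd G G) ≫ μ[G])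
  hom_inv_id := by
    apply CartesianMonoidalCategory.hom_ext
    · simp
    · simp only [Category.assoc, lift_snd, Category.id_comp]
      rw [comp_lift_assoc, lift_fst_assoc, lift_snd]
      rw [GrpObj.lift_inv_left_eq]
      simp
  inv_hom_id := by
    apply CartesianMonoidalCategory.hom_ext
    · simp
    · simp only [Category.assoc, lift_snd, Category.id_comp]
      rw [← GrpObj.eq_lift_inv_left]

lemma unit_comp : η[G].left ≫ G.hom = 𝟙 S := by simpa using Over.w η[G]

lemma mul_comp : μ[G].left ≫ G.hom = pullback.fst G.hom G.hom ≫ G.hom := by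
  simpa using Over.w μ[G]

/-- The multiplication square is cartesian. -/
lemma isPullback_mul :
    IsPullback μ[G].left (pullback.fst G.hom G.hom) G.hom G.hom := by
  have h0 : IsPullback (pullback.snd G.hom G.hom) (pullback.fst G.hom G.hom) G.hom G.hom :=
    (IsPullback.of_hasPullback G.hom G.hom).flip
  refine IsPullback.of_iso h0 ((Over.forget S).mapIso (shear G)).symm (Iso.refl _) (Iso.refl _)
    (Iso.refl _) ?_ ?_ (by simp) (by simp)
  · change pullback.snd G.hom G.hom ≫ 𝟙 _ = (shear G).inv.left ≫ μ[G].left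
    rw [Category.comp_id, ← Over.comp_left]
    have : (shear G).inv ≫ μ[G] = snd G G := by
      have h1 : (shear G).inv ≫ (shear G).hom ≫ snd G G = snd G G := by
        rw [Iso.inv_hom_id_assoc]
      rw [← h1]
      congr 1
      simp [shear]
    rw [this]
    rfl
  · change pullback.fst G.hom G.hom ≫ 𝟙 _ = (shear G).inv.left ≫ pullback.fst G.hom G.hom
    rw [Category.comp_id]
    have : (shear G).inv ≫ fst G G = fst G G := by simp [shear]
    exact congrArg (fun t => CommaMorphism.left t) this.symm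

/-- The section `g ↦ (g, e)` of the first projection. -/
noncomputable def τ : G.left ⟶ pullback G.hom G.hom :=
  (lift (𝟙 G) (toUnit G ≫ η[G])).left

lemma τ_fst : τ G ≫ pullback.fst G.hom G.hom = 𝟙 _ := by
  have : lift (𝟙 G) (toUnit G ≫ η[G]) ≫ fst G G = 𝟙 G := lift_fst _ _
  exact congrArg (fun t => CommaMorphism.left t) this

lemma τ_snd : τ G ≫ pullback.snd G.hom G.hom = G.hom ≫ η[G].left := by
  have : lift (𝟙 G) (toUnit G ≫ η[G]) ≫ snd G G = toUnit G ≫ η[G] := lift_snd _ _
  exact congrArg (fun t => CommaMorphism.left t) this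

lemma τ_mul : τ G ≫ μ[G].left = 𝟙 _ := by
  have : lift (𝟙 G) (toUnit G ≫ η[G]) ≫ μ[G] = 𝟙 G := by simp
  exact congrArg (fun t => CommaMorphism.left t) this


variable [QuasiSeparated G.hom]

/-- Translation invariance: `Ω_{G/S} ≅ f^* e^* Ω_{G/S}`. -/
theorem nonempty_omega_iso_pullback_unit :
    Nonempty (Omega.sheaf G.hom ≅ (Scheme.Modules.pullback G.hom).obj
      ((Scheme.Modules.pullback η[G].left).obj (Omega.sheaf G.hom))) := by
  have hu := OmegaUniv.isUniversal_dOmega G.hom
  have hu₁ := OmegaUniv.isUniversal_dOmega (pullback.fst G.hom G.hom)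
  obtain ⟨c₁, hc₁, -⟩ := Groth.Agent.S9370.result G.hom (pullback.fst G.hom G.hom)
    (pullback.snd G.hom G.hom) G.hom pullback.condition _ (dOmega G.hom) hu _
    (dOmega (pullback.fst G.hom G.hom)) hu₁
  haveI : IsIso c₁ := Groth.Agent.S9386.result G.hom G.hom (pullback.snd G.hom G.hom)
    (pullback.fst G.hom G.hom) (IsPullback.of_hasPullback G.hom G.hom).flip _ _ hu _ _ hu₁ c₁ hc₁
  obtain ⟨c₂, hc₂, -⟩ := Groth.Agent.S9370.result G.hom (pullback.fst G.hom G.hom)
    μ[G].left G.hom (mul_comp G).symm _ (dOmega G.hom) hu _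
    (dOmega (pullback.fst G.hom G.hom)) hu₁
  haveI : IsIso c₂ := Groth.Agent.S9386.result G.hom G.hom μ[G].left
    (pullback.fst G.hom G.hom) (isPullback_mul G) _ _ hu _ _ hu₁ c₂ hc₂
  let Ω := Omega.sheaf G.hom
  -- `Ω ≅ (τ ≫ m)^* Ω ≅ τ^* m^* Ω`
  let e1 : Ω ≅ (Scheme.Modules.pullback (𝟙 G.left)).obj Ω :=
    ((Scheme.Modules.pullbackId G.left).app Ω).symm
  let e2 : (Scheme.Modules.pullback (𝟙 G.left)).obj Ω ≅
      (Scheme.Modules.pullback (τ G ≫ μ[G].left)).obj Ω :=
    (Scheme.Modules.pullbackCongr (τ_mul G).symm).app Ω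
  let e3 : (Scheme.Modules.pullback (τ G ≫ μ[G].left)).obj Ω ≅
      (Scheme.Modules.pullback (τ G)).obj ((Scheme.Modules.pullback μ[G].left).obj Ω) :=
    ((Scheme.Modules.pullbackComp (τ G) μ[G].left).app Ω).symm
  let e4 : (Scheme.Modules.pullback (τ G)).obj ((Scheme.Modules.pullback μ[G].left).obj Ω) ≅
      (Scheme.Modules.pullback (τ G)).obj
        ((Scheme.Modules.pullback (pullback.snd G.hom G.hom)).obj Ω) :=
    (Scheme.Modules.pullback (τ G)).mapIso (asIso c₂ ≪≫ (asIso c₁).symm)
  let e5 : (Scheme.Modules.pullback (τ G)).obj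
        ((Scheme.Modules.pullback (pullback.snd G.hom G.hom)).obj Ω) ≅
      (Scheme.Modules.pullback (τ G ≫ pullback.snd G.hom G.hom)).obj Ω :=
    (Scheme.Modules.pullbackComp (τ G) (pullback.snd G.hom G.hom)).app Ω
  let e6 : (Scheme.Modules.pullback (τ G ≫ pullback.snd G.hom G.hom)).obj Ω ≅
      (Scheme.Modules.pullback (G.hom ≫ η[G].left)).obj Ω :=
    (Scheme.Modules.pullbackCongr (τ_snd G)).app Ω
  let e7 : (Scheme.Modules.pullback (G.hom ≫ η[G].left)).obj Ω ≅
      (Scheme.Modules.pullback G.hom).obj ((Scheme.Modules.pullback η[G].left).obj Ω) :=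
    ((Scheme.Modules.pullbackComp G.hom η[G].left).app Ω).symm
  exact ⟨e1 ≪≫ e2 ≪≫ e3 ≪≫ e4 ≪≫ e5 ≪≫ e6 ≪≫ e7⟩

/-- `Ω_{G/S} ≅ f^* C_{S/G}`. -/
theorem nonempty_omega_iso_pullback_conormal :
    Nonempty (Omega.sheaf G.hom ≅
      (Scheme.Modules.pullback G.hom).obj (Omega.conormal η[G].left)) := by
  obtain ⟨e⟩ := nonempty_omega_iso_pullback_unit G
  obtain ⟨φ, -, hφ⟩ := ConormalSection.exists_isIso_conormalDiff G.hom η[G].left (unit_comp G)
  exact ⟨e ≪≫ (Scheme.Modules.pullback G.hom).mapIso (asIso φ).symm⟩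


section Field

/-- A quasi-coherent module on the spectrum of a field is free. -/
theorem free_of_isField (R : CommRingCat.{u}) (hR : IsField R) (M : (Spec R).Modules)
    [M.IsQuasicoherent] :
    ∃ I : Type u, Nonempty (M ≅ SheafOfModules.free.{u} I) := by
  let V : ModuleCat.{u} R := (modulesSpecToSheaf.obj M).presheaf.obj (.op ⊤)
  haveI : IsIso (Scheme.Modules.fromTildeΓ M) :=
    (isQuasicoherent_iff_isIso_fromTildeΓ M).mp inferInstance
  have e1 : tilde V ≅ M := asIso (Scheme.Modules.fromTildeΓ M)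
  have hfree : Module.Free R V := by
    letI := hR.toField
    exact Module.Free.of_divisionRing R V
  let I := Module.Free.ChooseBasisIndex R V
  let b : V ≃ₗ[R] (I →₀ R) := (Module.Free.chooseBasis R V).repr
  have e2 : V ≅ ModuleCat.of R (I →₀ R) := b.toModuleIso
  have e3 : tilde V ≅ tilde (ModuleCat.of R (I →₀ R)) := (tilde.functor R).mapIso e2
  exact ⟨I, ⟨e1.symm ≪≫ e3 ≪≫ tildeFinsupp I⟩⟩

/-- A quasi-coherent module on the spectrum of a field is a coproduct of copies of `O`. -/
theorem free_of_field (K : Type u) [Field K] (M : (Spec (CommRingCat.of K)).Modules)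
    [M.IsQuasicoherent] :
    ∃ I : Type u, Nonempty (M ≅ ∐ fun _ : I => Coh.structureModule (Spec (CommRingCat.of K))) :=
  free_of_isField (CommRingCat.of K) (Field.toIsField K) M

/-- Pullback of a quasi-coherent module from a scheme isomorphic to the spectrum of a field is a
coproduct of copies of the structure sheaf. -/
theorem pullback_free_of_field {X T : Scheme.{u}} (h : X ⟶ T) (K : Type u) [Field K]
    (a : T ≅ Spec (CommRingCat.of K)) (C : T.Modules) [C.IsQuasicoherent] :
    ∃ I : Type u, Nonempty ((Scheme.Modules.pullback h).obj C ≅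
      ∐ fun _ : I => Coh.structureModule X) := by
  let C' := (Scheme.Modules.pullback a.inv).obj C
  haveI : C'.IsQuasicoherent := isQuasicoherent_pullback a.inv C
  obtain ⟨I, ⟨eI⟩⟩ := free_of_field K C'
  refine ⟨I, ⟨?_⟩⟩
  -- `C ≅ a.hom^* C'`
  let e1 : C ≅ (Scheme.Modules.pullback a.hom).obj C' :=
    ((Scheme.Modules.pullbackId T).app C).symm ≪≫
      (Scheme.Modules.pullbackCongr a.hom_inv_id.symm).app C ≪≫
      ((Scheme.Modules.pullbackComp a.hom a.inv).app C).symm
  let e2 : (Scheme.Modules.pullback h).obj C ≅ (Scheme.Modules.pullback (h ≫ a.hom)).obj C' :=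
    (Scheme.Modules.pullback h).mapIso e1 ≪≫ (Scheme.Modules.pullbackComp h a.hom).app C'
  let e3 : (Scheme.Modules.pullback (h ≫ a.hom)).obj C' ≅
      (Scheme.Modules.pullback (h ≫ a.hom)).obj
        (∐ fun _ : I => Coh.structureModule (Spec (CommRingCat.of K))) :=
    (Scheme.Modules.pullback (h ≫ a.hom)).mapIso eI
  haveI : PreservesColimitsOfSize.{u, u} (Scheme.Modules.pullback (h ≫ a.hom)) :=
    (Scheme.Modules.pullbackPushforwardAdjunction (h ≫ a.hom)).leftAdjoint_preservesColimits
  let e4 : (Scheme.Modules.pullback (h ≫ a.hom)).obj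
        (∐ fun _ : I => Coh.structureModule (Spec (CommRingCat.of K))) ≅
      ∐ fun _ : I => (Scheme.Modules.pullback (h ≫ a.hom)).obj
        (Coh.structureModule (Spec (CommRingCat.of K))) :=
    PreservesCoproduct.iso (Scheme.Modules.pullback (h ≫ a.hom)) _
  let e5 : (∐ fun _ : I => (Scheme.Modules.pullback (h ≫ a.hom)).obj
        (Coh.structureModule (Spec (CommRingCat.of K)))) ≅
      ∐ fun _ : I => Coh.structureModule X :=
    Sigma.mapIso (fun _ => Groth.Agent.H22.PullGen.pullbackUnitIso (h ≫ a.hom))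
  exact e2 ≪≫ e3 ≪≫ e4 ≪≫ e5

end Field

/-- Over a field, `Ω_{G/S}` is free. -/
theorem exists_omega_iso_coprod (K : Type u) [Field K] (a : S ≅ Spec (CommRingCat.of K)) :
    ∃ I : Type u, Nonempty (Omega.sheaf G.hom ≅ ∐ fun _ : I => Coh.structureModule G.left) := by
  obtain ⟨e⟩ := nonempty_omega_iso_pullback_conormal G
  haveI : (ClSub.idealMod η[G].left.ker).IsQuasicoherent :=
    inferInstanceAs (kernel (ClSub.toSubscheme η[G].left.ker)).IsQuasicoherent
  haveI : (Omega.conormal η[G].left).IsQuasicoherent :=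
    isQuasicoherent_pullback η[G].left (ClSub.idealMod η[G].left.ker)
  obtain ⟨I, ⟨eI⟩⟩ := pullback_free_of_field G.hom K a (Omega.conormal η[G].left)
  exact ⟨I, ⟨e ≪≫ eI⟩⟩

end Groth.Agent.H8.GrpOmega
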