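import Groth.Prelude.Def_Grpd
import Groth.Agent.H8.ConormalSection
import Groth.Agent.S9386

/-!
# Differentials of a groupoid scheme

For a groupoid scheme `(U, R, s, t, c, e, i)` with `t` quasi-separated: `Ω_{R/U} ≅ s^* C_{U/R}`
(`R` over `U` via `t`).
-/

set_option autoImplicit false
set_option linter.style.haveILetI false
universe u
open CategoryTheory CategoryTheory.Limits AlgebraicGeometry Opposite OmegaSh TopologicalSpace

namespace Groth.Agent.H8.GrpdOmega

open Groth.Agent.H39 Groth.Agent.H8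

variable {S : Scheme.{u}} (G : Grpd.GroupoidScheme S)

lemma lift_c_congr {T : Scheme.{u}} {α α' β β' : T ⟶ G.R} (hα : α = α') (hβ : β = β')
    (h : α ≫ G.s = β ≫ G.t) (h' : α' ≫ G.s = β' ≫ G.t) :
    pullback.lift α β h ≫ G.c = pullback.lift α' β' h' ≫ G.c := by
  subst hα hβ
  rfl

lemma c_comp_t : G.c ≫ G.t = pullback.fst G.s G.t ≫ G.t := by
  have := G.comp_t (pullback.fst G.s G.t) (pullback.snd G.s G.t) pullback.condition
  rw [← this]
  congr 1
  rw [← Category.id_comp G.c]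
  congr 1
  apply pullback.hom_ext <;> simp

/-- The composition square is cartesian. -/
lemma isPullback_c : IsPullback G.c (pullback.fst G.s G.t) G.t G.t := by
  refine IsPullback.of_isLimit' ⟨c_comp_t G⟩ (PullbackCone.IsLimit.mk _
    (fun σ => pullback.lift σ.snd
      (pullback.lift (σ.snd ≫ G.i) σ.fst
        (by rw [Category.assoc, G.i_s, σ.condition]) ≫ G.c)
      (by rw [G.comp_t, Category.assoc, G.i_t])) ?_ ?_ ?_)
  · intro σ
    -- c(α, c(αi, γ)) = γ
    have h1 := G.assoc σ.snd (σ.snd ≫ G.i) σ.fst (by rw [Category.assoc, G.i_t])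
      (by rw [Category.assoc, G.i_s, σ.condition])
    rw [← h1]
    have h2 := G.e_comp σ.fst
    refine (lift_c_congr G ?_ rfl _ _).trans h2
    rw [G.comp_i, ← Category.assoc, ← Category.assoc, σ.condition]
  · intro σ
    exact pullback.lift_fst _ _ _
  · intro σ m hm₁ hm₂
    apply pullback.hom_ext
    · rw [pullback.lift_fst]; exact hm₂
    · rw [pullback.lift_snd]
      -- m ≫ snd = c(αi, γ)
      have hcond : (m ≫ pullback.fst G.s G.t) ≫ G.s = (m ≫ pullback.snd G.s G.t) ≫ G.t := by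
        rw [Category.assoc, Category.assoc, pullback.condition]
      have hm : m = pullback.lift (m ≫ pullback.fst G.s G.t) (m ≫ pullback.snd G.s G.t) hcond := by
        apply pullback.hom_ext <;> simp only [pullback.lift_fst, pullback.lift_snd]
      have h1 := G.assoc ((m ≫ pullback.fst G.s G.t) ≫ G.i) (m ≫ pullback.fst G.s G.t)
        (m ≫ pullback.snd G.s G.t) (by rw [Category.assoc, G.i_s]) hcond
      have h2 := G.e_comp (m ≫ pullback.snd G.s G.t)
      have h3 : pullback.lift ((m ≫ pullback.fst G.s G.t) ≫ G.i) (m ≫ pullback.fst G.s G.t)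
          (by rw [Category.assoc, G.i_s]) ≫ G.c =
          (m ≫ pullback.snd G.s G.t) ≫ G.t ≫ G.e := by
        rw [G.i_comp, ← Category.assoc, hcond, Category.assoc]
      rw [← h2]
      refine (lift_c_congr G h3.symm rfl _ _).trans (h1.trans ?_)
      refine lift_c_congr G (by rw [hm₂]) ?_ _ _
      rw [← hm, hm₁]

/-- The section `r ↦ (r, e(s(r)))`. -/
noncomputable def τ : G.R ⟶ pullback G.s G.t :=
  pullback.lift (𝟙 G.R) (G.s ≫ G.e) (by rw [Category.id_comp, Category.assoc, G.e_t, Category.comp_id])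

lemma τ_snd : τ G ≫ pullback.snd G.s G.t = G.s ≫ G.e := pullback.lift_snd _ _ _

lemma τ_c : τ G ≫ G.c = 𝟙 G.R := by
  have h := G.comp_e (𝟙 G.R)
  refine (lift_c_congr G rfl ?_ _ _).trans h
  rw [Category.id_comp]


variable [QuasiSeparated G.t]

/-- `Ω_{R/U} ≅ s^* e^* Ω_{R/U}` (with `R` over `U` via `t`). -/
theorem nonempty_omega_iso_pullback_unit :
    Nonempty (Omega.sheaf G.t ≅ (Scheme.Modules.pullback G.s).obj
      ((Scheme.Modules.pullback G.e).obj (Omega.sheaf G.t))) := by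
  have hu := OmegaUniv.isUniversal_dOmega G.t
  have hu₁ := OmegaUniv.isUniversal_dOmega (pullback.fst G.s G.t)
  obtain ⟨c₁, hc₁, -⟩ := Groth.Agent.S9370.result G.t (pullback.fst G.s G.t)
    (pullback.snd G.s G.t) G.s pullback.condition _ (dOmega G.t) hu _
    (dOmega (pullback.fst G.s G.t)) hu₁
  haveI : IsIso c₁ := Groth.Agent.S9386.result G.t G.s (pullback.snd G.s G.t)
    (pullback.fst G.s G.t) (IsPullback.of_hasPullback G.s G.t).flip _ _ hu _ _ hu₁ c₁ hc₁
  obtain ⟨c₂, hc₂, -⟩ := Groth.Agent.S9370.result G.t (pullback.fst G.s G.t)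
    G.c G.t (c_comp_t G).symm _ (dOmega G.t) hu _
    (dOmega (pullback.fst G.s G.t)) hu₁
  haveI : IsIso c₂ := Groth.Agent.S9386.result G.t G.t G.c
    (pullback.fst G.s G.t) (isPullback_c G) _ _ hu _ _ hu₁ c₂ hc₂
  let Ω := Omega.sheaf G.t
  let e1 : Ω ≅ (Scheme.Modules.pullback (𝟙 G.R)).obj Ω :=
    ((Scheme.Modules.pullbackId G.R).app Ω).symm
  let e2 : (Scheme.Modules.pullback (𝟙 G.R)).obj Ω ≅
      (Scheme.Modules.pullback (τ G ≫ G.c)).obj Ω :=
    (Scheme.Modules.pullbackCongr (τ_c G).symm).app Ω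
  let e3 : (Scheme.Modules.pullback (τ G ≫ G.c)).obj Ω ≅
      (Scheme.Modules.pullback (τ G)).obj ((Scheme.Modules.pullback G.c).obj Ω) :=
    ((Scheme.Modules.pullbackComp (τ G) G.c).app Ω).symm
  let e4 : (Scheme.Modules.pullback (τ G)).obj ((Scheme.Modules.pullback G.c).obj Ω) ≅
      (Scheme.Modules.pullback (τ G)).obj
        ((Scheme.Modules.pullback (pullback.snd G.s G.t)).obj Ω) :=
    (Scheme.Modules.pullback (τ G)).mapIso (asIso c₂ ≪≫ (asIso c₁).symm)
  let e5 : (Scheme.Modules.pullback (τ G)).obj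
        ((Scheme.Modules.pullback (pullback.snd G.s G.t)).obj Ω) ≅
      (Scheme.Modules.pullback (τ G ≫ pullback.snd G.s G.t)).obj Ω :=
    (Scheme.Modules.pullbackComp (τ G) (pullback.snd G.s G.t)).app Ω
  let e6 : (Scheme.Modules.pullback (τ G ≫ pullback.snd G.s G.t)).obj Ω ≅
      (Scheme.Modules.pullback (G.s ≫ G.e)).obj Ω :=
    (Scheme.Modules.pullbackCongr (τ_snd G)).app Ω
  let e7 : (Scheme.Modules.pullback (G.s ≫ G.e)).obj Ω ≅
      (Scheme.Modules.pullback G.s).obj ((Scheme.Modules.pullback G.e).obj Ω) :=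
    ((Scheme.Modules.pullbackComp G.s G.e).app Ω).symm
  exact ⟨e1 ≪≫ e2 ≪≫ e3 ≪≫ e4 ≪≫ e5 ≪≫ e6 ≪≫ e7⟩

/-- `s^* C_{U/R} ≅ Ω_{R/U}`. -/
theorem nonempty_pullback_conormal_iso_omega :
    Nonempty ((Scheme.Modules.pullback G.s).obj (Omega.conormal G.e) ≅ Omega.sheaf G.t) := by
  obtain ⟨e⟩ := nonempty_omega_iso_pullback_unit G
  obtain ⟨φ, -, hφ⟩ := ConormalSection.exists_isIso_conormalDiff G.t G.e G.e_t
  exact ⟨(Scheme.Modules.pullback G.s).mapIso (asIso φ) ≪≫ e.symm⟩

end Groth.Agent.H8.GrpdOmega
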