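import Mathlib.RingTheory.Kaehler.Basic
import Mathlib.RingTheory.Ideal.Cotangent

/-!
# Kähler differentials as `I/I²` for any model of `B ⊗[A] B`

For a ring `P` with a ring isomorphism `e : B ⊗[A] B ≃+* P` and a map `μ : P → B'` which is the
multiplication up to an injective map `ρ : B → B'`, the cotangent module of `ker μ` is `Ω[B⁄A]`
(`cotEquiv`), and an additive map `Ω[B⁄A] → (ker μ)/(ker μ)²` with the expected values on `D c` and
the expected semilinearity is bijective (`bijective_of_D`).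
-/

set_option autoImplicit false
universe u
open TensorProduct

namespace Groth.Agent.H8.KaehlerCot

variable {A B P B' : Type u} [CommRing A] [CommRing B] [CommRing P] [CommRing B'] [Algebra A B]
  (e : B ⊗[A] B ≃+* P) (μ : P →+* B') (ρ : B →+* B') (hρ : Function.Injective ρ)
  (hμ : ∀ b c : B, μ (e (b ⊗ₜ[A] c)) = ρ (b * c))

include hμ in
lemma mu_e (x : B ⊗[A] B) : μ (e x) = ρ (Algebra.TensorProduct.lmul' A x) := by
  induction x using TensorProduct.induction_on with
  | zero => simp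
  | tmul b c => rw [hμ, Algebra.TensorProduct.lmul'_apply_tmul]
  | add x y hx hy => simp only [map_add, hx, hy]

include hρ hμ in
lemma mem_ker_iff (x : B ⊗[A] B) :
    e x ∈ RingHom.ker μ ↔ x ∈ KaehlerDifferential.ideal A B := by
  rw [RingHom.mem_ker, mu_e e μ ρ hμ, KaehlerDifferential.ideal, RingHom.mem_ker,
    map_eq_zero_iff ρ hρ]

include hρ hμ in
lemma le_comap : KaehlerDifferential.ideal A B ≤
    (RingHom.ker μ).comap (e.toRingHom.toIntAlgHom : B ⊗[A] B →ₐ[ℤ] P) :=
  fun x hx => (mem_ker_iff e μ ρ hρ hμ x).mpr hx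

include hρ hμ in
lemma le_comap_symm : RingHom.ker μ ≤
    (KaehlerDifferential.ideal A B).comap (e.symm.toRingHom.toIntAlgHom : P →ₐ[ℤ] B ⊗[A] B) := by
  intro p hp
  have := (mem_ker_iff e μ ρ hρ hμ (e.symm p)).mp (by rwa [e.apply_symm_apply])
  exact this

/-- `Ω[B⁄A] ≃ I/I²` for `I` the kernel of the multiplication on a ring `P ≅ B ⊗[A] B`. -/
noncomputable def cotEquiv : Ω[B⁄A] ≃+ (RingHom.ker μ).Cotangent where
  toFun := Ideal.mapCotangent (KaehlerDifferential.ideal A B) (RingHom.ker μ)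
    (e.toRingHom.toIntAlgHom : B ⊗[A] B →ₐ[ℤ] P) (le_comap e μ ρ hρ hμ)
  invFun := Ideal.mapCotangent (RingHom.ker μ) (KaehlerDifferential.ideal A B)
    (e.symm.toRingHom.toIntAlgHom : P →ₐ[ℤ] B ⊗[A] B) (le_comap_symm e μ ρ hρ hμ)
  left_inv ω := by
    obtain ⟨x, rfl⟩ := Ideal.toCotangent_surjective _ ω
    rw [Ideal.mapCotangent_toCotangent, Ideal.mapCotangent_toCotangent]
    congr 1
    exact Subtype.ext (e.symm_apply_apply x.1)
  right_inv ω := by
    obtain ⟨x, rfl⟩ := Ideal.toCotangent_surjective _ ω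
    rw [Ideal.mapCotangent_toCotangent, Ideal.mapCotangent_toCotangent]
    congr 1
    exact Subtype.ext (e.apply_symm_apply x.1)
  map_add' := map_add _

lemma cotEquiv_toCotangent (x : KaehlerDifferential.ideal A B) :
    cotEquiv e μ ρ hρ hμ ((KaehlerDifferential.ideal A B).toCotangent x) =
      (RingHom.ker μ).toCotangent ⟨e x.1, (mem_ker_iff e μ ρ hρ hμ x.1).mpr x.2⟩ := rfl

lemma cotEquiv_D (c : B) :
    cotEquiv e μ ρ hρ hμ (KaehlerDifferential.D A B c) =
      (RingHom.ker μ).toCotangent ⟨e (1 ⊗ₜ c) - e (c ⊗ₜ 1), by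
        rw [← map_sub]
        exact (mem_ker_iff e μ ρ hρ hμ _).mpr
          (KaehlerDifferential.one_smul_sub_smul_one_mem_ideal A c)⟩ := by
  rw [KaehlerDifferential.D_apply, cotEquiv_toCotangent]
  congr 1
  exact Subtype.ext (map_sub e _ _)

lemma cotEquiv_smul' (p : B ⊗[A] B) (ω : Ω[B⁄A]) :
    cotEquiv e μ ρ hρ hμ (p • ω) = e p • cotEquiv e μ ρ hρ hμ ω := by
  obtain ⟨x, rfl⟩ := Ideal.toCotangent_surjective _ ω
  have h1 : p • (KaehlerDifferential.ideal A B).toCotangent x =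
      (KaehlerDifferential.ideal A B).toCotangent (p • x) := (map_smul _ p x).symm
  have h2 : e p • (RingHom.ker μ).toCotangent ⟨e x.1, (mem_ker_iff e μ ρ hρ hμ x.1).mpr x.2⟩ =
      (RingHom.ker μ).toCotangent (e p • ⟨e x.1, (mem_ker_iff e μ ρ hρ hμ x.1).mpr x.2⟩) :=
    (map_smul _ (e p) _).symm
  show cotEquiv e μ ρ hρ hμ (p • (KaehlerDifferential.ideal A B).toCotangent x) = _
  rw [h1, cotEquiv_toCotangent, cotEquiv_toCotangent, h2]
  congr 1
  exact Subtype.ext (map_mul e p x.1)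

lemma cotEquiv_smul (b : B) (ω : Ω[B⁄A]) :
    cotEquiv e μ ρ hρ hμ (b • ω) = e (b ⊗ₜ 1) • cotEquiv e μ ρ hρ hμ ω := by
  rw [← cotEquiv_smul']
  congr 1
  rw [← smul_one_smul (B ⊗[A] B) b ω]
  congr 1
  rw [Algebra.TensorProduct.one_def, TensorProduct.smul_tmul', smul_eq_mul, mul_one]

/-- Any additive map `Ω[B⁄A] → I/I²` with the right values on `D c` and the right semilinearity
is the canonical bijection. -/
theorem bijective_of_D (Φ : Ω[B⁄A] →+ (RingHom.ker μ).Cotangent)
    (hΦD : ∀ c : B, Φ (KaehlerDifferential.D A B c) = cotEquiv e μ ρ hρ hμ (KaehlerDifferential.D A B c))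
    (hΦs : ∀ (b : B) (ω : Ω[B⁄A]), Φ (b • ω) = e (b ⊗ₜ 1) • Φ ω) : Function.Bijective Φ := by
  have key : ∀ ω, Φ ω = cotEquiv e μ ρ hρ hμ ω := by
    intro ω
    have hω : ω ∈ Submodule.span B (Set.range (KaehlerDifferential.D A B)) := by
      rw [KaehlerDifferential.span_range_derivation]; trivial
    induction hω using Submodule.span_induction with
    | mem x hx =>
      obtain ⟨c, rfl⟩ := hx
      exact hΦD c
    | zero => rw [map_zero, map_zero]
    | add x y _ _ hx hy => rw [map_add, map_add, hx, hy]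
    | smul b x _ hx => rw [hΦs, cotEquiv_smul, hx]
  have : ⇑Φ = ⇑(cotEquiv e μ ρ hρ hμ) := funext key
  rw [this]
  exact (cotEquiv e μ ρ hρ hμ).bijective

end Groth.Agent.H8.KaehlerCot
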