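import Groth.Agent.H8.InvLocal

/-!
# Checking isomorphisms of modules on an open cover (helper8)

* `isIso_pushforward_pullback_map'` : if both base change maps are isomorphisms, `f_* φ` iso implies
  `f'_* g'^* φ` iso.
* `isIso_of_isIso_pullback_opens` : a morphism of modules whose pullbacks to the members of an
  open cover are isomorphisms is an isomorphism.
-/

set_option autoImplicit false
set_option linter.style.haveILetI false
universe u
open CategoryTheory CategoryTheory.Limits AlgebraicGeometry TopologicalSpace Opposite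
open AlgebraicGeometry.Scheme.Modules

namespace Groth.Agent.H8

open Groth.Agent.H8.AffBC

theorem isIso_pushforward_pullback_map' {X S X' S' : Scheme.{u}} (f : X ⟶ S) (g : S' ⟶ S)
    (g' : X' ⟶ X) (f' : X' ⟶ S') (hw : g' ≫ f = f' ≫ g) {F₁ F₂ : X.Modules} (φ : F₁ ⟶ F₂)
    (h₁ : IsIso (uMap f g g' f' hw F₁)) (h₂ : IsIso (uMap f g g' f' hw F₂))
    (hφ : IsIso ((Scheme.Modules.pushforward f).map φ)) :
    IsIso ((Scheme.Modules.pushforward f').map ((Scheme.Modules.pullback g').map φ)) := by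
  have h1 := uMap_naturality f g g' f' hw φ
  have h2 : (Scheme.Modules.pushforward f').map ((Scheme.Modules.pullback g').map φ) =
      inv (uMap f g g' f' hw F₁) ≫
        (Scheme.Modules.pullback g).map ((Scheme.Modules.pushforward f).map φ) ≫
        uMap f g g' f' hw F₂ := by
    rw [h1, IsIso.inv_hom_id_assoc]
  rw [h2]
  infer_instance

theorem isIso_of_isIso_pullback_opens {X : Scheme.{u}} {A B : X.Modules} (φ : A ⟶ B)
    (h : ∀ x : X, ∃ V : X.Opens, x ∈ V ∧ IsIso ((Scheme.Modules.pullback V.ι).map φ)) :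
    IsIso φ := by
  apply isIso_of_bijective_basis φ
    (fun T : {T : X.Opens // ∃ V : X.Opens, T ≤ V ∧
      IsIso ((Scheme.Modules.pullback V.ι).map φ)} => T.1)
  · rw [Opens.isBasis_iff_nbhd]
    intro W x hx
    obtain ⟨V, hxV, hV⟩ := h x
    exact ⟨W ⊓ V, ⟨⟨W ⊓ V, V, inf_le_right, hV⟩, rfl⟩, ⟨hx, hxV⟩, inf_le_left⟩
  · rintro ⟨T, V, hTV, hV⟩
    haveI : IsIso ((restrictFunctor V.ι).map φ) :=
      (NatIso.isIso_map_iff (restrictFunctorIsoPullback V.ι) φ).mpr hV
    have h1 := app_bijective_of_isIso ((restrictFunctor V.ι).map φ) (V.ι ⁻¹ᵁ T)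
    have e : V.ι ''ᵁ (V.ι ⁻¹ᵁ T) = T := by
      rw [Scheme.Hom.image_preimage_eq_opensRange_inf, Scheme.Opens.opensRange_ι]
      exact inf_eq_right.mpr hTV
    have h2 : Function.Bijective (φ.app (V.ι ''ᵁ (V.ι ⁻¹ᵁ T))) := h1
    rw [e] at h2
    exact h2

end Groth.Agent.H8
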