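import Groth.Prelude.Def_OmAff
import Groth.Agent.H39.ConormalSect
import Groth.Agent.H8.FlatBC
import Groth.Agent.H8.KaehlerCot

set_option autoImplicit false
set_option linter.style.haveILetI false
universe u
open CategoryTheory CategoryTheory.Limits AlgebraicGeometry Opposite OmegaSh TopologicalSpace
open scoped TensorProduct

namespace Groth.Agent.H8.OmegaSect

open Groth.Agent.H39 Groth.Agent.H8

variable {X Y : Scheme.{u}} (f : X ⟶ Y)

lemma isAffineOpen_diagNbhd {U : X.Opens} (hU : IsAffineOpen U) {V : Y.Opens}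
    (hV : IsAffineOpen V) (h : U ≤ f ⁻¹ᵁ V) : IsAffineOpen (diagNbhd f U) :=
  FlatBC.isAffineOpen_inf (IsPullback.of_hasPullback f f) hV hU h hU h

lemma preimage_diagNbhd (U : X.Opens) : pullback.diagonal f ⁻¹ᵁ diagNbhd f U = U :=
  le_antisymm (diagonal_preimage_le f le_rfl) (le_preimage_diagNbhd f U)

/-- The sections of `X ×_Y X` over `pr₁⁻¹ U ∩ pr₂⁻¹ U` are `Γ(X,U) ⊗ Γ(X,U)`. -/
lemma isPushout_diagNbhd {U : X.Opens} (hU : IsAffineOpen U) {V : Y.Opens}
    (hV : IsAffineOpen V) (h : U ≤ f ⁻¹ᵁ V) :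
    IsPushout (f.appLE V U h) (f.appLE V U h)
      ((pullback.fst f f).appLE U (diagNbhd f U) inf_le_left)
      ((pullback.snd f f).appLE U (diagNbhd f U) inf_le_right) :=
  (isIso_pushoutSection_iff (IsPullback.of_hasPullback f f) h h rfl).mp
    (isIso_pushoutSection_of_isAffineOpen (IsPullback.of_hasPullback f f) h h rfl hV hU hU)

variable [QuasiSeparated f]

lemma dSect_eq (U : X.Opens) (s : Γ(X, U)) :
    dSect f U s = (Omega.sheaf f).presheaf.map (homOfLE (le_preimage_diagNbhd f U)).op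
      (conormalSect (pullback.diagonal f) (diagNbhd f U) (idealLift f U s)) := rfl

lemma idealSect_idealLift (U : X.Opens) (s : Γ(X, U)) :
    idealSect (pullback.diagonal f).ker (diagNbhd f U) (idealLift f U s) = diagDiff f U s := by
  rw [idealSect_apply, ι_idealLift]
  rfl

set_option maxHeartbeats 1000000 in
theorem toSect_bijective {U : X.Opens} (hU : IsAffineOpen U) {V : Y.Opens}
    (hV : IsAffineOpen V) (h : U ≤ f ⁻¹ᵁ V) :
    Function.Bijective (OmAff.toSect f V U h).hom := by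
  have hW : IsAffineOpen (diagNbhd f U) := isAffineOpen_diagNbhd f hU hV h
  have hpre : pullback.diagonal f ⁻¹ᵁ diagNbhd f U = U := preimage_diagNbhd f U
  have hW' : IsAffineOpen (pullback.diagonal f ⁻¹ᵁ diagNbhd f U) := by rw [hpre]; exact hU
  have hpo := isPushout_diagNbhd f hU hV h
  letI algAB : Algebra Γ(Y, V) Γ(X, U) := (f.appLE V U h).hom.toAlgebra
  let e : Γ(X, U) ⊗[Γ(Y, V)] Γ(X, U) ≃+* Γ(pullback f f, diagNbhd f U) :=
    ((CommRingCat.isPushout_tensorProduct Γ(Y, V) Γ(X, U) Γ(X, U)).isoIsPushout _ _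
      hpo).commRingCatIsoToRingEquiv
  have he₁ : ∀ b : Γ(X, U), e (b ⊗ₜ 1) =
      (pullback.fst f f).appLE U (diagNbhd f U) inf_le_left b := fun b =>
    congr($((CommRingCat.isPushout_tensorProduct Γ(Y, V) Γ(X, U) Γ(X, U)).inl_isoIsPushout_hom
      _ _ hpo).hom b)
  have he₂ : ∀ c : Γ(X, U), e (1 ⊗ₜ c) =
      (pullback.snd f f).appLE U (diagNbhd f U) inf_le_right c := fun c =>
    congr($((CommRingCat.isPushout_tensorProduct Γ(Y, V) Γ(X, U) Γ(X, U)).inr_isoIsPushout_hom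
      _ _ hpo).hom c)
  let μ : Γ(pullback f f, diagNbhd f U) →+* Γ(X, pullback.diagonal f ⁻¹ᵁ diagNbhd f U) :=
    ((pullback.diagonal f).appLE (diagNbhd f U) (pullback.diagonal f ⁻¹ᵁ diagNbhd f U) le_rfl).hom
  let ρ : Γ(X, U) →+* Γ(X, pullback.diagonal f ⁻¹ᵁ diagNbhd f U) :=
    (X.presheaf.map (homOfLE hpre.le).op).hom
  have hρ : Function.Bijective ρ := by
    have : IsIso (X.presheaf.map (homOfLE hpre.le).op) := by
      have : IsIso (homOfLE hpre.le) := ⟨homOfLE hpre.ge, rfl, rfl⟩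
      infer_instance
    exact ConcreteCategory.bijective_of_isIso (X.presheaf.map (homOfLE hpre.le).op)
  have hμ₁ : ∀ b : Γ(X, U),
      μ ((pullback.fst f f).appLE U (diagNbhd f U) inf_le_left b) = ρ b := fun b => by
    have := diagonal_app_section f (pullback.fst f f) (pullback.diagonal_fst f) U
      (le_refl (diagNbhd f U)) inf_le_left hpre.le b
    rw [res_refl] at this
    rw [← this, Scheme.Hom.app_eq_appLE]
  have hμ₂ : ∀ b : Γ(X, U),
      μ ((pullback.snd f f).appLE U (diagNbhd f U) inf_le_right b) = ρ b := fun b => by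
    have := diagonal_app_section f (pullback.snd f f) (pullback.diagonal_snd f) U
      (le_refl (diagNbhd f U)) inf_le_right hpre.le b
    rw [res_refl] at this
    rw [← this, Scheme.Hom.app_eq_appLE]
  have hμ : ∀ b c : Γ(X, U), μ (e (b ⊗ₜ[Γ(Y, V)] c)) = ρ (b * c) := fun b c => by
    have : b ⊗ₜ[Γ(Y, V)] c = (b ⊗ₜ 1) * (1 ⊗ₜ c) := by
      rw [Algebra.TensorProduct.tmul_mul_tmul, mul_one, one_mul]
    rw [this, map_mul, map_mul, he₁, he₂, hμ₁, hμ₂, map_mul]
  have hsurj : Function.Surjective ((pullback.diagonal f).app (diagNbhd f U)) := by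
    intro y
    obtain ⟨b, rfl⟩ := hρ.2 y
    refine ⟨(pullback.fst f f).appLE U (diagNbhd f U) inf_le_left b, ?_⟩
    rw [Scheme.Hom.app_eq_appLE]
    exact hμ₁ b
  obtain ⟨Θ, hΘ₁, hΘ₂⟩ := ConormalSect.exists_conormal_equiv (pullback.diagonal f) hW hW' hsurj
  let r' : Γ(Omega.sheaf f, U) →+ Γ(Omega.sheaf f, pullback.diagonal f ⁻¹ᵁ diagNbhd f U) :=
    ((Omega.sheaf f).presheaf.map (homOfLE hpre.le).op).hom
  let Φ : Ω[Γ(X, U)⁄Γ(Y, V)] →+ (RingHom.ker μ).Cotangent :=
    (Θ.toAddMonoidHom.comp r').comp (OmAff.toSect f V U h).hom.toAddMonoidHom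
  have hr' : ∀ c : Γ(X, U), r' (dSect f U c) =
      conormalSect (pullback.diagonal f) (diagNbhd f U) (idealLift f U c) := fun c => by
    rw [dSect_eq]
    have e1 := Groth.Agent.H8.res_res (Omega.sheaf f) hpre.le (le_preimage_diagNbhd f U)
      (conormalSect (pullback.diagonal f) (diagNbhd f U) (idealLift f U c))
    exact e1.trans (congr($((Omega.sheaf f).presheaf.map_id _) _))
  have hΦD : ∀ c : Γ(X, U), Φ (KaehlerDifferential.D Γ(Y, V) Γ(X, U) c) =
      KaehlerCot.cotEquiv e μ ρ hρ.1 hμ (KaehlerDifferential.D Γ(Y, V) Γ(X, U) c) := fun c => by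
    have h1 : (OmAff.toSect f V U h).hom (KaehlerDifferential.D Γ(Y, V) Γ(X, U) c) =
        dSect f U c := OmAff.toSect_d f V U h c
    have hmem : diagDiff f U c ∈ RingHom.ker μ := by
      rw [RingHom.mem_ker]
      show μ ((pullback.snd f f).appLE U (diagNbhd f U) inf_le_right c -
        (pullback.fst f f).appLE U (diagNbhd f U) inf_le_left c) = 0
      rw [map_sub, hμ₁, hμ₂, sub_self]
    show Θ (r' ((OmAff.toSect f V U h).hom (KaehlerDifferential.D Γ(Y, V) Γ(X, U) c))) = _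
    rw [h1, hr', KaehlerCot.cotEquiv_D]
    refine (hΘ₁ (idealLift f U c) ⟨diagDiff f U c, hmem⟩ (idealSect_idealLift f U c).symm).trans ?_
    congr 1
    refine Subtype.ext ?_
    show diagDiff f U c = e (1 ⊗ₜ c) - e (c ⊗ₜ 1)
    rw [he₁, he₂]
    rfl
  have hΦs : ∀ (b : Γ(X, U)) (ω : Ω[Γ(X, U)⁄Γ(Y, V)]), Φ (b • ω) = e (b ⊗ₜ 1) • Φ ω := by
    intro b ω
    have h1 : (OmAff.toSect f V U h).hom (b • ω) = b • (OmAff.toSect f V U h).hom ω :=
      (OmAff.toSect f V U h).hom.map_smul b ω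
    have h2 : r' (b • (OmAff.toSect f V U h).hom ω) = ρ b • r' ((OmAff.toSect f V U h).hom ω) :=
      Groth.Agent.H8.res_smul (Omega.sheaf f) hpre.le b _
    show Θ (r' ((OmAff.toSect f V U h).hom (b • ω))) = e (b ⊗ₜ 1) • Θ (r' ((OmAff.toSect f V U h).hom ω))
    rw [h1, h2, he₁, ← hμ₁]
    exact hΘ₂ _ _
  have hΦ := KaehlerCot.bijective_of_D e μ ρ hρ.1 hμ Φ hΦD hΦs
  have hr'bij : Function.Bijective r' := by
    have : IsIso ((Omega.sheaf f).presheaf.map (homOfLE hpre.le).op) := by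
      have : IsIso (homOfLE hpre.le) := ⟨homOfLE hpre.ge, rfl, rfl⟩
      infer_instance
    exact ConcreteCategory.bijective_of_isIso ((Omega.sheaf f).presheaf.map (homOfLE hpre.le).op)
  have hΘr' : Function.Bijective (⇑Θ ∘ ⇑r') := Θ.bijective.comp hr'bij
  exact (Function.Bijective.of_comp_iff' hΘr' _).mp hΦ

end Groth.Agent.H8.OmegaSect
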