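import Groth.Agent.H8.OmegaUniv

set_option autoImplicit false
set_option linter.style.haveILetI false
universe u
open CategoryTheory CategoryTheory.Limits AlgebraicGeometry Opposite OmegaSh TopologicalSpace

namespace Groth.Agent.H8.OmegaSpec

open Groth.Agent.H8

variable (A B : Type u) [CommRing A] [CommRing B] [Algebra A B]

local notation "fAB" => Spec.map (CommRingCat.ofHom (algebraMap A B))

/-- The inverse of `OmAff.toΓ`. -/
noncomputable abbrev ofΓ (B : Type u) [CommRing B] : Γ(Spec (CommRingCat.of B), ⊤) →+* B :=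
  (Scheme.ΓSpecIso (CommRingCat.of B)).hom.hom

lemma ofΓ_toΓ (b : B) : ofΓ B (OmAff.toΓ B b) = b :=
  congr($((Scheme.ΓSpecIso (CommRingCat.of B)).inv_hom_id) b)

lemma toΓ_ofΓ (x : Γ(Spec (CommRingCat.of B), ⊤)) : OmAff.toΓ B (ofΓ B x) = x :=
  congr($((Scheme.ΓSpecIso (CommRingCat.of B)).hom_inv_id) x)

lemma htop : (⊤ : (Spec (CommRingCat.of B)).Opens) ≤ fAB ⁻¹ᵁ ⊤ := le_of_eq rfl

lemma ofΓ_appLE (a' : Γ(Spec (CommRingCat.of A), ⊤)) :
    ofΓ B ((fAB).appLE ⊤ ⊤ (htop A B) a') = algebraMap A B (ofΓ A a') := by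
  have h1 : (fAB).appLE ⊤ ⊤ (htop A B) = (fAB).appTop := by
    rw [Scheme.Hom.appTop, Scheme.Hom.app_eq_appLE]
    rfl
  rw [h1]
  obtain ⟨a, rfl⟩ : ∃ a, OmAff.toΓ A a = a' := ⟨ofΓ A a', toΓ_ofΓ A a'⟩
  rw [OmAff.appTop_toΓ, ofΓ_toΓ, ofΓ_toΓ]

/-- `Ω[B⁄A]` as a module over the global sections of `Spec B`. -/
noncomputable def NMod : ModuleCat.{u} Γ(Spec (CommRingCat.of B), ⊤) :=
  letI : Module Γ(Spec (CommRingCat.of B), ⊤) Ω[B⁄A] := Module.compHom _ (ofΓ B)
  ModuleCat.of Γ(Spec (CommRingCat.of B), ⊤) Ω[B⁄A]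

lemma NMod_smul (x : Γ(Spec (CommRingCat.of B), ⊤)) (ω : NMod A B) :
    x • ω = (ofΓ B x • (show Ω[B⁄A] from ω) : Ω[B⁄A]) := rfl

/-- The derivation `x ↦ D (ofΓ x)`. -/
noncomputable def δ : (NMod A B).Derivation ((fAB).appLE ⊤ ⊤ (htop A B)) :=
  ModuleCat.Derivation.mk (fun x => (KaehlerDifferential.D A B (ofΓ B x) : Ω[B⁄A]))
    (fun x y => by
      show KaehlerDifferential.D A B (ofΓ B (x + y)) = _
      rw [map_add, map_add]; rfl)
    (fun x y => by
      show KaehlerDifferential.D A B (ofΓ B (x * y)) = _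
      rw [map_mul, Derivation.leibniz]; rfl)
    (fun a' => by
      show KaehlerDifferential.D A B (ofΓ B ((fAB).appLE ⊤ ⊤ (htop A B) a')) = 0
      rw [ofΓ_appLE, Derivation.map_algebraMap])

set_option maxHeartbeats 1000000 in
theorem toSpec_bijective : Function.Bijective (OmAff.toSpec A B) := by
  have hbij := OmegaSect.toSect_bijective (fAB) (isAffineOpen_top _) (isAffineOpen_top _)
    (htop A B)
  let E := LinearEquiv.ofBijective ((OmAff.toSect (fAB) ⊤ ⊤ (htop A B)).hom) hbij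
  let G : Γ(Omega.sheaf (fAB), ⊤) → Ω[B⁄A] := fun m => (δ A B).desc.hom (E.symm m)
  have hGadd : ∀ m n, G (m + n) = G m + G n := fun m n => by
    show (δ A B).desc.hom (E.symm (m + n)) = _
    rw [map_add, map_add]
    rfl
  have hGd : ∀ x : Γ(Spec (CommRingCat.of B), ⊤), G (dSect (fAB) ⊤ x) =
      KaehlerDifferential.D A B (ofΓ B x) := fun x => by
    have h1 : dSect (fAB) ⊤ x = E (CommRingCat.KaehlerDifferential.d x) :=
      (OmAff.toSect_d (fAB) ⊤ ⊤ (htop A B) x).symm
    show (δ A B).desc.hom (E.symm (dSect (fAB) ⊤ x)) = _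
    rw [h1, LinearEquiv.symm_apply_apply]
    exact (δ A B).desc_d x
  have hGs : ∀ (x : Γ(Spec (CommRingCat.of B), ⊤)) (m : Γ(Omega.sheaf (fAB), ⊤)),
      G (x • m) = ofΓ B x • G m := fun x m => by
    show (δ A B).desc.hom (E.symm (x • m)) = _
    rw [map_smul, map_smul]
    rfl
  have hleft : ∀ ω : Ω[B⁄A], G (OmAff.toSpec A B ω) = ω := by
    intro ω
    have hω : ω ∈ Submodule.span B (Set.range (KaehlerDifferential.D A B)) := by
      rw [KaehlerDifferential.span_range_derivation]; trivial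
    induction hω using Submodule.span_induction with
    | mem y hy =>
      obtain ⟨b, rfl⟩ := hy
      rw [OmAff.toSpec_D, hGd, ofΓ_toΓ]
    | zero =>
      rw [map_zero]
      have := hGadd 0 0
      rw [add_zero] at this
      exact (add_eq_left.mp this.symm)
    | add y z _ _ hy hz => rw [map_add, hGadd, hy, hz]
    | smul b y _ hy => rw [LinearMap.map_smulₛₗ, hGs, hy, ofΓ_toΓ]
  have hright : ∀ m : Γ(Omega.sheaf (fAB), ⊤), OmAff.toSpec A B (G m) = m := by
    intro m
    have hm : m ∈ Submodule.span Γ(Spec (CommRingCat.of B), ⊤) (Set.range (dSect (fAB) ⊤)) := by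
      rw [OmegaUniv.span_dSect_eq_top (fAB) (isAffineOpen_top _) (isAffineOpen_top _) (htop A B)]
      trivial
    induction hm using Submodule.span_induction with
    | mem y hy =>
      obtain ⟨x, rfl⟩ := hy
      rw [hGd, OmAff.toSpec_D, toΓ_ofΓ]
    | zero =>
      have h0 : G 0 = 0 := by
        have := hGadd 0 0
        rw [add_zero] at this
        exact (add_eq_left.mp this.symm)
      rw [h0, map_zero]
    | add y z _ _ hy hz => rw [hGadd, map_add, hy, hz]
    | smul x y _ hy => rw [hGs, LinearMap.map_smulₛₗ, hy, toΓ_ofΓ]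
  exact ⟨Function.LeftInverse.injective hleft, Function.RightInverse.surjective hright⟩

end Groth.Agent.H8.OmegaSpec
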