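import Groth.Agent.H8.OmegaUniv

/-!
# Stalks of the sheaf of differentials

* `exists_pow_smul_eq_zero`: over a small affine `U`, a section of `Ω` that dies on `D(g)` is
  killed by a power of `g`.
* `subsingleton_stalk_iff`: the stalk `Ω_x` vanishes iff every section over a small affine
  neighbourhood is killed by a function not vanishing at `x`.
* `forall_exists_smul_iff_formallyUnramified`: this is equivalent to the stalk map being formally
  unramified.
-/

set_option autoImplicit false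
set_option linter.style.haveILetI false
universe u
open CategoryTheory CategoryTheory.Limits AlgebraicGeometry Opposite OmegaSh TopologicalSpace
open scoped TensorProduct

namespace Groth.Agent.H8.OmegaStalk

open Groth.Agent.H8

variable {X Y : Scheme.{u}} (f : X ⟶ Y) [QuasiSeparated f]

/-- If a section of `Ω` over a small affine `U` dies on `D(g)`, a power of `g` kills it. -/
theorem exists_pow_smul_eq_zero {U : X.Opens} (hU : IsAffineOpen U) {V : Y.Opens}
    (hV : IsAffineOpen V) (h : U ≤ f ⁻¹ᵁ V) (g : Γ(X, U)) (m : Γ(Omega.sheaf f, U))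
    (hm : (Omega.sheaf f).presheaf.map (homOfLE (X.basicOpen_le g)).op m = 0) :
    ∃ n : ℕ, g ^ n • m = 0 := by
  have h' : X.basicOpen g ≤ f ⁻¹ᵁ V := (X.basicOpen_le g).trans h
  letI algAB : Algebra Γ(Y, V) Γ(X, U) := (f.appLE V U h).hom.toAlgebra
  letI algAB' : Algebra Γ(Y, V) Γ(X, X.basicOpen g) :=
    (f.appLE V (X.basicOpen g) h').hom.toAlgebra
  haveI : IsScalarTower Γ(Y, V) Γ(X, U) Γ(X, X.basicOpen g) :=
    IsScalarTower.of_algebraMap_eq' (by
      simp only [RingHom.algebraMap_toAlgebra]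
      rw [← CommRingCat.hom_comp, Scheme.Hom.appLE_map])
  haveI := hU.isLocalization_basicOpen g
  let T1 : Ω[Γ(X, U)⁄Γ(Y, V)] →ₗ[Γ(X, U)] Γ(Omega.sheaf f, U) := (OmAff.toSect f V U h).hom
  let T2 : Ω[Γ(X, X.basicOpen g)⁄Γ(Y, V)] →ₗ[Γ(X, X.basicOpen g)]
    Γ(Omega.sheaf f, X.basicOpen g) := (OmAff.toSect f V (X.basicOpen g) h').hom
  have hT1 : Function.Bijective T1 := OmegaSect.toSect_bijective f hU hV h
  have hT2 : Function.Bijective T2 := OmegaSect.toSect_bijective f (hU.basicOpen g) hV h'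
  have hT1d : ∀ c, T1 (KaehlerDifferential.D Γ(Y, V) Γ(X, U) c) = dSect f U c :=
    fun c => OmAff.toSect_d f V U h c
  have hT2d : ∀ c, T2 (KaehlerDifferential.D Γ(Y, V) Γ(X, X.basicOpen g) c) =
      dSect f (X.basicOpen g) c := fun c => OmAff.toSect_d f V (X.basicOpen g) h' c
  obtain ⟨ω, rfl⟩ := hT1.2 m
  have key : ∀ ω : Ω[Γ(X, U)⁄Γ(Y, V)],
      T2 (KaehlerDifferential.map Γ(Y, V) Γ(Y, V) Γ(X, U) Γ(X, X.basicOpen g) ω) =
      (Omega.sheaf f).presheaf.map (homOfLE (X.basicOpen_le g)).op (T1 ω) := by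
    intro ω
    have hω : ω ∈ Submodule.span Γ(X, U)
        (Set.range (KaehlerDifferential.D Γ(Y, V) Γ(X, U))) := by
      rw [KaehlerDifferential.span_range_derivation]; trivial
    induction hω using Submodule.span_induction with
    | mem x hx =>
      obtain ⟨c, rfl⟩ := hx
      rw [KaehlerDifferential.map_D, hT1d, hT2d]
      exact dSect_map f (X.basicOpen_le g) c
    | zero =>
      rw [map_zero, map_zero, map_zero]
      exact (map_zero _).symm
    | add x y _ _ hx hy =>
      rw [map_add, map_add, map_add, hx, hy]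
      exact (map_add _ _ _).symm
    | smul b x _ hx =>
      rw [map_smul, ← algebraMap_smul Γ(X, X.basicOpen g) b, map_smul, map_smul,
        Scheme.Modules.map_smul, ← hx]
      rfl
  rw [← key] at hm
  have h0 : KaehlerDifferential.map Γ(Y, V) Γ(Y, V) Γ(X, U) Γ(X, X.basicOpen g) ω = 0 :=
    hT2.1 (hm.trans (map_zero _).symm)
  obtain ⟨⟨_, n, rfl⟩, hn⟩ := (IsLocalizedModule.eq_zero_iff (Submonoid.powers g) _).mp h0
  refine ⟨n, ?_⟩
  rw [← map_smul]
  erw [hn]
  rw [map_zero]


omit [QuasiSeparated f] in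
/-- A section of a module killed by a function invertible at `x` has zero germ at `x`. -/
theorem germ_eq_zero_of_smul_eq_zero (M : X.Modules) (U : X.Opens) (x : X) (hx : x ∈ U)
    (m : Γ(M, U)) (g : Γ(X, U)) (hxg : x ∈ X.basicOpen g) (hg : g • m = 0) :
    M.presheaf.germ U x hx m = 0 := by
  have hu : IsUnit (X.presheaf.map (homOfLE (X.basicOpen_le g)).op g) :=
    RingedSpace.isUnit_res_basicOpen _ g
  have h1 : X.presheaf.map (homOfLE (X.basicOpen_le g)).op g •
      M.presheaf.map (homOfLE (X.basicOpen_le g)).op m = 0 := by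
    rw [← Scheme.Modules.map_smul, hg, map_zero]
  have h2 : M.presheaf.map (homOfLE (X.basicOpen_le g)).op m = 0 := by
    obtain ⟨u, hu⟩ := hu
    rw [← hu] at h1
    have := congrArg (fun z => (↑u⁻¹ : Γ(X, X.basicOpen g)) • z) h1
    simpa [smul_smul] using this
  rw [← TopCat.Presheaf.germ_res_apply M.presheaf (homOfLE (X.basicOpen_le g)) x hxg m, h2,
    map_zero]

/-- If the germ at `x` of a section of `Ω` over a small affine vanishes, the section is killed by a
function invertible at `x`. -/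
theorem exists_smul_eq_zero_of_germ_eq_zero {U : X.Opens} (hU : IsAffineOpen U) {V : Y.Opens}
    (hV : IsAffineOpen V) (h : U ≤ f ⁻¹ᵁ V) (x : X) (hx : x ∈ U) (m : Γ(Omega.sheaf f, U))
    (hm : (Omega.sheaf f).presheaf.germ U x hx m = 0) :
    ∃ g : Γ(X, U), x ∈ X.basicOpen g ∧ g • m = 0 := by
  have hm' : (Omega.sheaf f).presheaf.germ U x hx m = (Omega.sheaf f).presheaf.germ U x hx 0 := by
    rw [hm, map_zero]
  obtain ⟨W, hxW, iU, iV, e⟩ := TopCat.Presheaf.germ_eq (Omega.sheaf f).presheaf x hx hx m 0 hm'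
  rw [map_zero] at e
  obtain ⟨g, hgW, hxg⟩ := hU.exists_basicOpen_le ⟨x, hxW⟩ hx
  have e' : (Omega.sheaf f).presheaf.map (homOfLE (X.basicOpen_le g)).op m = 0 := by
    have : (homOfLE (X.basicOpen_le g)).op = iU.op ≫ (homOfLE hgW).op := rfl
    rw [this, Functor.map_comp, ConcreteCategory.comp_apply, e, map_zero]
  obtain ⟨n, hn⟩ := exists_pow_smul_eq_zero f hU hV h g m e'
  refine ⟨g ^ n, ?_, hn⟩
  rw [Scheme.mem_basicOpen _ _ x hx, map_pow]
  exact ((Scheme.mem_basicOpen _ _ x hx).mp hxg).pow n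

/-- The stalk of `Ω` at `x` vanishes iff every section over a small affine neighbourhood of `x`
is killed by a function invertible at `x`. -/
theorem subsingleton_stalk_iff (x : X) :
    Subsingleton ((Omega.sheaf f).presheaf.stalk x) ↔
      ∀ (U : X.Opens) (V : Y.Opens), IsAffineOpen U → IsAffineOpen V → U ≤ f ⁻¹ᵁ V → x ∈ U →
        ∀ m : Γ(Omega.sheaf f, U), ∃ g : Γ(X, U), x ∈ X.basicOpen g ∧ g • m = 0 := by
  constructor
  · intro hs U V hU hV h hx m
    exact exists_smul_eq_zero_of_germ_eq_zero f hU hV h x hx m (Subsingleton.elim _ _)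
  · intro H
    refine subsingleton_of_forall_eq 0 fun t => ?_
    obtain ⟨W, hxW, s, rfl⟩ := TopCat.Presheaf.germ_exist (Omega.sheaf f).presheaf (x := x) t
    obtain ⟨_, ⟨i, rfl⟩, hxi, hiW⟩ :=
      Opens.isBasis_iff_nbhd.mp (OmegaUniv.isBasis_small f) hxW
    rw [← TopCat.Presheaf.germ_res_apply (Omega.sheaf f).presheaf (homOfLE hiW) x hxi s]
    obtain ⟨g, hxg, hg⟩ := H i.U i.V i.hU i.hV i.le hxi
      ((Omega.sheaf f).presheaf.map (homOfLE hiW).op s)
    exact germ_eq_zero_of_smul_eq_zero (Omega.sheaf f) i.U x hxi _ g hxg hg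


set_option maxHeartbeats 800000 in
/-- Over a small affine neighbourhood: every section of `Ω` is killed by a function invertible at
`x` iff the stalk map at `x` is formally unramified. -/
theorem forall_exists_smul_iff_formallyUnramified {U : X.Opens} (hU : IsAffineOpen U)
    {V : Y.Opens} (hV : IsAffineOpen V) (h : U ≤ f ⁻¹ᵁ V) (x : X) (hx : x ∈ U) :
    (∀ m : Γ(Omega.sheaf f, U), ∃ g : Γ(X, U), x ∈ X.basicOpen g ∧ g • m = 0) ↔
      (f.stalkMap x).hom.FormallyUnramified := by
  letI algAB : Algebra Γ(Y, V) Γ(X, U) := (f.appLE V U h).hom.toAlgebra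
  letI algBT : Algebra Γ(X, U) (X.presheaf.stalk x) :=
    X.presheaf.algebra_section_stalk ⟨x, hx⟩
  letI algAR : Algebra Γ(Y, V) (Y.presheaf.stalk (f x)) :=
    Y.presheaf.algebra_section_stalk ⟨f x, h hx⟩
  letI algRT : Algebra (Y.presheaf.stalk (f x)) (X.presheaf.stalk x) :=
    (f.stalkMap x).hom.toAlgebra
  letI algAT : Algebra Γ(Y, V) (X.presheaf.stalk x) :=
    ((algebraMap Γ(X, U) (X.presheaf.stalk x)).comp (algebraMap Γ(Y, V) Γ(X, U))).toAlgebra
  haveI tw1 : IsScalarTower Γ(Y, V) Γ(X, U) (X.presheaf.stalk x) :=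
    IsScalarTower.of_algebraMap_eq' rfl
  haveI tw2 : IsScalarTower Γ(Y, V) (Y.presheaf.stalk (f x)) (X.presheaf.stalk x) :=
    IsScalarTower.of_algebraMap_eq' (by
      ext a
      simp only [RingHom.algebraMap_toAlgebra, RingHom.comp_apply]
      erw [Scheme.Hom.germ_stalkMap_apply]
      rw [Scheme.Hom.appLE, CommRingCat.comp_apply]
      exact TopCat.Presheaf.germ_res_apply X.presheaf (homOfLE h) x hx _)
  haveI locT : IsLocalization.AtPrime (X.presheaf.stalk x) (hU.primeIdealOf ⟨x, hx⟩).asIdeal :=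
    hU.isLocalization_stalk ⟨x, hx⟩
  haveI locR : IsLocalization.AtPrime (Y.presheaf.stalk (f x))
      (hV.primeIdealOf ⟨f x, h hx⟩).asIdeal := hV.isLocalization_stalk ⟨f x, h hx⟩
  let T1 : Ω[Γ(X, U)⁄Γ(Y, V)] →ₗ[Γ(X, U)] Γ(Omega.sheaf f, U) := (OmAff.toSect f V U h).hom
  have hT1 : Function.Bijective T1 := OmegaSect.toSect_bijective f hU hV h
  have hmem : ∀ g : Γ(X, U), x ∈ X.basicOpen g ↔
      g ∈ (hU.primeIdealOf ⟨x, hx⟩).asIdeal.primeCompl := fun g => by
    rw [Scheme.mem_basicOpen _ _ x hx,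
      ← IsLocalization.AtPrime.isUnit_to_map_iff (X.presheaf.stalk x)]
    rfl
  have s1 : (∀ m : Γ(Omega.sheaf f, U), ∃ g : Γ(X, U), x ∈ X.basicOpen g ∧ g • m = 0) ↔
      Subsingleton Ω[X.presheaf.stalk x⁄Γ(Y, V)] := by
    rw [IsLocalizedModule.subsingleton_iff (hU.primeIdealOf ⟨x, hx⟩).asIdeal.primeCompl
      (KaehlerDifferential.map Γ(Y, V) Γ(Y, V) Γ(X, U) (X.presheaf.stalk x))]
    constructor
    · intro H ω
      obtain ⟨g, hxg, hg⟩ := H (T1 ω)
      refine ⟨g, (hmem g).mp hxg, hT1.1 ?_⟩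
      rw [map_smul, hg, map_zero]
    · intro H m
      obtain ⟨ω, rfl⟩ := hT1.2 m
      obtain ⟨g, hg, hgω⟩ := H ω
      refine ⟨g, (hmem g).mpr hg, ?_⟩
      rw [← map_smul, hgω, map_zero]
  rw [s1, ← Algebra.formallyUnramified_iff]
  constructor
  · intro _
    exact Algebra.FormallyUnramified.of_restrictScalars Γ(Y, V) (Y.presheaf.stalk (f x))
      (X.presheaf.stalk x)
  · intro (hRT : Algebra.FormallyUnramified (Y.presheaf.stalk (f x)) (X.presheaf.stalk x))
    haveI : Algebra.FormallyUnramified Γ(Y, V) (Y.presheaf.stalk (f x)) :=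
      Algebra.FormallyUnramified.of_isLocalization
        (hV.primeIdealOf ⟨f x, h hx⟩).asIdeal.primeCompl
    exact Algebra.FormallyUnramified.comp Γ(Y, V) (Y.presheaf.stalk (f x)) (X.presheaf.stalk x)


/-- The stalk of `Ω_{X/Y}` at `x` vanishes iff the stalk map at `x` is formally unramified. -/
theorem subsingleton_stalk_iff_formallyUnramified (x : X) :
    Subsingleton ((Omega.sheaf f).presheaf.stalk x) ↔ (f.stalkMap x).hom.FormallyUnramified := by
  rw [subsingleton_stalk_iff]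
  constructor
  · intro H
    obtain ⟨_, ⟨i, rfl⟩, hxi, -⟩ :=
      Opens.isBasis_iff_nbhd.mp (OmegaUniv.isBasis_small f) (show x ∈ (⊤ : X.Opens) from trivial)
    exact (forall_exists_smul_iff_formallyUnramified f i.hU i.hV i.le x hxi).mp
      (H i.U i.V i.hU i.hV i.le hxi)
  · intro H U V hU hV h hx
    exact (forall_exists_smul_iff_formallyUnramified f hU hV h x hx).mpr H

end Groth.Agent.H8.OmegaStalk
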