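import Groth.Prelude.Def_OmegaPn
import Groth.Agent.H8.ClosedPush
import Groth.Agent.H8.QCohPush
import Groth.Agent.H8.PullbackStalk

set_option autoImplicit false
set_option linter.style.haveILetI false
universe u
open CategoryTheory CategoryTheory.Limits AlgebraicGeometry TopologicalSpace Opposite

namespace Groth.Agent.H8.PrinPartQC

variable {X S : Scheme.{u}} (f : X ⟶ S) (n : ℕ)

/-- The first projection from the `n`-th infinitesimal neighbourhood of the diagonal is a
homeomorphism. -/
noncomputable def pr1Homeo : PrinPart.nbhd f n ≃ₜ X where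
  toFun := (PrinPart.pr1 f n).base
  invFun := (PrinPart.toNbhd f n).base
  left_inv x := by
    obtain ⟨y, rfl⟩ := PrinPart.toInfNbhd_surjective (PrinPart.diagCl f) n x
    show PrinPart.toNbhd f n (PrinPart.pr1 f n (PrinPart.toNbhd f n y)) = _
    rw [← Scheme.Hom.comp_apply (PrinPart.toNbhd f n) (PrinPart.pr1 f n), PrinPart.toNbhd_pr1]
    rfl
  right_inv y := by
    show PrinPart.pr1 f n (PrinPart.toNbhd f n y) = y
    rw [← Scheme.Hom.comp_apply, PrinPart.toNbhd_pr1]
    rfl
  continuous_toFun := (PrinPart.pr1 f n).continuous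
  continuous_invFun := (PrinPart.toNbhd f n).continuous

theorem pr1_isHomeomorph : IsHomeomorph (PrinPart.pr1 f n).base :=
  (pr1Homeo f n).isHomeomorph

theorem pr1_isClosedEmbedding : Topology.IsClosedEmbedding (PrinPart.pr1 f n).base :=
  (pr1Homeo f n).isClosedEmbedding

end Groth.Agent.H8.PrinPartQC

namespace Groth.Agent.H8.PrinPartQC

theorem quasiCompact_of_isHomeomorph {X Y : Scheme.{u}} (g : X ⟶ Y) (hg : IsHomeomorph g.base) :
    QuasiCompact g := by
  rw [quasiCompact_iff]
  intro U hU hUc
  exact (hg.homeomorph.isCompact_preimage).mpr hUc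

set_option backward.isDefEq.respectTransparency.types false in
theorem quasiSeparated_of_isHomeomorph {X Y : Scheme.{u}} (g : X ⟶ Y) (hg : IsHomeomorph g.base) :
    QuasiSeparated g := by
  rw [HasAffineProperty.eq_targetAffineLocally (P := @QuasiSeparated)]
  intro U
  show QuasiSeparatedSpace _
  haveI : IsAffine U.1 := U.2
  have h1 : Topology.IsOpenEmbedding (g ∣_ U.1).base := by
    rw [morphismRestrict_base]
    exact hg.isOpenEmbedding.restrictPreimage _
  exact h1.quasiSeparatedSpace

variable {X S : Scheme.{u}} (f : X ⟶ S) (n : ℕ)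

instance : QuasiCompact (PrinPart.pr1 f n) := quasiCompact_of_isHomeomorph _ (pr1_isHomeomorph f n)
instance : QuasiSeparated (PrinPart.pr1 f n) :=
  quasiSeparated_of_isHomeomorph _ (pr1_isHomeomorph f n)

theorem isQuasicoherent_PMod (F : X.Modules) [F.IsQuasicoherent] :
    (PrinPart.PMod f n F).IsQuasicoherent := by
  haveI := Groth.Agent.H8.isQuasicoherent_pullback (PrinPart.pr2 f n) F
  exact Groth.Agent.H8.isQuasicoherent_pushforward (PrinPart.pr1 f n) _

theorem preservesColimits_PMod :
    PreservesColimitsOfSize.{u, u}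
      ((Scheme.Modules.pullback (PrinPart.pr2 f n)) ⋙
        (Scheme.Modules.pushforward (PrinPart.pr1 f n))) := by
  haveI := Groth.Agent.H8.ClosedPush.preservesColimitsOfSize_pushforward (PrinPart.pr1 f n)
    (pr1_isClosedEmbedding f n)
  haveI : PreservesColimitsOfSize.{u, u} (Scheme.Modules.pullback (PrinPart.pr2 f n)) :=
    (Scheme.Modules.pullbackPushforwardAdjunction (PrinPart.pr2 f n)).leftAdjoint_preservesColimits
  infer_instance

end Groth.Agent.H8.PrinPartQC
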