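import Mathlib
import Groth.Agent.H48.Syz
import Groth.Agent.H8.ClosedImmUnit

set_option autoImplicit false
universe u
open scoped TensorProduct
open RingTheory.Sequence

namespace Groth.Agent.H8.RegCot

/-- Ring-level core: `A → B` surjective with kernel `I`; `M` free with basis `b`; `t : M → N`
surjective; `ι : N → A` with image in `I`; `ι (t (b k))` a weakly regular sequence generating `I`.
Then `B ⊗ t : B ⊗ M → B ⊗ N` is bijective. (`B ⊗ N = I/I²`.) -/
theorem baseChange_bijective_of_regular {A B : Type u} [CommRing A] [CommRing B] [Algebra A B]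
    (hsurj : Function.Surjective (algebraMap A B))
    {M N : Type u} [AddCommGroup M] [Module A M] [AddCommGroup N] [Module A N] {n : ℕ}
    (b : Module.Basis (Fin n) A M) (t : M →ₗ[A] N) (ht : Function.Surjective t)
    (ι : N →ₗ[A] A)
    (hle : ∀ x, ι x ∈ RingHom.ker (algebraMap A B))
    (hge : ∀ a ∈ RingHom.ker (algebraMap A B), ∃ x, ι x = a)
    (hreg : IsWeaklyRegular A (List.ofFn fun k => ι (t (b k)))) :
    Function.Bijective (LinearMap.baseChange B t) := by
  classical
  set I := RingHom.ker (algebraMap A B) with hI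
  set f : Fin n → A := fun k => ι (t (b k)) with hf
  have hspan : Ideal.span (Set.range f) = I := by
    apply le_antisymm
    · rw [Ideal.span_le]
      rintro _ ⟨k, rfl⟩
      exact hle _
    · intro a ha
      obtain ⟨x, rfl⟩ := hge a ha
      obtain ⟨m, rfl⟩ := ht x
      rw [← b.sum_repr m]
      simp only [map_sum, map_smul, smul_eq_mul]
      exact Ideal.sum_mem _ fun k _ => Ideal.mul_mem_left _ _ (Ideal.subset_span ⟨k, rfl⟩)
  constructor
  · rw [injective_iff_map_eq_zero]
    intro z hz
    obtain ⟨m, rfl⟩ := one_tmul_surjective hsurj M z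
    have h1 : (1 : B) ⊗ₜ[A] (t m) = 0 := by
      rw [← hz, LinearMap.baseChange_tmul]
    have h2 := mem_ker_smul_top_of_one_tmul_eq_zero hsurj N (t m) h1
    have h3 : ∀ x ∈ I • (⊤ : Submodule A N), ι x ∈ I ^ 2 := by
      intro x hx
      refine Submodule.smul_induction_on hx (fun a ha y _ => ?_) (fun x y hx hy => ?_)
      · rw [map_smul, smul_eq_mul, pow_two]
        exact Ideal.mul_mem_mul ha (hle y)
      · rw [map_add]
        exact Ideal.add_mem _ hx hy
    have h4 : ι (t m) ∈ I ^ 2 := h3 _ h2
    have h5 : ι (t m) = ∑ k, b.repr m k * f k := by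
      conv_lhs => rw [← b.sum_repr m]
      simp only [map_sum, map_smul, smul_eq_mul, hf]
    rw [h5, ← hspan] at h4
    have h6 := Groth.Agent.H48.Syz.mem_of_sum_mem_sq f hreg (fun k => b.repr m k) h4
    show (1 : B) ⊗ₜ[A] m = 0
    rw [← b.sum_repr m, TensorProduct.tmul_sum]
    refine Finset.sum_eq_zero fun k _ => ?_
    have h7 : algebraMap A B (b.repr m k) = 0 := by
      have := h6 k
      rw [hspan] at this
      exact this
    rw [TensorProduct.tmul_smul, TensorProduct.smul_tmul', Algebra.smul_def, mul_one, h7,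
      TensorProduct.zero_tmul]
  · have h := LinearMap.lTensor_surjective B ht
    intro y
    obtain ⟨x, hx⟩ := h y
    exact ⟨x, hx⟩

end Groth.Agent.H8.RegCot
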