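import Groth.Agent.S7007
import Groth.Prelude.Def_FlatCA
import Mathlib

/-!
Ring-level toolkit for "finitely presented relative to a base ring" (`FlatCA.RelFinitePresentation`),
phrased for a ring homomorphism `ρ : R →+* A` and an `A`-module `N`.
-/

set_option autoImplicit false
set_option linter.style.haveILetI false
universe u

namespace Groth.Agent.H8

open Function

section RFP

variable {R A : Type u} [CommRing R] [CommRing A]

/-- `N` is finitely presented relative to `R` along the ring homomorphism `ρ : R →+* A`. -/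
def RFP (ρ : R →+* A) (N : Type u) [AddCommGroup N] [Module A N] : Prop :=
  letI := ρ.toAlgebra
  FlatCA.RelFinitePresentation R A N

theorem rfp_iff (ρ : R →+* A) (N : Type u) [AddCommGroup N] [Module A N] :
    RFP ρ N ↔ ∃ (n : ℕ) (φ : MvPolynomial (Fin n) R →+* A),
      φ.comp MvPolynomial.C = ρ ∧ Surjective φ ∧
      @Module.FinitePresentation (MvPolynomial (Fin n) R) N _ _ (Module.compHom N φ) := by
  letI := ρ.toAlgebra
  constructor
  · rintro ⟨n, φ, hφ, h⟩
    refine ⟨n, φ.toRingHom, ?_, hφ, h⟩
    ext r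
    exact φ.commutes r
  · rintro ⟨n, φ, hρ, hφ, h⟩
    refine ⟨n, { φ with commutes' := fun r => ?_ }, hφ, h⟩
    exact congrFun (congrArg DFunLike.coe hρ) r

variable {ρ : R →+* A} {N : Type u} [AddCommGroup N] [Module A N]

/-- Lemma A: a finitely presented `R`-algebra `B` surjecting onto `A` over which `N` is finitely
presented witnesses relative finite presentation. -/
theorem rfp_of_fp {B : Type u} [CommRing B] (β : R →+* B) (hβ : β.FinitePresentation)
    (π : B →+* A) (hπ : Surjective π) (hρ : π.comp β = ρ)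
    (h : @Module.FinitePresentation B N _ _ (Module.compHom N π)) : RFP ρ N := by
  subst hρ
  letI := β.toAlgebra
  letI := (π.comp β).toAlgebra
  letI mB : Module B N := Module.compHom N π
  haveI : Algebra.FinitePresentation R B := hβ
  haveI : Module.FinitePresentation B N := h
  obtain ⟨n, σ, hσ⟩ := Algebra.FiniteType.iff_quotient_mvPolynomial''.mp
    (inferInstance : Algebra.FiniteType R B)
  let π' : B →ₐ[R] A := { π with commutes' := fun r => rfl }
  let φ : MvPolynomial (Fin n) R →ₐ[R] A := π'.comp σ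
  letI mP : Module (MvPolynomial (Fin n) R) N := Module.compHom N φ.toRingHom
  refine ⟨n, φ, hπ.comp hσ, ?_⟩
  exact S6992.fp_transfer_alg B (MvPolynomial (Fin n) R) π' hπ φ (hπ.comp hσ) N
    (fun c m => rfl) (fun c m => rfl)

/-- Lemma B: independence of the presentation. -/
theorem RFP.fp_of (h : RFP ρ N) {B : Type u} [CommRing B] (β : R →+* B)
    (hβ : β.FinitePresentation) (π : B →+* A) (hπ : Surjective π) (hρ : π.comp β = ρ) :
    @Module.FinitePresentation B N _ _ (Module.compHom N π) := by
  subst hρ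
  letI := β.toAlgebra
  letI := (π.comp β).toAlgebra
  obtain ⟨n, φ, hφ, hfp⟩ := h
  letI mB : Module B N := Module.compHom N π
  letI mP : Module (MvPolynomial (Fin n) R) N := Module.compHom N φ.toRingHom
  haveI : Algebra.FinitePresentation R B := hβ
  haveI : Module.FinitePresentation (MvPolynomial (Fin n) R) N := hfp
  let π' : B →ₐ[R] A := { π with commutes' := fun r => rfl }
  exact S6992.fp_transfer_alg (MvPolynomial (Fin n) R) B φ hφ π' hπ N
    (fun c m => rfl) (fun c m => rfl)

theorem RFP.congr {ρ' : R →+* A} (h : RFP ρ N) (e : ρ = ρ') : RFP ρ' N := e ▸ h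

/-- Invariance under isomorphisms. -/
theorem RFP.of_equiv (h : RFP ρ N) {A' : Type u} [CommRing A'] (e : A ≃+* A') {N' : Type u}
    [AddCommGroup N'] [Module A' N'] (ε : N ≃+ N')
    (hε : ∀ (a : A) (n : N), ε (a • n) = e a • ε n) :
    RFP ((e : A →+* A').comp ρ) N' := by
  rw [rfp_iff] at h ⊢
  obtain ⟨n, φ, hρ, hφ, hfp⟩ := h
  refine ⟨n, (e : A →+* A').comp φ, by rw [RingHom.comp_assoc, hρ], e.surjective.comp hφ, ?_⟩
  letI m1 : Module (MvPolynomial (Fin n) R) N := Module.compHom N φ
  letI m2 : Module (MvPolynomial (Fin n) R) N' := Module.compHom N' ((e : A →+* A').comp φ)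
  haveI : Module.FinitePresentation (MvPolynomial (Fin n) R) N := hfp
  let ε' : N ≃ₗ[MvPolynomial (Fin n) R] N' :=
    { ε with map_smul' := fun p x => hε (φ p) x }
  exact Module.FinitePresentation.of_equiv ε'

/-- Move L2: enlarging the base along a finitely presented ring map. -/
theorem RFP.comp_finitePresentation (h : RFP ρ N) {R₀ : Type u} [CommRing R₀] (β₀ : R₀ →+* R)
    (hβ₀ : β₀.FinitePresentation) : RFP (ρ.comp β₀) N := by
  rw [rfp_iff] at h
  obtain ⟨n, φ, hρ, hφ, hfp⟩ := h
  refine rfp_of_fp ((MvPolynomial.C : R →+* MvPolynomial (Fin n) R).comp β₀) ?_ φ hφ ?_ hfp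
  · refine RingHom.FinitePresentation.comp ?_ hβ₀
    have : (MvPolynomial.C : R →+* MvPolynomial (Fin n) R) =
        algebraMap R (MvPolynomial (Fin n) R) := rfl
    rw [this, RingHom.finitePresentation_algebraMap]
    infer_instance
  · rw [← RingHom.comp_assoc, hρ]

/-- Move L3: localizing the base, when the module already lives over the localization. -/
theorem RFP.of_comp_away {R' : Type u} [CommRing R'] [Algebra R R'] (b : R)
    [IsLocalization.Away b R'] (ρ' : R' →+* A)
    (h : RFP (ρ'.comp (algebraMap R R')) N) : RFP ρ' N := by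
  classical
  rw [rfp_iff] at h ⊢
  obtain ⟨n, φ, hρ, hφ, hfp⟩ := h
  let φ' : MvPolynomial (Fin n) R' →+* A :=
    MvPolynomial.eval₂Hom ρ' (fun i => φ (MvPolynomial.X i))
  letI : Algebra (MvPolynomial (Fin n) R) (MvPolynomial (Fin n) R') :=
    MvPolynomial.algebraMvPolynomial
  have hcomp : φ'.comp (algebraMap (MvPolynomial (Fin n) R) (MvPolynomial (Fin n) R')) = φ := by
    apply MvPolynomial.ringHom_ext
    · intro r
      show φ' (MvPolynomial.map (algebraMap R R') (MvPolynomial.C r)) = φ (MvPolynomial.C r)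
      rw [MvPolynomial.map_C]
      show MvPolynomial.eval₂ ρ' _ (MvPolynomial.C _) = _
      rw [MvPolynomial.eval₂_C]
      exact (congrFun (congrArg DFunLike.coe hρ) r).symm
    · intro i
      show φ' (MvPolynomial.map (algebraMap R R') (MvPolynomial.X i)) = φ (MvPolynomial.X i)
      rw [MvPolynomial.map_X]
      exact MvPolynomial.eval₂_X _ _ _
  refine ⟨n, φ', ?_, ?_, ?_⟩
  · ext r
    exact MvPolynomial.eval₂_C _ _ _
  · intro a
    obtain ⟨p, rfl⟩ := hφ a
    exact ⟨algebraMap _ _ p, congrFun (congrArg DFunLike.coe hcomp) p⟩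
  · letI m1 : Module (MvPolynomial (Fin n) R) N := Module.compHom N φ
    letI m2 : Module (MvPolynomial (Fin n) R') N := Module.compHom N φ'
    haveI : IsScalarTower (MvPolynomial (Fin n) R) (MvPolynomial (Fin n) R') N :=
      ⟨fun p q x => by
        show φ' (p • q) • x = φ p • (φ' q • x)
        rw [Algebra.smul_def, map_mul, mul_smul, ← hcomp]
        rfl⟩
    haveI : Module.FinitePresentation (MvPolynomial (Fin n) R) N := hfp
    haveI : IsLocalization ((Submonoid.powers b).map (MvPolynomial.C (σ := Fin n)))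
        (MvPolynomial (Fin n) R') := MvPolynomial.isLocalization (Submonoid.powers b) R'
    haveI : IsLocalizedModule ((Submonoid.powers b).map (MvPolynomial.C (σ := Fin n)))
        (LinearMap.id : N →ₗ[MvPolynomial (Fin n) R] N) :=
      isLocalizedModule_id _ N (MvPolynomial (Fin n) R')
    exact FinitePresentation.of_isBaseChange (LinearMap.id : N →ₗ[MvPolynomial (Fin n) R] N)
      (IsLocalizedModule.isBaseChange ((Submonoid.powers b).map (MvPolynomial.C (σ := Fin n)))
        (MvPolynomial (Fin n) R') _)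

/-- Move L1 for the standard models. -/
theorem RFP.localizedModule_away (h : RFP ρ N) (g : A) :
    RFP ((algebraMap A (Localization.Away g)).comp ρ)
      (LocalizedModule (Submonoid.powers g) N) := by
  letI := ρ.toAlgebra
  obtain ⟨n, φ, hφ, hfp⟩ := h
  haveI : Algebra.FiniteType R A := Algebra.FiniteType.of_surjective φ hφ
  haveI : Algebra.FinitePresentation A (Localization.Away g) :=
    IsLocalization.Away.finitePresentation g
  haveI : Algebra.FiniteType R (Localization.Away g) :=
    Algebra.FiniteType.trans (inferInstance : Algebra.FiniteType R A) inferInstance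
  obtain ⟨k, γ, hγ⟩ := Algebra.FiniteType.iff_quotient_mvPolynomial''.mp
    (inferInstance : Algebra.FiniteType R (Localization.Away g))
  have h1 := H35.fp_mv_of_fp φ hφ N g γ hγ hfp
  rw [rfp_iff]
  refine ⟨k, γ.toRingHom, ?_, hγ, h1⟩
  ext r
  exact (γ.commutes r).trans (IsScalarTower.algebraMap_apply R A (Localization.Away g) r)

/-- Changing the model of the localization. -/
theorem RFP.away_congr (g : A) {A₁ A₂ : Type u} [CommRing A₁] [CommRing A₂] [Algebra A A₁]
    [Algebra A A₂] [IsLocalization.Away g A₁] [IsLocalization.Away g A₂] {N₁ N₂ : Type u}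
    [AddCommGroup N₁] [AddCommGroup N₂] [Module A N₁] [Module A₁ N₁] [IsScalarTower A A₁ N₁]
    [Module A N₂] [Module A₂ N₂] [IsScalarTower A A₂ N₂] (l₁ : N →ₗ[A] N₁) (l₂ : N →ₗ[A] N₂)
    [IsLocalizedModule (Submonoid.powers g) l₁] [IsLocalizedModule (Submonoid.powers g) l₂]
    (h : RFP ((algebraMap A A₁).comp ρ) N₁) : RFP ((algebraMap A A₂).comp ρ) N₂ := by
  let e : A₁ ≃ₐ[A] A₂ := IsLocalization.algEquiv (Submonoid.powers g) A₁ A₂
  let ε : N₁ ≃ₗ[A] N₂ := IsLocalizedModule.linearEquiv (Submonoid.powers g) l₁ l₂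
  letI mL : Module A₁ N₂ := Module.compHom N₂ (e : A₁ →+* A₂)
  haveI : IsScalarTower A A₁ N₂ := ⟨fun a b x => by
    show e (a • b) • x = a • (e b • x)
    rw [map_smul, smul_assoc]⟩
  let ε' : N₁ ≃ₗ[A₁] N₂ :=
    LinearEquiv.extendScalarsOfIsLocalization (Submonoid.powers g) A₁ ε
  have h2 := h.of_equiv e.toRingEquiv ε'.toAddEquiv (fun a x => ε'.map_smul a x)
  refine h2.congr ?_
  ext r
  exact e.commutes (ρ r)

/-- Move L1: localizing the source, for arbitrary models of the localizations. -/
theorem RFP.away (h : RFP ρ N) (g : A) {A' : Type u} [CommRing A'] [Algebra A A']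
    [IsLocalization.Away g A'] {N' : Type u} [AddCommGroup N'] [Module A N'] [Module A' N']
    [IsScalarTower A A' N'] (l : N →ₗ[A] N') [IsLocalizedModule (Submonoid.powers g) l] :
    RFP ((algebraMap A A').comp ρ) N' :=
  RFP.away_congr g (LocalizedModule.mkLinearMap (Submonoid.powers g) N) l
    (h.localizedModule_away g)

/-- Move L4 for the standard models, indexed by `Fin r`. -/
theorem rfp_of_span_localizedModule (hρ : ρ.FiniteType) {r : ℕ} (g : Fin r → A)
    (hg : Ideal.span (Set.range g) = ⊤)
    (h : ∀ i, RFP ((algebraMap A (Localization.Away (g i))).comp ρ)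
      (LocalizedModule (Submonoid.powers (g i)) N)) : RFP ρ N := by
  letI := ρ.toAlgebra
  haveI : Algebra.FiniteType R A := hρ
  obtain ⟨n, α, hα⟩ := Algebra.FiniteType.iff_quotient_mvPolynomial''.mp
    (inferInstance : Algebra.FiniteType R A)
  have h' : ∀ i, ∃ (k : ℕ) (γ : MvPolynomial (Fin k) R →ₐ[R] Localization.Away (g i)),
      Surjective γ ∧ @Module.FinitePresentation (MvPolynomial (Fin k) R)
        (LocalizedModule (Submonoid.powers (g i)) N) _ _ (Module.compHom _ γ.toRingHom) := by
    intro i
    obtain ⟨k, γ, hγc, hγ, hfp⟩ := (rfp_iff _ _).mp (h i)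
    refine ⟨k, { γ with commutes' := fun r => ?_ }, hγ, hfp⟩
    exact (congrFun (congrArg DFunLike.coe hγc) r).trans
      (IsScalarTower.algebraMap_apply R A (Localization.Away (g i)) r).symm
  choose k γ hγ hfp using h'
  exact ⟨n, α, hα, (S7007.result α hα N g hg k γ hγ).mpr hfp⟩

/-- Move L4: gluing along elements generating the unit ideal (standard models). -/
theorem rfp_of_span_set (hρ : ρ.FiniteType) (s : Set A) (hs : Ideal.span s = ⊤)
    (h : ∀ g ∈ s, RFP ((algebraMap A (Localization.Away g)).comp ρ)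
      (LocalizedModule (Submonoid.powers g) N)) : RFP ρ N := by
  obtain ⟨t, hts, ht⟩ := (Ideal.span_eq_top_iff_finite s).mp hs
  let g : Fin t.card → A := fun i => ((t.equivFin.symm i : t) : A)
  have hg : Set.range g = (t : Set A) := by
    ext x
    constructor
    · rintro ⟨i, rfl⟩
      exact (t.equivFin.symm i).2
    · intro hx
      exact ⟨t.equivFin ⟨x, hx⟩, by simp [g]⟩
  exact rfp_of_span_localizedModule hρ g (by rw [hg]; exact ht)
    (fun i => h _ (hts (t.equivFin.symm i).2))

end RFP

end Groth.Agent.H8
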