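import Groth.Agent.H8.RelFPScheme
import Groth.Agent.H8.SectionsExact
import Groth.Agent.H8.CohAffine
import Groth.Agent.H22.QCohH1
import Mathlib

/-!
Relative finite presentation and short exact sequences.
-/

set_option autoImplicit false
set_option linter.style.haveILetI false
universe u

open CategoryTheory CategoryTheory.Limits AlgebraicGeometry TopologicalSpace Opposite

namespace Groth.Agent.H8

open Function

section Ring

variable {R A : Type u} [CommRing R] [CommRing A] {ρ : R →+* A}
  {N' N N'' : Type u} [AddCommGroup N'] [AddCommGroup N] [AddCommGroup N'']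
  [Module A N'] [Module A N] [Module A N'']

theorem finitePresentation_C (n : ℕ) :
    (MvPolynomial.C : R →+* MvPolynomial (Fin n) R).FinitePresentation := by
  have : (MvPolynomial.C : R →+* MvPolynomial (Fin n) R) =
      algebraMap R (MvPolynomial (Fin n) R) := rfl
  rw [this, RingHom.finitePresentation_algebraMap]
  infer_instance

/-- Extensions of relatively finitely presented modules are relatively finitely presented. -/
theorem RFP.of_exact (i : N' →ₗ[A] N) (p : N →ₗ[A] N'') (hi : Injective i) (hp : Surjective p)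
    (hex : Function.Exact i p) (h' : RFP ρ N') (h'' : RFP ρ N'') : RFP ρ N := by
  obtain ⟨n, φ, hρ, hφ, hfp'⟩ := (rfp_iff _ _).mp h'
  have hfp'' := h''.fp_of MvPolynomial.C (finitePresentation_C n) φ hφ hρ
  rw [rfp_iff]
  refine ⟨n, φ, hρ, hφ, ?_⟩
  letI algPA : Algebra (MvPolynomial (Fin n) R) A := φ.toAlgebra
  letI m1 : Module (MvPolynomial (Fin n) R) N' := Module.compHom N' φ
  letI m2 : Module (MvPolynomial (Fin n) R) N := Module.compHom N φ
  letI m3 : Module (MvPolynomial (Fin n) R) N'' := Module.compHom N'' φ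
  haveI t1 : IsScalarTower (MvPolynomial (Fin n) R) A N' := ⟨fun q a m => by
    show (φ q * a) • m = φ q • (a • m)
    rw [mul_smul]⟩
  haveI t2 : IsScalarTower (MvPolynomial (Fin n) R) A N := ⟨fun q a m => by
    show (φ q * a) • m = φ q • (a • m)
    rw [mul_smul]⟩
  haveI t3 : IsScalarTower (MvPolynomial (Fin n) R) A N'' := ⟨fun q a m => by
    show (φ q * a) • m = φ q • (a • m)
    rw [mul_smul]⟩
  haveI : Module.FinitePresentation (MvPolynomial (Fin n) R) N' := hfp'
  haveI : Module.FinitePresentation (MvPolynomial (Fin n) R) N'' := hfp''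
  let iP : N' →ₗ[MvPolynomial (Fin n) R] N := i.restrictScalars _
  let pP : N →ₗ[MvPolynomial (Fin n) R] N'' := p.restrictScalars _
  have hker : LinearMap.ker pP = LinearMap.range iP :=
    LinearMap.exact_iff.mp (show Function.Exact iP pP from hex)
  haveI : Module.FinitePresentation (MvPolynomial (Fin n) R) (LinearMap.ker pP) :=
    Module.FinitePresentation.of_equiv
      ((LinearEquiv.ofInjective iP hi).trans (LinearEquiv.ofEq _ _ hker.symm))
  exact Module.finitePresentation_of_ker pP hp

/-- The quotient of a relatively finitely presented module by a finite submodule is relatively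
finitely presented. -/
theorem RFP.of_exact_of_finite (i : N' →ₗ[A] N) (p : N →ₗ[A] N'') (hp : Surjective p)
    (hex : Function.Exact i p) [Module.Finite A N'] (h : RFP ρ N) : RFP ρ N'' := by
  obtain ⟨n, φ, hρ, hφ, hfp⟩ := (rfp_iff _ _).mp h
  rw [rfp_iff]
  refine ⟨n, φ, hρ, hφ, ?_⟩
  letI algPA : Algebra (MvPolynomial (Fin n) R) A := φ.toAlgebra
  letI m2 : Module (MvPolynomial (Fin n) R) N := Module.compHom N φ
  letI m3 : Module (MvPolynomial (Fin n) R) N'' := Module.compHom N'' φ
  haveI t2 : IsScalarTower (MvPolynomial (Fin n) R) A N := ⟨fun q a m => by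
    show (φ q * a) • m = φ q • (a • m)
    rw [mul_smul]⟩
  haveI t3 : IsScalarTower (MvPolynomial (Fin n) R) A N'' := ⟨fun q a m => by
    show (φ q * a) • m = φ q • (a • m)
    rw [mul_smul]⟩
  haveI : Module.FinitePresentation (MvPolynomial (Fin n) R) N := hfp
  let pP : N →ₗ[MvPolynomial (Fin n) R] N'' := p.restrictScalars _
  have hfg : (LinearMap.ker p).FG := by
    rw [LinearMap.exact_iff.mp hex, LinearMap.range_eq_map]
    exact (Module.Finite.fg_top (R := A) (M := N')).map i
  refine Module.finitePresentation_of_surjective pP hp ?_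
  rw [LinearMap.ker_restrictScalars]
  exact hfg.restrictScalars_of_surjective hφ

end Ring

section Scheme

variable {X S : Scheme.{u}} (f : X ⟶ S)

/-- Scheme-level: the middle term of a short exact sequence of quasi-coherent modules with
relatively finitely presented outer terms. -/
theorem isRelFP_of_shortExact_extremes [LocallyOfFiniteType f] (E : ShortComplex X.Modules)
    (hE : E.ShortExact) [E.X₁.IsQuasicoherent] [E.X₃.IsQuasicoherent]
    (h₁ : Flatn.IsRelFP f E.X₁) (h₃ : Flatn.IsRelFP f E.X₃) : Flatn.IsRelFP f E.X₂ := by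
  apply isRelFP_of_forall
  intro U V h
  haveI := hE.mono_f
  exact RFP.of_exact (appₗ E.f U) (appₗ E.g U) (appₗ_injective_of_mono E.f U)
    (Groth.Agent.H22.QCohH1.app_surjective E hE U.2) (appₗ_exact E hE.exact U)
    (relFPOpens_of_isRelFP h₁ U.2 V.2 h) (relFPOpens_of_isRelFP h₃ U.2 V.2 h)

/-- Scheme-level: the quotient of a relatively finitely presented module by a finite type
quasi-coherent submodule. -/
theorem isRelFP_of_shortExact_finiteType_sub [LocallyOfFiniteType f] (E : ShortComplex X.Modules)
    (hE : E.ShortExact) [E.X₁.IsQuasicoherent] [E.X₂.IsQuasicoherent]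
    [SheafOfModules.IsFiniteType (R := X.ringCatSheaf) E.X₁]
    (h₂ : Flatn.IsRelFP f E.X₂) : Flatn.IsRelFP f E.X₃ := by
  apply isRelFP_of_forall
  intro U V h
  haveI := hE.mono_f
  haveI : Module.Finite Γ(X, (U : X.Opens)) Γ(E.X₁, (U : X.Opens)) :=
    finite_sections_of_isAffineOpen E.X₁ U.2
  exact RFP.of_exact_of_finite (appₗ E.f U) (appₗ E.g U)
    (Groth.Agent.H22.QCohH1.app_surjective E hE U.2) (appₗ_exact E hE.exact U)
    (relFPOpens_of_isRelFP h₂ U.2 V.2 h)

end Scheme

end Groth.Agent.H8
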