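import Groth.Agent.H8.RelFPExact
import Groth.Agent.H8.QCohPush
import Mathlib

/-!
Relative finite presentation and finite morphisms.
-/

set_option autoImplicit false
set_option linter.style.haveILetI false
universe u

open CategoryTheory CategoryTheory.Limits AlgebraicGeometry TopologicalSpace Opposite

namespace Groth.Agent.H8

open Function

section Ring

variable {R A : Type u} [CommRing R] [CommRing A]

/-- Relative finite presentation can be tested on any surjection from a polynomial ring. -/
theorem rfp_iff_of_surjective (ρ : R →+* A) {N : Type u} [AddCommGroup N] [Module A N] {n : ℕ}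
    (φ : MvPolynomial (Fin n) R →+* A) (hφ : Surjective φ) (hc : φ.comp MvPolynomial.C = ρ) :
    RFP ρ N ↔ @Module.FinitePresentation (MvPolynomial (Fin n) R) N _ _ (Module.compHom N φ) :=
  ⟨fun h => h.fp_of MvPolynomial.C (finitePresentation_C n) φ hφ hc,
    fun h => (rfp_iff _ _).mpr ⟨n, φ, hc, hφ, h⟩⟩

/-- Finite extension of the source ring (one type carrying both module structures). -/
theorem rfp_comp_finite_iff (ρ : R →+* A) (hρ : ρ.FiniteType) {B : Type u} [CommRing B]
    (ψ : A →+* B) (hψ : ψ.Finite) (M : Type u) [AddCommGroup M] [Module B M] [Module A M]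
    (hsm : ∀ (a : A) (m : M), a • m = ψ a • m) : RFP ρ M ↔ RFP (ψ.comp ρ) M := by
  letI := ρ.toAlgebra
  letI := ψ.toAlgebra
  letI := (ψ.comp ρ).toAlgebra
  haveI : IsScalarTower R A B := IsScalarTower.of_algebraMap_eq' rfl
  haveI : Algebra.FiniteType R A := hρ
  haveI : Module.Finite A B := hψ
  haveI : Algebra.FiniteType R B :=
    Algebra.FiniteType.trans (inferInstance : Algebra.FiniteType R A) inferInstance
  haveI : IsScalarTower A B M := ⟨fun a b m => by
    rw [hsm, Algebra.smul_def, mul_smul]
    rfl⟩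
  obtain ⟨n, α, hα⟩ := Algebra.FiniteType.iff_quotient_mvPolynomial''.mp
    (inferInstance : Algebra.FiniteType R A)
  obtain ⟨k, β, hβ⟩ := Algebra.FiniteType.iff_quotient_mvPolynomial''.mp
    (inferInstance : Algebra.FiniteType R B)
  have key := S6992.result M α hα β hβ
  rw [rfp_iff_of_surjective ρ α.toRingHom hα (by ext r; exact α.commutes r),
    rfp_iff_of_surjective (ψ.comp ρ) β.toRingHom hβ (by ext r; exact β.commutes r)]
  exact key

/-- Finite extension of the source ring, with the two module structures on (additively)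
isomorphic groups. -/
theorem rfp_comp_finite_iff' (ρ : R →+* A) (hρ : ρ.FiniteType) {B : Type u} [CommRing B]
    (ψ : A →+* B) (hψ : ψ.Finite) {MA MB : Type u} [AddCommGroup MA] [Module A MA]
    [AddCommGroup MB] [Module B MB] (ε : MA ≃+ MB)
    (hε : ∀ (a : A) (m : MA), ε (a • m) = ψ a • ε m) : RFP ρ MA ↔ RFP (ψ.comp ρ) MB := by
  letI mA : Module A MB := Module.compHom MB ψ
  have h1 : RFP ρ MA ↔ RFP ρ MB := by
    have hid : ((RingEquiv.refl A : A →+* A)).comp ρ = ρ := by
      ext r
      rfl
    constructor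
    · intro h
      exact RFP.congr (h.of_equiv (RingEquiv.refl A) ε (fun a m => hε a m)) hid
    · intro h
      refine RFP.congr (h.of_equiv (RingEquiv.refl A) ε.symm (fun a m => ?_)) hid
      apply ε.injective
      rw [AddEquiv.apply_symm_apply]
      show a • m = ε ((RingEquiv.refl A) a • ε.symm m)
      rw [hε, AddEquiv.apply_symm_apply]
      rfl
  rw [h1]
  exact rfp_comp_finite_iff ρ hρ ψ hψ MB (fun a m => rfl)

end Ring

section Scheme

variable {X Y S : Scheme.{u}} (π : X ⟶ Y) (g : Y ⟶ S) (F : X.Modules)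

/-- For a finite morphism `π` and an affine pair `(W, V)` for `g`: relative finite presentation
of `π_* F` on `(W, V)` is that of `F` on `(π⁻¹ W, V)`. -/
theorem relFPOpens_pushforward_iff [IsFinite π] [LocallyOfFiniteType g] {W : Y.Opens}
    (hW : IsAffineOpen W) {V : S.Opens} (hV : IsAffineOpen V) (h : W ≤ g ⁻¹ᵁ V) :
    RelFPOpens g ((Scheme.Modules.pushforward π).obj F) W V h ↔
      RelFPOpens (π ≫ g) F (π ⁻¹ᵁ W) V (π.preimage_mono h) := by
  have hρ := Scheme.Hom.finiteType_appLE g hV hW h
  have hψ := Scheme.Hom.finite_app π W hW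
  have key := rfp_comp_finite_iff' (g.appLE V W h).hom hρ (π.app W).hom hψ
    (MA := Γ((Scheme.Modules.pushforward π).obj F, W)) (MB := Γ(F, π ⁻¹ᵁ W))
    (AddEquiv.refl _) (fun a m => rfl)
  have hcomp : (π.app W).hom.comp (g.appLE V W h).hom =
      ((π ≫ g).appLE V (π ⁻¹ᵁ W) (π.preimage_mono h)).hom := by
    rw [← CommRingCat.hom_comp, Scheme.Hom.app_eq_appLE, Scheme.Hom.appLE_comp_appLE]
  unfold RelFPOpens
  rw [key, hcomp]

end Scheme

end Groth.Agent.H8
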