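import Groth.Agent.H8.RelFPFinite
import Groth.Agent.H8.PullbackSections
import Groth.Agent.S7005
import Mathlib

/-!
Relative finite presentation and pullbacks.
-/

set_option autoImplicit false
set_option linter.style.haveILetI false
universe u

open CategoryTheory CategoryTheory.Limits AlgebraicGeometry TopologicalSpace Opposite

namespace Groth.Agent.H8

open Function

section Ring

variable {R A : Type u} [CommRing R] [CommRing A] {ρ : R →+* A} {N : Type u} [AddCommGroup N]
  [Module A N]

/-- Base change of the source along a finitely presented algebra. -/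
theorem RFP.tensorProduct (h : RFP ρ N) (A' : Type u) [CommRing A'] [Algebra A A']
    [Algebra.FinitePresentation A A'] :
    RFP ((algebraMap A A').comp ρ) (TensorProduct A A' N) := by
  letI := ρ.toAlgebra
  letI := ((algebraMap A A').comp ρ).toAlgebra
  haveI : IsScalarTower R A A' := IsScalarTower.of_algebraMap_eq' rfl
  obtain ⟨n, α, hα, hfp⟩ := h
  haveI : Algebra.FiniteType R A := Algebra.FiniteType.of_surjective α hα
  haveI : Algebra.FiniteType R A' :=
    Algebra.FiniteType.trans (inferInstance : Algebra.FiniteType R A) inferInstance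
  obtain ⟨k, γ, hγ⟩ := Algebra.FiniteType.iff_quotient_mvPolynomial''.mp
    (inferInstance : Algebra.FiniteType R A')
  exact ⟨k, γ, hγ, S7005.result N α hα hfp γ hγ⟩

end Ring

section Scheme

variable {X Y S : Scheme.{u}} (f : X ⟶ Y) (g : Y ⟶ S) (G : Y.Modules)

set_option backward.isDefEq.respectTransparency false in
/-- Relative finite presentation of a pullback along a finitely presented map, on affine opens. -/
theorem relFPOpens_pullback [G.IsQuasicoherent] {W : Y.Opens} (hW : IsAffineOpen W)
    {U : X.Opens} (hU : IsAffineOpen U) (e : U ≤ f ⁻¹ᵁ W) {V : S.Opens} (hWV : W ≤ g ⁻¹ᵁ V)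
    (hfp : (f.appLE W U e).hom.FinitePresentation) (H : RelFPOpens g G W V hWV) :
    RelFPOpens (f ≫ g) ((Scheme.Modules.pullback f).obj G) U V
      (e.trans (f.preimage_mono hWV)) := by
  letI := (f.appLE W U e).hom.toAlgebra
  haveI : Algebra.FinitePresentation Γ(Y, W) Γ(X, U) := hfp
  have H' : RFP (g.appLE V W hWV).hom Γ(G, W) := H
  have h1 : RFP ((algebraMap Γ(Y, W) Γ(X, U)).comp (g.appLE V W hWV).hom)
      (TensorProduct Γ(Y, W) Γ(X, U) Γ(G, W)) := RFP.tensorProduct H' Γ(X, U)
  obtain ⟨E⟩ : Nonempty (Γ((Scheme.Modules.pullback f).obj G, U) ≃ₗ[Γ(X, U)]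
      TensorProduct Γ(Y, W) Γ(X, U) Γ(G, W)) := ⟨sectionsPullbackEquiv f G hW hU e⟩
  have hsm : ∀ (a : Γ(X, U)) (n : TensorProduct Γ(Y, W) Γ(X, U) Γ(G, W)),
      E.symm (a • n) = a • E.symm n := fun a n => LinearEquiv.map_smul _ a n
  have h2 := RFP.of_equiv h1 (RingEquiv.refl Γ(X, U))
    (N' := Γ((Scheme.Modules.pullback f).obj G, U)) E.symm.toAddEquiv hsm
  refine RFP.congr h2 ?_
  rw [← Scheme.Hom.appLE_comp_appLE f g V W U hWV e]
  rfl

end Scheme

end Groth.Agent.H8
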