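import Groth.Agent.H8.RelFP
import Groth.Agent.H8.QCohAffine
import Groth.Prelude.Def_Flatn
import Mathlib

/-!
Scheme-level toolkit for relative finite presentation (`Flatn.RelFPOn`, `Flatn.IsRelFP`):
the affine communication argument.
-/

set_option autoImplicit false
set_option linter.style.haveILetI false
universe u

open CategoryTheory CategoryTheory.Limits AlgebraicGeometry TopologicalSpace Opposite

namespace Groth.Agent.H8

variable {X S : Scheme.{u}} (f : X ⟶ S) (F : X.Modules)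

/-- Relative finite presentation of `F(U)` over `Γ(S, V)`, for arbitrary opens. -/
def RelFPOpens (U : X.Opens) (V : S.Opens) (h : U ≤ f ⁻¹ᵁ V) : Prop :=
  RFP (f.appLE V U h).hom Γ(F, U)

theorem relFPOn_iff_relFPOpens (U : X.affineOpens) (V : S.affineOpens)
    (h : (U : X.Opens) ≤ f ⁻¹ᵁ (V : S.Opens)) :
    Flatn.RelFPOn f F U V h ↔ RelFPOpens f F U V h := Iff.rfl

variable {f F}

theorem RelFPOpens.congr {U U' : X.Opens} {V V' : S.Opens} {h : U ≤ f ⁻¹ᵁ V}
    (H : RelFPOpens f F U V h) (eU : U = U') (eV : V = V') (h' : U' ≤ f ⁻¹ᵁ V') :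
    RelFPOpens f F U' V' h' := by
  subst eU eV
  exact H

set_option backward.isDefEq.respectTransparency false in
/-- Step 1: passing to a basic open of the source. -/
theorem RelFPOpens.basicOpen [F.IsQuasicoherent] {U : X.Opens} (hU : IsAffineOpen U)
    {V : S.Opens} {h : U ≤ f ⁻¹ᵁ V} (H : RelFPOpens f F U V h) (g : Γ(X, U))
    (h' : X.basicOpen g ≤ f ⁻¹ᵁ V) :
    RelFPOpens f F (X.basicOpen g) V h' := by
  letI := moduleSectionBasicOpen F g
  haveI : IsScalarTower Γ(X, U) Γ(X, X.basicOpen g) Γ(F, X.basicOpen g) :=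
    IsScalarTower.of_algebraMap_smul fun _ _ => rfl
  haveI := isLocalizedModule_resBasicOpenₗ hU F g
  haveI : IsLocalization.Away g Γ(X, X.basicOpen g) := hU.isLocalization_basicOpen g
  have h1 := RFP.away (A' := Γ(X, X.basicOpen g)) H g (resBasicOpenₗ F g)
  refine RFP.congr h1 ?_
  rw [← Scheme.Hom.appLE_map f h (homOfLE (X.basicOpen_le g)).op]
  rfl

set_option backward.isDefEq.respectTransparency false in
/-- Step 2: shrinking the base to a basic open containing the image. -/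
theorem RelFPOpens.of_le_preimage_basicOpen {U : X.Opens} {V : S.Opens} (hV : IsAffineOpen V)
    (b : Γ(S, V)) (h' : U ≤ f ⁻¹ᵁ (S.basicOpen b)) {h : U ≤ f ⁻¹ᵁ V}
    (H : RelFPOpens f F U V h) : RelFPOpens f F U (S.basicOpen b) h' := by
  haveI : IsLocalization.Away b Γ(S, S.basicOpen b) := hV.isLocalization_basicOpen b
  apply RFP.of_comp_away b (f.appLE (S.basicOpen b) U h').hom
  refine RFP.congr H ?_
  rw [← Scheme.Hom.map_appLE f h' (homOfLE (S.basicOpen_le b)).op]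
  rfl

set_option backward.isDefEq.respectTransparency false in
/-- Step 3: enlarging the base from a basic open to the affine open. -/
theorem RelFPOpens.of_basicOpen_base {U : X.Opens} {V : S.Opens} (hV : IsAffineOpen V)
    (b : Γ(S, V)) {h' : U ≤ f ⁻¹ᵁ (S.basicOpen b)} (h : U ≤ f ⁻¹ᵁ V)
    (H : RelFPOpens f F U (S.basicOpen b) h') : RelFPOpens f F U V h := by
  haveI : IsLocalization.Away b Γ(S, S.basicOpen b) := hV.isLocalization_basicOpen b
  have hfp : (algebraMap Γ(S, V) Γ(S, S.basicOpen b)).FinitePresentation :=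
    RingHom.finitePresentation_algebraMap.mpr (IsLocalization.Away.finitePresentation b)
  refine RFP.congr (RFP.comp_finitePresentation H _ hfp) ?_
  rw [← Scheme.Hom.map_appLE f h' (homOfLE (S.basicOpen_le b)).op]
  rfl

set_option backward.isDefEq.respectTransparency false in
/-- Step 4: gluing over basic opens of the source covering an affine open. -/
theorem relFPOpens_of_span [F.IsQuasicoherent] {U : X.Opens} (hU : IsAffineOpen U)
    {V : S.Opens} (h : U ≤ f ⁻¹ᵁ V) (hft : (f.appLE V U h).hom.FiniteType)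
    (s : Set Γ(X, U)) (hs : Ideal.span s = ⊤)
    (H : ∀ g ∈ s, RelFPOpens f F (X.basicOpen g) V ((X.basicOpen_le g).trans h)) :
    RelFPOpens f F U V h := by
  apply rfp_of_span_set hft s hs
  intro g hg
  letI := moduleSectionBasicOpen F g
  haveI : IsScalarTower Γ(X, U) Γ(X, X.basicOpen g) Γ(F, X.basicOpen g) :=
    IsScalarTower.of_algebraMap_smul fun _ _ => rfl
  haveI := isLocalizedModule_resBasicOpenₗ hU F g
  haveI : IsLocalization.Away g Γ(X, X.basicOpen g) := hU.isLocalization_basicOpen g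
  refine RFP.away_congr g (resBasicOpenₗ F g)
    (LocalizedModule.mkLinearMap (Submonoid.powers g) Γ(F, U)) (RFP.congr (H g hg) ?_)
  rw [← Scheme.Hom.appLE_map f h (homOfLE (X.basicOpen_le g)).op]
  rfl

/-- Affine communication: relative finite presentation on the covers implies it on every pair
of affine opens. -/
theorem relFPOpens_of_isRelFP [LocallyOfFiniteType f] [F.IsQuasicoherent]
    (H : Flatn.IsRelFP f F) {U₀ : X.Opens} (hU₀ : IsAffineOpen U₀) {V₀ : S.Opens}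
    (hV₀ : IsAffineOpen V₀) (h₀ : U₀ ≤ f ⁻¹ᵁ V₀) : RelFPOpens f F U₀ V₀ h₀ := by
  obtain ⟨𝒱, h𝒱, H⟩ := H
  have hft : (f.appLE V₀ U₀ h₀).hom.FiniteType := Scheme.Hom.finiteType_appLE f hV₀ hU₀ h₀
  let s : Set Γ(X, U₀) :=
    {g | RelFPOpens f F (X.basicOpen g) V₀ ((X.basicOpen_le g).trans h₀)}
  apply relFPOpens_of_span hU₀ h₀ hft s ?_ (fun g hg => hg)
  rw [← hU₀.self_le_iSup_basicOpen_iff]
  intro x hx
  rw [Opens.mem_iSup]
  have hfx : f x ∈ (⨆ V ∈ 𝒱, (V : S.Opens)) := by rw [h𝒱]; trivial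
  simp only [Opens.mem_iSup] at hfx
  obtain ⟨V, hV𝒱, hfxV⟩ := hfx
  obtain ⟨𝒰, h𝒰, HU⟩ := H V hV𝒱
  have hxU : x ∈ (⨆ U ∈ 𝒰, (U : X.Opens)) := by rw [h𝒰]; exact hfxV
  simp only [Opens.mem_iSup] at hxU
  obtain ⟨U, hU𝒰, hxU⟩ := hxU
  have hUV : (U : X.Opens) ≤ f ⁻¹ᵁ (V : S.Opens) := by
    rw [← h𝒰]
    exact le_iSup₂ (f := fun (U : X.affineOpens) (_ : U ∈ 𝒰) => (U : X.Opens)) U hU𝒰
  have H1 : RelFPOpens f F U V hUV := HU U hU𝒰 hUV
  obtain ⟨b, b', hbb', hfxb⟩ :=
    exists_basicOpen_le_affine_inter hV₀ V.2 (f x) ⟨h₀ hx, hfxV⟩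
  obtain ⟨g₁, hg₁, hxg₁⟩ :=
    hU₀.exists_basicOpen_le (V := f ⁻¹ᵁ S.basicOpen b) ⟨x, hfxb⟩ hx
  obtain ⟨g₂, g', hgg', hxg₂⟩ :=
    exists_basicOpen_le_affine_inter (hU₀.basicOpen g₁) U.2 x ⟨hxg₁, hxU⟩
  obtain ⟨g₃, hg₃⟩ := hU₀.basicOpen_basicOpen_is_basicOpen g₁ g₂
  have hle : X.basicOpen g' ≤ f ⁻¹ᵁ S.basicOpen b' := by
    rw [← hgg', ← hbb']
    exact (X.basicOpen_le g₂).trans hg₁
  have H2 : RelFPOpens f F (X.basicOpen g') V ((X.basicOpen_le g').trans hUV) :=
    H1.basicOpen U.2 g' _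
  have H3 : RelFPOpens f F (X.basicOpen g') (S.basicOpen b') hle :=
    RelFPOpens.of_le_preimage_basicOpen V.2 b' hle H2
  have hle' : X.basicOpen g₃ ≤ f ⁻¹ᵁ S.basicOpen b := by
    rw [hg₃]
    exact (X.basicOpen_le g₂).trans hg₁
  have H4 : RelFPOpens f F (X.basicOpen g₃) (S.basicOpen b) hle' :=
    H3.congr (hgg'.symm.trans hg₃.symm) hbb'.symm hle'
  have H5 : RelFPOpens f F (X.basicOpen g₃) V₀ ((X.basicOpen_le g₃).trans h₀) :=
    RelFPOpens.of_basicOpen_base hV₀ b _ H4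
  exact ⟨⟨g₃, H5⟩, hg₃ ▸ hxg₂⟩

/-- The converse: relative finite presentation on all pairs gives the covers. -/
theorem isRelFP_of_forall
    (H : ∀ (U : X.affineOpens) (V : S.affineOpens) (h : (U : X.Opens) ≤ f ⁻¹ᵁ (V : S.Opens)),
      Flatn.RelFPOn f F U V h) : Flatn.IsRelFP f F := by
  refine ⟨Set.univ, ?_, fun V _ => ⟨{U | (U : X.Opens) ≤ f ⁻¹ᵁ (V : S.Opens)}, ?_, ?_⟩⟩
  · apply le_antisymm le_top
    intro x _
    obtain ⟨W, hW, hxW, -⟩ := exists_isAffineOpen_mem_and_subset (x := x)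
      (U := (⊤ : S.Opens)) trivial
    simp only [Opens.mem_iSup]
    exact ⟨⟨W, hW⟩, Set.mem_univ _, hxW⟩
  · apply le_antisymm
    · exact iSup₂_le fun U hU => hU
    · intro x hx
      obtain ⟨W, hW, hxW, hWle⟩ := exists_isAffineOpen_mem_and_subset (x := x)
        (U := f ⁻¹ᵁ (V : S.Opens)) hx
      simp only [Opens.mem_iSup]
      exact ⟨⟨W, hW⟩, hWle, hxW⟩
  · intro U _ h
    exact H U V h

end Groth.Agent.H8
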