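import Groth.Agent.H8.LocFreeStalk
import Mathlib.RingTheory.Spectrum.Prime.FreeLocus
import Mathlib.RingTheory.LocalRing.Module
import Mathlib.RingTheory.Localization.BaseChange

/-!
# Finite projective modules of constant rank are free near finitely many primes
-/

set_option autoImplicit false
set_option linter.style.haveILetI false
universe u
open TensorProduct

namespace Groth.Agent.H8

section Algebra

variable {A : Type u} [CommRing A]

/-- The complement of the union of a finite set of prime ideals, as a submonoid. -/
def complUnion (ps : Finset (Ideal A)) (hps : ∀ p ∈ ps, p.IsPrime) : Submonoid A where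
  carrier := {a | ∀ p ∈ ps, a ∉ p}
  one_mem' := fun p hp h1 => (hps p hp).ne_top ((Ideal.eq_top_iff_one p).mpr h1)
  mul_mem' := fun {a b} ha hb p hp hab =>
    ((hps p hp).mem_or_mem hab).elim (ha p hp) (hb p hp)

lemma mem_complUnion {ps : Finset (Ideal A)} {hps : ∀ p ∈ ps, p.IsPrime} {a : A} :
    a ∈ complUnion ps hps ↔ ∀ p ∈ ps, a ∉ p := Iff.rfl

/-- The localisation at the complement of a finite union of primes is semilocal. -/
theorem finite_maximalSpectrum_localization (ps : Finset (Ideal A)) (hps : ∀ p ∈ ps, p.IsPrime)
    (R' : Type*) [CommRing R'] [Algebra A R'] [IsLocalization (complUnion ps hps) R'] :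
    Finite (MaximalSpectrum R') := by
  classical
  have key : ∀ m : MaximalSpectrum R', m.asIdeal ∈
      (fun p : Ideal A => Ideal.map (algebraMap A R') p) '' (ps : Set (Ideal A)) := by
    intro m
    have hm := m.isMaximal
    obtain ⟨hq, hdisj⟩ :=
      (IsLocalization.isPrime_iff_isPrime_disjoint (complUnion ps hps) R' m.asIdeal).mp
        hm.isPrime
    have hsub : ((m.asIdeal.under A : Ideal A) : Set A) ⊆ ⋃ p ∈ (ps : Set (Ideal A)), (p : Set A) := by
      intro a ha
      have hnot : a ∉ complUnion ps hps := fun h => Set.disjoint_left.mp hdisj h ha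
      rw [mem_complUnion] at hnot
      push_neg at hnot
      obtain ⟨p, hp, hap⟩ := hnot
      exact Set.mem_biUnion (Finset.mem_coe.mpr hp) hap
    obtain ⟨p, hp, hle⟩ := (Ideal.subset_union_prime (f := fun p : Ideal A => p) ⊥ ⊥
      (fun i hi _ _ => hps i hi)).mp hsub
    refine ⟨p, Finset.mem_coe.mpr hp, ?_⟩
    have hpd : Disjoint ((complUnion ps hps : Submonoid A) : Set A) (p : Set A) :=
      Set.disjoint_left.mpr fun a ha hap => ha p hp hap
    have hpp : (Ideal.map (algebraMap A R') p).IsPrime :=
      IsLocalization.isPrime_of_isPrime_disjoint (complUnion ps hps) R' p (hps p hp) hpd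
    have hle' : m.asIdeal ≤ Ideal.map (algebraMap A R') p := by
      rw [← IsLocalization.map_under (complUnion ps hps) R' m.asIdeal]
      exact Ideal.map_mono hle
    exact (hm.eq_of_le hpp.ne_top hle').symm
  have hfin : ((fun p : Ideal A => Ideal.map (algebraMap A R') p) ''
      (ps : Set (Ideal A))).Finite := (Finset.finite_toSet ps).image _
  haveI := hfin.to_subtype
  exact Finite.of_injective
    (fun m : MaximalSpectrum R' => (⟨m.asIdeal, key m⟩ :
      ((fun p : Ideal A => Ideal.map (algebraMap A R') p) '' (ps : Set (Ideal A)))))
    (fun m₁ m₂ h => MaximalSpectrum.ext (congrArg Subtype.val h))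

variable (M : Type u) [AddCommGroup M] [Module A M] [Module.Finite A M] [Module.Flat A M]

/-- A finite flat module of constant rank `r` over a semilocal ring is free of rank `r`. -/
theorem free_of_rankAtStalk_eq_of_semilocal [Finite (MaximalSpectrum A)] (r : ℕ)
    (hrank : ∀ q : PrimeSpectrum A, Module.rankAtStalk M q = r) :
    Module.Free A M ∧ (Nontrivial A → Module.finrank A M = r) := by
  have hfree : Module.Free A M := by
    apply Module.free_of_flat_of_finrank_eq A M r
    intro P
    letI := Ideal.Quotient.field P.asIdeal
    have h1 := Module.rankAtStalk_baseChange (R := A) (M := M) (S := A ⧸ P.asIdeal)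
      (⟨⊥, Ideal.isPrime_bot⟩ : PrimeSpectrum (A ⧸ P.asIdeal))
    rw [Module.rankAtStalk_eq_finrank_of_free, hrank] at h1
    exact h1
  refine ⟨hfree, fun hA => ?_⟩
  haveI := hfree
  haveI := hA
  obtain ⟨q⟩ : Nonempty (PrimeSpectrum A) := inferInstance
  have := congrFun (Module.rankAtStalk_eq_finrank_of_free (R := A) (M := M)) q
  rw [hrank q] at this
  exact this.symm

omit [Module.Finite A M] [Module.Flat A M] in
lemma nonempty_away_equiv_of_subsingleton (s : A) (r : ℕ)
    (h : Subsingleton (Localization.Away s)) :
    Nonempty (LocalizedModule.Away s M ≃ₗ[Localization.Away s]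
      (Fin r → Localization.Away s)) := by
  haveI := h
  haveI : Subsingleton (LocalizedModule.Away s M) :=
    Module.subsingleton (Localization.Away s) _
  exact ⟨LinearEquiv.ofSubsingleton _ _⟩

lemma nonempty_away_equiv_of_rank (s : A) (n r : ℕ)
    (hrank : ∀ q : PrimeSpectrum A, Module.rankAtStalk M q = r)
    (e : LocalizedModule.Away s M ≃ₗ[Localization.Away s] (Fin n → Localization.Away s)) :
    Nonempty (LocalizedModule.Away s M ≃ₗ[Localization.Away s]
      (Fin r → Localization.Away s)) := by
  by_cases hnt : Nontrivial (Localization.Away s)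
  · obtain ⟨q⟩ : Nonempty (PrimeSpectrum (Localization.Away s)) := inferInstance
    have h1 : Module.rankAtStalk (LocalizedModule.Away s M) q = r := by
      rw [Module.rankAtStalk_isBaseChange
        (LocalizedModule.isBaseChange (Submonoid.powers s) M) q]
      exact hrank _
    have h2 : Module.rankAtStalk (LocalizedModule.Away s M) q = n := by
      rw [Module.rankAtStalk_eq_of_equiv e]
      have := congrFun (Module.rankAtStalk_eq_finrank_of_free (R := Localization.Away s)
        (M := Fin n → Localization.Away s)) q
      rw [this]
      simp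
    have hnr : n = r := h2.symm.trans h1
    subst hnr
    exact ⟨e⟩
  · rw [not_nontrivial_iff_subsingleton] at hnt
    exact nonempty_away_equiv_of_subsingleton M s r hnt

/-- A finitely presented flat module of constant rank `r` becomes free of rank `r` after
inverting one element avoiding finitely many given primes. -/
theorem exists_free_away_of_rankAtStalk_eq [Module.FinitePresentation A M] (r : ℕ)
    (hrank : ∀ q : PrimeSpectrum A, Module.rankAtStalk M q = r)
    (ps : Finset (Ideal A)) (hps : ∀ p ∈ ps, p.IsPrime) :
    ∃ s : A, (∀ p ∈ ps, s ∉ p) ∧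
      Nonempty (LocalizedModule.Away s M ≃ₗ[Localization.Away s]
        (Fin r → Localization.Away s)) := by
  by_cases hne : ps.Nonempty
  · haveI : Finite (MaximalSpectrum (Localization (complUnion ps hps))) :=
      finite_maximalSpectrum_localization ps hps _
    haveI : Nontrivial (Localization (complUnion ps hps)) := by
      obtain ⟨p, hp⟩ := hne
      by_contra h
      rw [not_nontrivial_iff_subsingleton] at h
      have h0 : (0 : A) ∈ complUnion ps hps :=
        (IsLocalization.subsingleton_iff (M := complUnion ps hps)
          (S := Localization (complUnion ps hps))).mp h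
      exact h0 p hp (zero_mem p)
    haveI : Module.Flat (Localization (complUnion ps hps))
        (LocalizedModule (complUnion ps hps) M) :=
      Module.Flat.of_isLocalizedModule (Localization (complUnion ps hps)) (complUnion ps hps)
        (LocalizedModule.mkLinearMap (complUnion ps hps) M)
    have hrank' : ∀ q : PrimeSpectrum (Localization (complUnion ps hps)),
        Module.rankAtStalk (LocalizedModule (complUnion ps hps) M) q = r := by
      intro q
      rw [Module.rankAtStalk_isBaseChange
        (LocalizedModule.isBaseChange (complUnion ps hps) M) q]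
      exact hrank _
    obtain ⟨hfree, -⟩ := free_of_rankAtStalk_eq_of_semilocal
      (A := Localization (complUnion ps hps)) (LocalizedModule (complUnion ps hps) M) r hrank'
    haveI := hfree
    obtain ⟨s, hs, n, ⟨e⟩⟩ := exists_free_away_of_free M (complUnion ps hps)
      (Localization (complUnion ps hps)) (LocalizedModule.mkLinearMap (complUnion ps hps) M)
    exact ⟨s, hs, nonempty_away_equiv_of_rank M s n r hrank e⟩
  · rw [Finset.not_nonempty_iff_eq_empty] at hne
    subst hne
    refine ⟨0, by simp, nonempty_away_equiv_of_subsingleton M 0 r ?_⟩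
    exact IsLocalization.subsingleton (M := Submonoid.powers (0 : A))
      (Submonoid.mem_powers (0 : A))

end Algebra

end Groth.Agent.H8
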