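import Groth.Prelude.Def_BlowUp2
import Groth.Agent.H8.SectionsExact
import Groth.Agent.H8.QCohQcqs

/-!
# The kernel of a strict transform map vanishes away from the centre (helper8)
-/

set_option autoImplicit false
set_option linter.style.haveILetI false
universe u
open CategoryTheory CategoryTheory.Limits AlgebraicGeometry TopologicalSpace Opposite

namespace Groth.Agent.H8

/-- An ideal sheaf whose support misses an affine open has the unit ideal there. -/
theorem ideal_eq_top_of_disjoint_support {X : Scheme.{u}} (E : X.IdealSheafData)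
    (T : X.affineOpens) (h : Disjoint (E.support : Set X) (T.1 : Set X)) : E.ideal T = ⊤ := by
  have h1 : X.zeroLocus (U := T.1) (E.ideal T) ∩ T.1 = ∅ := by
    rw [← E.coe_support_inter T]
    exact Set.disjoint_iff_inter_eq_empty.mp h
  rw [← T.2.fromSpec_image_zeroLocus, Set.image_eq_empty] at h1
  exact PrimeSpectrum.zeroLocus_empty_iff_eq_top.mp h1

/-- If the kernel of `π` consists of sections killed by powers of `E`, the kernel vanishes on any
open disjoint from the support of `E`. -/
theorem isZero_kernel_restrict {X : Scheme.{u}} (P G : X.Modules) (E : X.IdealSheafData)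
    (π : P ⟶ G)
    (h : ∀ (V : X.affineOpens) (m : Γ(P, V.1)), π.app V.1 m = 0 → BlowUp.KilledByPowerNear E P V m)
    (W : X.Opens) (hW : Disjoint (E.support : Set X) (W : Set X)) :
    IsZero ((kernel π).restrict W.ι) := by
  have key : ∀ (T : X.Opens) (_ : T ≤ W) (k : Γ(kernel π, T)), k = 0 := by
    intro T hT k
    apply section_eq_of_cover
    intro x hxT
    obtain ⟨T', hT', hxT', hT'T0⟩ := exists_isAffineOpen_mem_and_subset (x := x) (U := T) hxT
    have hT'T : T' ≤ T := hT'T0
    refine ⟨T', hT'T, hxT', ?_⟩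
    rw [map_zero]
    apply app_injective_of_mono (kernel.ι π) T'
    rw [map_zero]
    generalize (kernel π).presheaf.map (homOfLE hT'T).op k = k'
    have h0 : π.app T' ((kernel.ι π).app T' k') = 0 :=
      congrArg (fun φ : kernel π ⟶ G => φ.app T' k') (kernel.condition π)
    obtain ⟨n, hn⟩ := h ⟨T', hT'⟩ _ h0
    have htop : E.ideal ⟨T', hT'⟩ = ⊤ :=
      ideal_eq_top_of_disjoint_support E ⟨T', hT'⟩
        (hW.mono_right (show (T' : Set X) ≤ (W : Set X) from fun y hy => hT (hT'T hy)))
    have h1 : (1 : Γ(X, T')) ∈ (E ^ n).ideal ⟨T', hT'⟩ := by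
      rw [Scheme.IdealSheafData.ideal_pow]
      change (1 : Γ(X, T')) ∈ (E.ideal ⟨T', hT'⟩) ^ n
      rw [htop, Ideal.top_pow]
      trivial
    have := hn 1 h1
    rwa [one_smul] at this
  rw [IsZero.iff_id_eq_zero]
  apply Scheme.Modules.hom_ext
  intro V
  ext k
  exact key (W.ι ''ᵁ V) (W.ι_image_le V) k

end Groth.Agent.H8
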