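import Groth.Prelude.Def_BlowUp2
import Groth.Agent.H8.QCohPushLocal
import Groth.Agent.H8.SectionsExact
import Groth.Agent.H8.QCohQcqs
import Groth.Agent.H8.IsoCover
import Groth.Agent.H8.CohKerCoker
import Groth.Agent.H22.QCohLimits
import Groth.Agent.H9.EffCartier

/-!
# Strict transforms of quasi-coherent modules along effective Cartier centres are quasi-coherent
(helper8)
-/

set_option autoImplicit false
set_option linter.style.haveILetI false
universe u
open CategoryTheory CategoryTheory.Limits AlgebraicGeometry TopologicalSpace Opposite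

namespace Groth.Agent.H8

/-- If `E` is effective Cartier and the kernel of `π : P ⟶ G` consists, on affine opens, exactly of
the sections killed by a power of `E`, then the kernel of `π` is quasi-coherent. -/
theorem isQuasicoherent_kernel_of_killedByPower {X : Scheme.{u}} (P G : X.Modules)
    [P.IsQuasicoherent] (E : X.IdealSheafData) (hEC : BlowUp.IsEffCartierIdeal E) (π : P ⟶ G)
    (hG2 : ∀ (V : X.affineOpens) (m : Γ(P, V.1)), π.app V.1 m = 0 ↔
      BlowUp.KilledByPowerNear E P V m) : (kernel π).IsQuasicoherent := by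
  classical
  let S : ShortComplex X.Modules := ShortComplex.mk (kernel.ι π) π (kernel.condition π)
  have hS : S.Exact := ShortComplex.exact_of_f_is_kernel S (kernelIsKernel π)
  haveI : Mono S.f := inferInstanceAs (Mono (kernel.ι π))
  let ι := {U : X.affineOpens // ∃ δ : Γ(X, U.1), E.ideal U = Ideal.span {δ}}
  have hcov : IsOpenCover (fun i : ι => (i.1 : X.Opens)) := by
    refine eq_top_iff.mpr fun x _ => ?_
    obtain ⟨U, hxU, δ, -, hδ⟩ := hEC x
    exact Opens.mem_iSup.mpr ⟨⟨U, δ, hδ⟩, hxU⟩
  have hex : ∀ (U : X.affineOpens) (δ : Γ(X, U.1)) (_ : E.ideal U = Ideal.span {δ})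
      (a : Γ(X, U.1)) (y : Γ(kernel π, X.basicOpen a)), ∃ (n : ℕ) (x : Γ(kernel π, U.1)),
      (X.presheaf.map (homOfLE (X.basicOpen_le a)).op a) ^ n • y =
        (kernel π).presheaf.map (homOfLE (X.basicOpen_le a)).op x := by
    intro U δ hδ a y
    have hDU : X.basicOpen a ≤ U.1 := X.basicOpen_le a
    have hmem : δ ∈ E.ideal U := hδ ▸ Ideal.mem_span_singleton_self δ
    obtain ⟨y', hy'⟩ : ∃ y' : Γ(P, X.basicOpen a), y' = (kernel.ι π).app _ y := ⟨_, rfl⟩
    have h0 : π.app _ y' = 0 := by rw [hy']; exact app_comp_eq_zero S _ y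
    obtain ⟨N, hN⟩ := (hG2 (X.affineBasicOpen a) y').mp h0
    have hδN : (X.presheaf.map (homOfLE hDU).op δ) ^ N • y' = 0 := by
      apply hN
      rw [Scheme.IdealSheafData.ideal_pow]
      change _ ∈ (E.ideal (X.affineBasicOpen a)) ^ N
      refine Ideal.pow_mem_pow ?_ N
      rw [← E.map_ideal_basicOpen U a]
      exact Ideal.mem_map_of_mem _ hmem
    obtain ⟨n, m, hm⟩ := exists_smul_eq_res U.2 P a y'
    have h1 : P.presheaf.map (homOfLE hDU).op (δ ^ N • m) = 0 := by
      rw [res_smul, ← hm, map_pow, smul_comm, hδN, smul_zero]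
    obtain ⟨k, hk⟩ := exists_smul_eq_zero U.2 P a (δ ^ N • m) h1
    have h2 : S.g.app U.1 (a ^ k • m) = 0 := by
      change π.app U.1 (a ^ k • m) = 0
      refine (hG2 U _).mpr ⟨N, fun r hr => ?_⟩
      rw [Scheme.IdealSheafData.ideal_pow] at hr
      change r ∈ (E.ideal U) ^ N at hr
      rw [hδ, Ideal.span_singleton_pow] at hr
      obtain ⟨c, rfl⟩ := Ideal.mem_span_singleton'.mp hr
      rw [mul_smul, smul_comm (δ ^ N), hk, smul_zero]
    obtain ⟨x, hx⟩ := exists_app_eq_of_exact S hS U.1 (a ^ k • m) h2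
    have hx' : (kernel.ι π).app U.1 x = a ^ k • m := hx
    refine ⟨k + n, x, ?_⟩
    apply app_injective_of_mono (kernel.ι π)
    rw [Scheme.Modules.Hom.app_smul, app_res, hx', res_smul, ← hm, map_pow, pow_add,
      mul_smul, hy']
  have hzero : ∀ (U : X.affineOpens) (a : Γ(X, U.1)) (x : Γ(kernel π, U.1)),
      (kernel π).presheaf.map (homOfLE (X.basicOpen_le a)).op x = 0 → ∃ n : ℕ, a ^ n • x = 0 := by
    intro U a x hx
    have h1 : P.presheaf.map (homOfLE (X.basicOpen_le a)).op ((kernel.ι π).app U.1 x) = 0 := by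
      rw [← app_res, hx, map_zero]
    obtain ⟨n, hn⟩ := exists_smul_eq_zero U.2 P a ((kernel.ι π).app U.1 x) h1
    refine ⟨n, app_injective_of_mono (kernel.ι π) U.1 ?_⟩
    rw [Scheme.Modules.Hom.app_smul, hn, map_zero]
  refine isQuasicoherent_of_sections_cover (kernel π) (fun i : ι => (i.1 : X.Opens)) hcov
    (fun i => i.1.2) ?_ ?_
  · intro i a y
    obtain ⟨δ, hδ⟩ := i.2
    exact hex i.1 δ hδ a y
  · intro i a x hx
    exact hzero i.1 a x hx

/-- The target of an epimorphism from a quasi-coherent module whose kernel consists, on affine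
opens, exactly of the sections killed by a power of an effective Cartier ideal is quasi-coherent
(e.g. a strict transform along a blow-up). -/
theorem isQuasicoherent_of_killedByPower {X : Scheme.{u}} (P G : X.Modules)
    [P.IsQuasicoherent] (E : X.IdealSheafData) (hEC : BlowUp.IsEffCartierIdeal E) (π : P ⟶ G)
    [Epi π]
    (hG2 : ∀ (V : X.affineOpens) (m : Γ(P, V.1)), π.app V.1 m = 0 ↔
      BlowUp.KilledByPowerNear E P V m) : G.IsQuasicoherent := by
  haveI := isQuasicoherent_kernel_of_killedByPower P G E hEC π hG2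
  have h := Abelian.epiIsCokernelOfKernel _ (kernelIsKernel π)
  let e : cokernel (kernel.ι π) ≅ G := (colimit.isColimit _).coconePointUniqueUpToIso h
  haveI : (cokernel (kernel.ι π)).IsQuasicoherent := isQuasicoherent_cokernel (kernel.ι π)
  exact Groth.Agent.H22.QCohLimits.isQuasicoherent_of_iso e

end Groth.Agent.H8
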