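import Groth.Agent.H8.TensorQCoh
import Groth.Agent.H8.LocFreeSections
import Groth.Agent.H8.LocFreeNearFinite

/-!
# The tensor product of finite locally free modules is finite locally free
-/

set_option autoImplicit false
set_option backward.isDefEq.respectTransparency false
set_option linter.style.haveILetI false
universe u
open CategoryTheory CategoryTheory.Limits AlgebraicGeometry TensorProduct Opposite MonoidalCategory

namespace Groth.Agent.H8

open Scheme.Modules Groth.Agent.H18.TensorModIso

/-- The tensor product of finite locally free modules is finite locally free. -/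
theorem isFinLocFree_tensorMod {X : Scheme.{u}} {G D : X.Modules}
    (hG : FlatMod.IsFinLocFree G) (hD : FlatMod.IsFinLocFree D) :
    FlatMod.IsFinLocFree (CohB1.tensorMod G D) := by
  haveI : G.IsQuasicoherent := isQuasicoherent_of_isFinLocFree G hG
  haveI : D.IsQuasicoherent := isQuasicoherent_of_isFinLocFree D hD
  haveI := isQuasicoherent_tensorMod G D
  apply isFinLocFree_of_projective_sections
  intro x
  obtain ⟨U, hU, hxU, -⟩ := exists_isAffineOpen_mem_and_subset (x := x) (U := ⊤) trivial
  obtain ⟨e⟩ := nonempty_restrict_tensorMod_iso_tilde G D hU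
  let K : ModuleCat.{u} Γ(X, U) :=
    ModuleCat.of Γ(X, U) (secMod hU G ⊗[Γ(X, U)] secMod hU D)
  let e1 : secMod hU (CohB1.tensorMod G D) ≅ K :=
    (moduleSpecΓFunctor (R := Γ(X, U))).mapIso e ≪≫ (tilde.isoTop K).symm
  obtain ⟨hGfp, hGproj⟩ := finitePresentation_projective_sections_of_isFinLocFree G hG hU
  obtain ⟨hDfp, hDproj⟩ := finitePresentation_projective_sections_of_isFinLocFree D hD hU
  haveI hF1 : Module.Finite Γ(X, U) (secMod hU G) :=
    Module.Finite.equiv (sectionsRestrictEquiv hU G).symm
  haveI hG1 : Module.Finite Γ(X, U) (secMod hU D) :=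
    Module.Finite.equiv (sectionsRestrictEquiv hU D).symm
  haveI hF2 : Module.Projective Γ(X, U) (secMod hU G) :=
    Module.Projective.of_equiv (sectionsRestrictEquiv hU G).symm
  haveI hG2 : Module.Projective Γ(X, U) (secMod hU D) :=
    Module.Projective.of_equiv (sectionsRestrictEquiv hU D).symm
  haveI hK1 : Module.Finite Γ(X, U) K :=
    inferInstanceAs (Module.Finite Γ(X, U) (secMod hU G ⊗[Γ(X, U)] secMod hU D))
  haveI hK2 : Module.Projective Γ(X, U) K :=
    inferInstanceAs (Module.Projective Γ(X, U) (secMod hU G ⊗[Γ(X, U)] secMod hU D))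
  haveI hT1 : Module.Finite Γ(X, U) (secMod hU (CohB1.tensorMod G D)) :=
    Module.Finite.equiv e1.toLinearEquiv.symm
  haveI hT2 : Module.Projective Γ(X, U) (secMod hU (CohB1.tensorMod G D)) :=
    Module.Projective.of_equiv e1.toLinearEquiv.symm
  exact ⟨U, hU, hxU, Module.Finite.equiv (sectionsRestrictEquiv hU (CohB1.tensorMod G D)),
    Module.Projective.of_equiv (sectionsRestrictEquiv hU (CohB1.tensorMod G D))⟩

end Groth.Agent.H8
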