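import Groth.Agent.H8.TensorStalk
import Groth.Agent.H39.DerUniv
import Groth.Agent.H18.TensorGen

/-!
# `(M ⊗ N)~ ≅ M~ ⊗ N~` on `Spec R`
-/

set_option autoImplicit false
set_option backward.isDefEq.respectTransparency false
set_option linter.style.haveILetI false
universe u
open CategoryTheory CategoryTheory.Limits AlgebraicGeometry TensorProduct Opposite MonoidalCategory
open Groth.Agent.H31 Groth.Agent.H31.Stalk Groth.Agent.H40.StalkTensor
open Groth.Agent.S5947 (toΓ ofΓ toΓ_apply toΓ_ofΓ ofΓ_toΓ toΓ_smul smul_top)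

namespace Groth.Agent.H8.TildeTensor

noncomputable section

/-- A linear map out of a localisation of `M ⊗ N` which sends `m ⊗ n` to the tensor of the
images in the localisations of `M` and `N` is bijective. -/
theorem bijective_of_tmul {R A : Type*} [CommRing R] (S : Submonoid R) [CommRing A] [Algebra R A]
    [IsLocalization S A]
    {M N P M' N' : Type*} [AddCommGroup M] [AddCommGroup N] [AddCommGroup P] [AddCommGroup M']
    [AddCommGroup N'] [Module R M] [Module R N] [Module R P] [Module A P] [IsScalarTower R A P]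
    [Module R M'] [Module A M'] [IsScalarTower R A M'] [Module R N'] [Module A N']
    [IsScalarTower R A N']
    (f₀ : M ⊗[R] N →ₗ[R] P) [IsLocalizedModule S f₀] (f₁ : M →ₗ[R] M') [IsLocalizedModule S f₁]
    (f₂ : N →ₗ[R] N') [IsLocalizedModule S f₂]
    (g : P →ₗ[A] M' ⊗[A] N') (hg : ∀ m n, g (f₀ (m ⊗ₜ n)) = f₁ m ⊗ₜ f₂ n) :
    Function.Bijective g := by
  let e : M' ⊗[A] N' ≃ₗ[A] M' ⊗[R] N' := IsLocalization.moduleTensorEquiv S A M' N'
  let e' : M' ⊗[R] N' ≃ₗ[R] M' ⊗[A] N' := e.symm.restrictScalars R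
  let L2 : M ⊗[R] N →ₗ[R] M' ⊗[A] N' := e'.toLinearMap ∘ₗ TensorProduct.map f₁ f₂
  have hL2 : IsLocalizedModule S L2 :=
    IsLocalizedModule.of_linearEquiv S (TensorProduct.map f₁ f₂) e'
  have he' : ∀ a b, e' (a ⊗ₜ[R] b) = a ⊗ₜ[A] b := by
    intro a b
    show e.symm (a ⊗ₜ[R] b) = a ⊗ₜ[A] b
    rw [LinearEquiv.symm_apply_eq]
    rfl
  have h : (g.restrictScalars R) ∘ₗ f₀ = L2 := by
    refine TensorProduct.ext' (fun m n => ?_)
    show g (f₀ (m ⊗ₜ n)) = e' (TensorProduct.map f₁ f₂ (m ⊗ₜ n))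
    rw [hg, TensorProduct.map_tmul, he']
  let E := IsLocalizedModule.linearEquiv S f₀ L2
  have hE : g.restrictScalars R = E.toLinearMap := by
    refine IsLocalizedModule.linearMap_ext S f₀ L2 ?_
    rw [h]
    ext m n
    simp [E]
  have : (g : P → M' ⊗[A] N') = E := by
    funext p
    exact congrArg (fun l => l p) hE
  rw [this]
  exact E.bijective

/-- A morphism of modules which is an isomorphism on all stalks is an isomorphism. -/
theorem isIso_of_stk {X : Scheme.{u}} {F G : X.Modules} (α : F ⟶ G)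
    (h : ∀ x : X, IsIso ((stk (shX X) x).map α)) : IsIso α := by
  have hmono : Mono α := by
    rw [Preadditive.mono_iff_isZero_kernel]
    apply isZero_of_stk (O := shX X) (kernel α)
    intro x
    haveI := h x
    exact IsZero.of_iso (isZero_kernel_of_mono ((stk (shX X) x).map α))
      (PreservesKernel.iso (stk (shX X) x) α)
  have hepi : Epi α := by
    rw [Preadditive.epi_iff_isZero_cokernel]
    apply isZero_of_stk (O := shX X) (cokernel α)
    intro x
    haveI := h x
    exact IsZero.of_iso (isZero_cokernel_of_epi ((stk (shX X) x).map α))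
      (PreservesCokernel.iso (stk (shX X) x) α)
  exact isIso_of_mono_of_epi α


section General
variable {X : Scheme.{u}}
open Groth.Agent.H18.SecTw

theorem tm_add_left (M N : X.Modules) {U : X.Opens} (m m' : Γ(M, U)) (n : Γ(N, U)) :
    tm M N (m + m') n = tm M N m n + tm M N m' n := by
  have h1 := TensorProduct.add_tmul
    (R := ((X.sheaf.obj ⋙ forget₂ CommRingCat RingCat).obj (op U)))
    (show (CohB1.toPMod M).obj (op U) from m)
    (show (CohB1.toPMod M).obj (op U) from m') (show (CohB1.toPMod N).obj (op U) from n)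
  exact (congrArg ((SecTwist.toTensor M N).app (op U)).hom h1).trans
    (((SecTwist.toTensor M N).app (op U)).hom.map_add _ _)

theorem tm_add_right (M N : X.Modules) {U : X.Opens} (m : Γ(M, U)) (n n' : Γ(N, U)) :
    tm M N m (n + n') = tm M N m n + tm M N m n' := by
  have h1 := TensorProduct.tmul_add
    (R := ((X.sheaf.obj ⋙ forget₂ CommRingCat RingCat).obj (op U)))
    (show (CohB1.toPMod M).obj (op U) from m)
    (show (CohB1.toPMod N).obj (op U) from n) (show (CohB1.toPMod N).obj (op U) from n')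
  exact (congrArg ((SecTwist.toTensor M N).app (op U)).hom h1).trans
    (((SecTwist.toTensor M N).app (op U)).hom.map_add _ _)

end General

variable (R : CommRingCat.{u}) (M N : ModuleCat.{u} R)

/-- `M~ ⊗ N~`. -/
abbrev TT : (Spec R).Modules := CohB1.tensorMod (tilde M) (tilde N)

/-- The sectionwise tensor product of `M~` and `N~`. -/
abbrev A₀ : PM (shX (Spec R)) :=
  (toPM (shX (Spec R))).obj (tilde M) ⊗ (toPM (shX (Spec R))).obj (tilde N)

/-- The global section `m ⊗ n` of `M~ ⊗ N~`. -/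
def pairTop (m : M) (n : N) : Γ(TT R M N, ⊤) :=
  Groth.Agent.H18.SecTw.tm (tilde M) (tilde N) (toΓ M m) (toΓ N n)

open Groth.Agent.H18.SecTw in
/-- `M ⊗ N → Γ(M~ ⊗ N~, ⊤)`. -/
def ℓ : M ⊗[R] N →ₗ[R] Γ(TT R M N, ⊤) :=
  TensorProduct.lift (LinearMap.mk₂ R (pairTop R M N)
    (fun m m' n => by
      unfold pairTop
      rw [map_add, tm_add_left])
    (fun r m n => by
      unfold pairTop
      rw [toΓ_smul, tm_smul_left, smul_top])
    (fun m n n' => by
      unfold pairTop
      rw [map_add, tm_add_right])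
    (fun r m n => by
      unfold pairTop
      rw [toΓ_smul, tm_smul_right, smul_top]))

lemma ℓ_tmul (m : M) (n : N) : ℓ R M N (m ⊗ₜ n) = pairTop R M N m n := rfl


lemma pairTop_eq (m : M) (n : N) : pairTop R M N m n =
    ((η (A₀ R M N)).app (op ⊤)).hom (Groth.Agent.H40.StalkTensor.tm _ _ ⊤ (toΓ M m) (toΓ N n)) := rfl

variable (x : Spec R)

lemma τ_gm_pairTop (m : M) (n : N) :
    (τ (shX (Spec R)) x (tilde M) (tilde N)).hom.hom
      (gm ((toPM (shX (Spec R))).obj (TT R M N)) x ⊤ trivial (pairTop R M N m n)) =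
    (gm ((toPM (shX (Spec R))).obj (tilde M)) x ⊤ trivial (toΓ M m)) ⊗ₜ
      (gm ((toPM (shX (Spec R))).obj (tilde N)) x ⊤ trivial (toΓ N n)) := by
  have h1 : (σ (shX (Spec R)) x (A₀ R M N)).hom
      (gm (A₀ R M N) x ⊤ trivial
        (Groth.Agent.H40.StalkTensor.tm _ _ ⊤ (toΓ M m) (toΓ N n))) =
      gm ((toPM (shX (Spec R))).obj (TT R M N)) x ⊤ trivial (pairTop R M N m n) :=
    stkP_map_gm x (η (A₀ R M N)) ⊤ trivial _
  rw [← h1]
  show (thetaIso x _ _).hom.hom ((inv (σ (shX (Spec R)) x (A₀ R M N))).hom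
    ((σ (shX (Spec R)) x (A₀ R M N)).hom _)) = _
  have h2 : ∀ z, (inv (σ (shX (Spec R)) x (A₀ R M N))).hom
      ((σ (shX (Spec R)) x (A₀ R M N)).hom z) = z := fun z => by
    have := congrArg (fun f => f.hom z) (IsIso.hom_inv_id (σ (shX (Spec R)) x (A₀ R M N)))
    exact this
  rw [h2]
  exact theta_germ_tm _ _ x ⊤ trivial _ _


/-- The comparison map. -/
def α : tilde (ModuleCat.of R (M ⊗[R] N)) ⟶ TT R M N :=
  (Groth.Agent.H39.DerUniv.exists_hom_of_lin (ModuleCat.of R (M ⊗[R] N)) (TT R M N)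
    (ℓ R M N)).choose

lemma α_app (z : M ⊗[R] N) :
    (α R M N).app ⊤ (toΓ (ModuleCat.of R (M ⊗[R] N)) z) = ℓ R M N z :=
  (Groth.Agent.H39.DerUniv.exists_hom_of_lin (ModuleCat.of R (M ⊗[R] N)) (TT R M N)
    (ℓ R M N)).choose_spec z

def g : (stk (shX (Spec R)) x).obj (tilde (ModuleCat.of R (M ⊗[R] N))) ⟶
    (stk (shX (Spec R)) x).obj (tilde M) ⊗ (stk (shX (Spec R)) x).obj (tilde N) :=
  (stk (shX (Spec R)) x).map (α R M N) ≫ (τ (shX (Spec R)) x (tilde M) (tilde N)).hom

lemma toStalk_eq (m : M) : (tilde.toStalk M x).hom m =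
    gm ((toPM (shX (Spec R))).obj (tilde M)) x ⊤ trivial (toΓ M m) := rfl

/-- The image of `m` in the stalk. -/
def sM (m : M) : (stk (shX (Spec R)) x).obj (tilde M) :=
  gm ((toPM (shX (Spec R))).obj (tilde M)) x ⊤ trivial (toΓ M m)

lemma toStalk_eq' (m : M) : (tilde.toStalk M x).hom m = sM R M x m := rfl

lemma g_apply (m : M) (n : N) :
    (g R M N x).hom (sM R (ModuleCat.of R (M ⊗[R] N)) x (m ⊗ₜ n)) =
      (sM R M x m) ⊗ₜ (sM R N x n) := by
  show (τ (shX (Spec R)) x (tilde M) (tilde N)).hom.hom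
    (((stkP x).map ((toPM (shX (Spec R))).map (α R M N))).hom
      (gm ((toPM (shX (Spec R))).obj (tilde (ModuleCat.of R (M ⊗[R] N)))) x ⊤ trivial
        (toΓ (ModuleCat.of R (M ⊗[R] N)) (m ⊗ₜ n)))) = _
  rw [stkP_map_gm]
  have h1 : ((toPM (shX (Spec R))).map (α R M N)).app (op ⊤)
      (toΓ (ModuleCat.of R (M ⊗[R] N)) (m ⊗ₜ n)) = pairTop R M N m n := by
    rw [← ℓ_tmul, ← α_app]
    rfl
  rw [h1]
  exact τ_gm_pairTop R M N x m n


set_option linter.style.haveILetI false in
theorem g_bijective : Function.Bijective (g R M N x).hom := by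
  letI : Algebra R (Rx (shX (Spec R)).obj x) :=
    inferInstanceAs (Algebra R ((structurePresheafInCommRingCat R).stalk x))
  haveI : IsLocalization.AtPrime (Rx (shX (Spec R)).obj x) x.asIdeal :=
    inferInstanceAs (IsLocalization.AtPrime ((structurePresheafInCommRingCat R).stalk x) x.asIdeal)
  letI mR : ∀ K : ModuleCat.{u} R, Module R ((stk (shX (Spec R)) x).obj (tilde K)) := fun K =>
    inferInstanceAs (Module R ((tilde K).presheaf.stalk x))
  haveI hT : ∀ K : ModuleCat.{u} R, IsScalarTower R (Rx (shX (Spec R)).obj x)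
      ((stk (shX (Spec R)) x).obj (tilde K)) := fun K => .of_algebraMap_smul fun _ _ => rfl
  let F : ∀ K : ModuleCat.{u} R, K →ₗ[R] ((stk (shX (Spec R)) x).obj (tilde K)) :=
    fun K => (tilde.toStalk K x).hom
  haveI hF : ∀ K, IsLocalizedModule x.asIdeal.primeCompl (F K) := fun K =>
    inferInstanceAs (IsLocalizedModule x.asIdeal.primeCompl (tilde.toStalk K x).hom)
  exact bijective_of_tmul x.asIdeal.primeCompl
    (f₀ := F (ModuleCat.of R (M ⊗[R] N)))
    (f₁ := F M) (f₂ := F N) (g R M N x).hom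
    (fun m n => g_apply R M N x m n)


/-- The comparison map `(M ⊗ N)~ ⟶ M~ ⊗ N~` is an isomorphism. -/
instance isIso_α : IsIso (α R M N) := by
  apply isIso_of_stk
  intro x
  have hg : IsIso (g R M N x) :=
    (ConcreteCategory.isIso_iff_bijective (g R M N x)).mpr (g_bijective R M N x)
  have h2 : (stk (shX (Spec R)) x).map (α R M N) =
      g R M N x ≫ (τ (shX (Spec R)) x (tilde M) (tilde N)).inv := by
    unfold g
    rw [Category.assoc, Iso.hom_inv_id, Category.comp_id]
  rw [h2]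
  infer_instance

/-- `(M ⊗ N)~ ≅ M~ ⊗ N~`. -/
def tildeTensorIso : tilde (ModuleCat.of R (M ⊗[R] N)) ≅ CohB1.tensorMod (tilde M) (tilde N) :=
  asIso (α R M N)

end

end Groth.Agent.H8.TildeTensor
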