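import Groth.Agent.H8.AssPush
import Mathlib.RingTheory.Ideal.MinimalPrime.Localization

/-!
# Weakly associated points of quasi-coherent modules (no Noetherian hypotheses)
-/

set_option autoImplicit false
set_option linter.style.haveILetI false
universe u
open CategoryTheory CategoryTheory.Limits AlgebraicGeometry TopologicalSpace Opposite

namespace Groth.Agent.H8

section Defs

variable {X : Scheme.{u}}

lemma colon_bot_singleton_eq_ker {R N : Type*} [CommRing R] [AddCommGroup N] [Module R N]
    (m : N) : Submodule.colon (⊥ : Submodule R N) {m} =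
      LinearMap.ker (LinearMap.toSpanSingleton R N m) := by
  ext a
  rw [Submodule.mem_colon_singleton, Submodule.mem_bot, LinearMap.mem_ker,
    LinearMap.toSpanSingleton_apply]

/-- With Mathlib's (radical) definition of associated primes, associated points and weakly
associated points are the same thing. -/
lemma isAssPoint_iff_isWeakAssPoint (F : X.Modules) (x : X) :
    Curv2.IsAssPoint F x ↔ Curv2.IsWeakAssPoint F x := by
  constructor
  · rintro ⟨-, m, hm⟩
    refine ⟨m, ?_⟩
    rw [← colon_bot_singleton_eq_ker, ← hm]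
  · rintro ⟨m, hm⟩
    refine ⟨(IsLocalRing.maximalIdeal.isMaximal _).isPrime, m, ?_⟩
    rw [colon_bot_singleton_eq_ker, hm]

end Defs

section Affine

variable {X : Scheme.{u}} {U : X.Opens} (hU : IsAffineOpen U) (M : X.Modules) [M.IsQuasicoherent]

include hU in
/-- If `p` is minimal over the annihilator of a section `n` over the affine open `U`, the point
of `p` is weakly associated to `M`. -/
theorem isWeakAssPoint_pointOfPrime_of_mem_minimalPrimes (n : Γ(M, U)) (p : Ideal Γ(X, U))
    [hpprime : p.IsPrime]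
    (hp : p ∈ Ideal.minimalPrimes (LinearMap.ker (LinearMap.toSpanSingleton Γ(X, U) Γ(M, U) n))) :
    Curv2.IsWeakAssPoint M (pointOfPrime hU p) := by
  set I : Ideal Γ(X, U) := LinearMap.ker (LinearMap.toSpanSingleton Γ(X, U) Γ(M, U) n) with hI
  have hImem : ∀ a : Γ(X, U), a ∈ I ↔ a • n = 0 := fun a => by
    simp only [I, LinearMap.mem_ker, LinearMap.toSpanSingleton_apply]
  have hIp : I ≤ p := hp.1.2
  set y := pointOfPrime hU p with hy
  have hyU : y ∈ U := pointOfPrime_mem hU p
  have hpy : (hU.primeIdealOf ⟨y, hyU⟩).asIdeal = p :=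
    congrArg PrimeSpectrum.asIdeal (primeIdealOf_pointOfPrime hU p)
  have hgerm : M.presheaf.germ U y hyU n ≠ 0 :=
    germ_pointOfPrime_ne_zero hU M n p (fun a ha => hIp ((hImem a).mpr ha))
  refine ⟨M.presheaf.germ U y hyU n, ?_⟩
  set m := M.presheaf.germ U y hyU n with hm
  set J := LinearMap.ker (LinearMap.toSpanSingleton (X.presheaf.stalk y) (M.presheaf.stalk y) m)
    with hJ
  have hJmem : ∀ b : X.presheaf.stalk y, b ∈ J ↔ b • m = 0 := fun b => by
    rw [hJ, LinearMap.mem_ker, LinearMap.toSpanSingleton_apply]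
  have hJne : J ≠ ⊤ := by
    intro h
    have : (1 : X.presheaf.stalk y) ∈ J := h ▸ Submodule.mem_top
    rw [hJmem, one_smul] at this
    exact hgerm this
  apply le_antisymm
  · exact (Ideal.IsPrime.radical_le_iff (IsLocalRing.maximalIdeal.isMaximal _).isPrime).mpr
      (IsLocalRing.le_maximalIdeal hJne)
  · rw [Ideal.radical_eq_sInf]
    apply le_sInf
    rintro Q ⟨hJQ, hQ⟩
    haveI := hQ
    haveI hqprime : (Q.comap (X.presheaf.germ U y hyU).hom).IsPrime := Ideal.comap_isPrime _ Q
    have hqp : Q.comap (X.presheaf.germ U y hyU).hom ≤ p := by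
      have := comap_le_primeIdealOf hU y hyU Q
      rwa [hpy] at this
    have hIq : I ≤ Q.comap (X.presheaf.germ U y hyU).hom := by
      intro a ha
      rw [Ideal.mem_comap]
      apply hJQ
      rw [hJmem, hm, ← germ_smul, (hImem a).mp ha, map_zero]
    have hpq : p ≤ Q.comap (X.presheaf.germ U y hyU).hom := hp.2 ⟨hqprime, hIq⟩ hqp
    have hqeq : Q.comap (X.presheaf.germ U y hyU).hom = p := le_antisymm hqp hpq
    have hyy : pointOfPrime hU (Q.comap (X.presheaf.germ U y hyU).hom) = y :=
      pointOfPrime_congr hU _ p hqeq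
    rw [eq_maximalIdeal_of_pointOfPrime_eq hU y hyU Q hyy]

include hU in
/-- A point `x` of the affine open `U` whose prime is minimal over the annihilator of a section
is weakly associated. -/
theorem isWeakAssPoint_of_mem_minimalPrimes (x : X) (hxU : x ∈ U) (n : Γ(M, U))
    (hp : (hU.primeIdealOf ⟨x, hxU⟩).asIdeal ∈
      Ideal.minimalPrimes (LinearMap.ker (LinearMap.toSpanSingleton Γ(X, U) Γ(M, U) n))) :
    Curv2.IsWeakAssPoint M x := by
  have h := isWeakAssPoint_pointOfPrime_of_mem_minimalPrimes hU M n _ hp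
  rwa [pointOfPrime_primeIdealOf] at h

include hU in
/-- The prime of a weakly associated point `x ∈ U` is minimal over the annihilator of some section
over the affine open `U`. -/
theorem exists_mem_minimalPrimes_of_isWeakAssPoint (x : X) (hxU : x ∈ U)
    (h : Curv2.IsWeakAssPoint M x) :
    ∃ n : Γ(M, U), (hU.primeIdealOf ⟨x, hxU⟩).asIdeal ∈
      Ideal.minimalPrimes (LinearMap.ker (LinearMap.toSpanSingleton Γ(X, U) Γ(M, U) n)) := by
  obtain ⟨m, hm⟩ := h
  obtain ⟨a, hxa, n, hn⟩ := exists_germ_smul_eq_germ M hU x hxU m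
  letI := X.presheaf.algebra_section_stalk ⟨x, hxU⟩
  haveI := hU.isLocalization_stalk ⟨x, hxU⟩
  have hcomap : (IsLocalRing.maximalIdeal (X.presheaf.stalk x)).comap
      (algebraMap Γ(X, U) (X.presheaf.stalk x)) = (hU.primeIdealOf ⟨x, hxU⟩).asIdeal :=
    IsLocalization.AtPrime.under_maximalIdeal _ _
  have hua : IsUnit (X.presheaf.germ U x hxU a) := (Scheme.mem_basicOpen _ _ _ hxU).mp hxa
  have hmmem : ∀ b : X.presheaf.stalk x, b • m = 0 →
      b ∈ IsLocalRing.maximalIdeal (X.presheaf.stalk x) := fun b hb => by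
    rw [← hm]
    apply Ideal.le_radical
    rw [LinearMap.mem_ker, LinearMap.toSpanSingleton_apply]
    exact hb
  refine ⟨n, ⟨⟨inferInstance, ?_⟩, ?_⟩⟩
  · -- the annihilator of `n` lies in the prime of `x`
    intro c hc
    rw [LinearMap.mem_ker, LinearMap.toSpanSingleton_apply] at hc
    rw [← hcomap, Ideal.mem_comap]
    have h1 : (X.presheaf.germ U x hxU c * X.presheaf.germ U x hxU a) • m = 0 := by
      rw [mul_smul, hn, ← germ_smul, hc, map_zero]
    have h2 := hmmem _ h1
    rcases (IsLocalRing.maximalIdeal.isMaximal _).isPrime.mem_or_mem h2 with h3 | h3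
    · exact h3
    · exact absurd hua ((IsLocalRing.mem_maximalIdeal _).mp h3)
  · -- minimality
    rintro q ⟨hqprime, hIq⟩ hqp
    have hdisj : Disjoint ((hU.primeIdealOf ⟨x, hxU⟩).asIdeal.primeCompl : Set Γ(X, U))
        (q : Set Γ(X, U)) := by
      rw [Set.disjoint_left]
      intro t ht htq
      exact ht (hqp htq)
    have hQprime : (Ideal.map (algebraMap Γ(X, U) (X.presheaf.stalk x)) q).IsPrime :=
      IsLocalization.isPrime_of_isPrime_disjoint (hU.primeIdealOf ⟨x, hxU⟩).asIdeal.primeCompl
        (X.presheaf.stalk x) q hqprime hdisj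
    have hQcomap : (Ideal.map (algebraMap Γ(X, U) (X.presheaf.stalk x)) q).comap
        (algebraMap Γ(X, U) (X.presheaf.stalk x)) = q :=
      IsLocalization.under_map_of_isPrime_disjoint (hU.primeIdealOf ⟨x, hxU⟩).asIdeal.primeCompl
        (X.presheaf.stalk x) hqprime hdisj
    have hAnnQ : LinearMap.ker (LinearMap.toSpanSingleton (X.presheaf.stalk x)
        (M.presheaf.stalk x) m) ≤ Ideal.map (algebraMap Γ(X, U) (X.presheaf.stalk x)) q := by
      intro b hb
      rw [LinearMap.mem_ker, LinearMap.toSpanSingleton_apply] at hb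
      obtain ⟨⟨c, d⟩, hcd⟩ := IsLocalization.surj
        (hU.primeIdealOf ⟨x, hxU⟩).asIdeal.primeCompl b
      have hcd' : b * X.presheaf.germ U x hxU d = X.presheaf.germ U x hxU c := hcd
      have h1 : X.presheaf.germ U x hxU c • M.presheaf.germ U x hxU n = 0 := by
        rw [← hn, ← hcd', mul_smul,
          smul_comm (X.presheaf.germ U x hxU (d : Γ(X, U))) (X.presheaf.germ U x hxU a) m,
          smul_comm b (X.presheaf.germ U x hxU a),
          smul_comm b (X.presheaf.germ U x hxU (d : Γ(X, U))) m, hb, smul_zero, smul_zero]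
      have h2 : M.presheaf.germ U x hxU (c • n) = 0 := by
        rw [germ_smul]
        exact h1
      obtain ⟨t, hxt, ht⟩ := exists_smul_eq_zero_of_germ_eq_zero M hU x hxU (c • n) h2
      have htc : t * c ∈ q := hIq (by
        rw [LinearMap.mem_ker, LinearMap.toSpanSingleton_apply, mul_smul]
        exact ht)
      have htq : t ∉ q := fun h =>
        (mem_basicOpen_iff_notMem_primeIdealOf hU x hxU t).mp hxt (hqp h)
      have hcq : c ∈ q := (hqprime.mem_or_mem htc).resolve_left htq
      have hcQ : algebraMap Γ(X, U) (X.presheaf.stalk x) c ∈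
          Ideal.map (algebraMap Γ(X, U) (X.presheaf.stalk x)) q := Ideal.mem_map_of_mem _ hcq
      rw [← hcd] at hcQ
      rcases hQprime.mem_or_mem hcQ with h | h
      · exact h
      · exact absurd (Ideal.eq_top_of_isUnit_mem _ h
          (IsLocalization.map_units (X.presheaf.stalk x) d)) hQprime.ne_top
    have hmQ : IsLocalRing.maximalIdeal (X.presheaf.stalk x) ≤
        Ideal.map (algebraMap Γ(X, U) (X.presheaf.stalk x)) q := by
      rw [← hm]
      exact (hQprime.radical_le_iff).mpr hAnnQ
    have h3 := Ideal.comap_mono (f := algebraMap Γ(X, U) (X.presheaf.stalk x)) hmQ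
    rwa [hcomap, hQcomap] at h3

end Affine

end Groth.Agent.H8
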