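import Groth.Agent.H8.WeakAssPush
import Groth.Agent.H8.AssPush
import Mathlib.RingTheory.QuasiFinite.Basic

/-!
# Weakly associated points of a finite direct image

`exists_comap_mem_minimalPrimes`: for a finite ring map `R → S`, an `S`-module `M`, `x ∈ M` and a
prime `q` minimal over `Ann_S x`, the contraction of `q` is minimal over `Ann_R (s • x)` for some `s`.
`isWeakAssPoint_pushforward_of_isFinite`: the image of a weakly associated point under a finite
morphism is weakly associated to the direct image.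
-/

set_option autoImplicit false
set_option linter.style.haveILetI false
set_option linter.deprecated false
universe u
open scoped Pointwise

namespace Groth.Agent.H8.WeakAssFinite

open Groth.Agent.H8

section Algebra

variable {R S M : Type*} [CommRing R] [CommRing S] [Algebra R S] [Module.Finite R S]
  [AddCommGroup M] [Module S M] [Module R M] [IsScalarTower R S M]

/-- For a finite ring map `R → S`, an `S`-module `M`, and a prime `q` of `S` minimal over the
annihilator of `x ∈ M`, the contraction of `q` is minimal over the `R`-annihilator of some multiple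
`s • x`. -/
theorem exists_comap_mem_minimalPrimes (x : M) (q : Ideal S)
    (hq : q ∈ Ideal.minimalPrimes (LinearMap.ker (LinearMap.toSpanSingleton S M x))) :
    ∃ s : S, q.comap (algebraMap R S) ∈
      Ideal.minimalPrimes (LinearMap.ker (LinearMap.toSpanSingleton R M (s • x))) := by
  classical
  haveI : q.IsPrime := hq.1.1
  haveI : Algebra.IsIntegral R S := inferInstance
  set J : Ideal S := LinearMap.ker (LinearMap.toSpanSingleton S M x) with hJ
  have hJmem : ∀ a : S, a ∈ J ↔ a • x = 0 := fun a => by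
    rw [hJ, LinearMap.mem_ker, LinearMap.toSpanSingleton_apply]
  set p := q.comap (algebraMap R S) with hp
  have hfin : (p.primesOver S).Finite := Algebra.QuasiFinite.finite_primesOver p
  let Q' : Finset (Ideal S) := hfin.toFinset.erase q
  have hQ' : ∀ q' ∈ Q', q'.IsPrime ∧ q'.comap (algebraMap R S) = p ∧ q' ≠ q := fun q' hq' => by
    rw [Finset.mem_erase, Set.Finite.mem_toFinset] at hq'
    exact ⟨hq'.2.1, hq'.2.2.over.symm, hq'.1⟩
  -- Step A
  obtain ⟨s, hs, t, ht, hts⟩ : ∃ s : S, s ∉ q ∧ ∃ t : S, (∀ q' ∈ Q', t ∉ q') ∧ t * s ∈ J := by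
    by_contra hcon
    push Not at hcon
    let T : Submonoid S :=
      { carrier := {t | ∀ q' ∈ Q', t ∉ q'}
        one_mem' := fun q' hq' => (hQ' q' hq').1.one_notMem
        mul_mem' := fun {a b} ha hb q' hq' hab =>
          ((hQ' q' hq').1.mem_or_mem hab).elim (ha q' hq') (hb q' hq') }
    have hdisj : Disjoint (J : Set S) ((T ⊔ q.primeCompl : Submonoid S) : Set S) := by
      rw [Set.disjoint_left]
      intro a haJ haN
      obtain ⟨t, ht, s, hs, rfl⟩ := Submonoid.mem_sup.mp haN
      exact hcon s hs t ht haJ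
    obtain ⟨p', hp'prime, hJp', hp'disj⟩ := Ideal.exists_le_prime_disjoint J _ hdisj
    have hp'q : p' ≤ q := by
      intro a ha
      by_contra haq
      exact Set.disjoint_left.mp hp'disj ha
        ((le_sup_right : q.primeCompl ≤ T ⊔ q.primeCompl) haq)
    have hqp' : q ≤ p' := hq.2 ⟨hp'prime, hJp'⟩ hp'q
    have hsub : (q : Set S) ⊆ ⋃ i ∈ (Q' : Set (Ideal S)), (i : Set S) := by
      intro a ha
      have haT : a ∉ T := fun haT =>
        Set.disjoint_left.mp hp'disj (hqp' ha) ((le_sup_left : T ≤ T ⊔ q.primeCompl) haT)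
      have : ¬ ∀ q' ∈ Q', a ∉ q' := haT
      push Not at this
      obtain ⟨q', hq', haq'⟩ := this
      exact Set.mem_biUnion hq' haq'
    obtain ⟨q', hq', hqq'⟩ := (Ideal.subset_union_prime (f := fun i : Ideal S => i) q q
      (fun i hi _ _ => (hQ' i hi).1)).mp hsub
    obtain ⟨hq'prime, hq'p, hq'ne⟩ := hQ' q' hq'
    have hlt : q < q' := lt_of_le_of_ne hqq' (Ne.symm hq'ne)
    obtain ⟨a, haq', haq⟩ := SetLike.exists_of_lt hlt
    have := Ideal.comap_lt_comap_of_integral_mem_sdiff hqq' ⟨haq', haq⟩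
      (Algebra.IsIntegral.isIntegral (R := R) a)
    rw [hq'p] at this
    exact lt_irrefl _ this
  refine ⟨s, ?_⟩
  set J' : Ideal S := LinearMap.ker (LinearMap.toSpanSingleton S M (s • x)) with hJ'
  have hJ'mem : ∀ a : S, a ∈ J' ↔ a • s • x = 0 := fun a => by
    rw [hJ', LinearMap.mem_ker, LinearMap.toSpanSingleton_apply]
  set I' : Ideal R := LinearMap.ker (LinearMap.toSpanSingleton R M (s • x)) with hI'
  have hI'mem : ∀ r : R, r ∈ I' ↔ r • s • x = 0 := fun a => by
    rw [hI', LinearMap.mem_ker, LinearMap.toSpanSingleton_apply]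
  have hI'J' : I' = J'.comap (algebraMap R S) := by
    ext r
    rw [Ideal.mem_comap, hI'mem, hJ'mem, algebraMap_smul]
  have hJJ' : J ≤ J' := fun a ha => by
    rw [hJ'mem, smul_smul, mul_comm, ← smul_smul, (hJmem a).mp ha, smul_zero]
  have htJ' : t ∈ J' := by
    rw [hJ'mem, smul_smul]
    exact (hJmem _).mp hts
  have hJ'q : J' ≤ q := fun a ha => by
    have h1 : a * s ∈ J := by
      rw [hJmem, ← smul_smul]
      exact (hJ'mem a).mp ha
    exact (‹q.IsPrime›.mem_or_mem (hq.1.2 h1)).resolve_right hs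
  constructor
  · exact ⟨Ideal.comap_isPrime _ _, hI'J' ▸ Ideal.comap_mono hJ'q⟩
  · rintro p' ⟨hp'prime, hI'p'⟩ hp'p
    obtain ⟨q', hJ'q', hq'prime, hq'p'⟩ :=
      Ideal.exists_ideal_over_prime_of_isIntegral p' J' (hI'J' ▸ hI'p')
    obtain ⟨q'', hq'q'', hq''prime, hq''p⟩ :=
      Ideal.exists_ideal_over_prime_of_isIntegral_of_isPrime p q' (hq'p'.le.trans hp'p)
    have hq''q : q'' = q := by
      by_contra hne
      have hmem : q'' ∈ Q' := by
        rw [Finset.mem_erase, Set.Finite.mem_toFinset]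
        exact ⟨hne, hq''prime, ⟨hq''p.symm⟩⟩
      exact ht q'' hmem (hq'q'' (hJ'q' htJ'))
    have hq'q : q' ≤ q := hq''q ▸ hq'q''
    have hqq' : q ≤ q' := hq.2 ⟨hq'prime, hJJ'.trans hJ'q'⟩ hq'q
    calc p = q.comap (algebraMap R S) := rfl
      _ ≤ q'.comap (algebraMap R S) := Ideal.comap_mono hqq'
      _ = p' := hq'p'

end Algebra

noncomputable section Sch

open CategoryTheory AlgebraicGeometry TopologicalSpace Opposite

variable {X S : Scheme.{u}} (f : X ⟶ S) [IsFinite f] (F : X.Modules) [F.IsQuasicoherent]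

/-- For a finite morphism, the image of a weakly associated point of `F` is weakly associated to
`f_* F`. -/
theorem isWeakAssPoint_pushforward_of_isFinite (x : X) (hx : Curv2.IsWeakAssPoint F x) :
    Curv2.IsWeakAssPoint ((Scheme.Modules.pushforward f).obj F) (f x) := by
  haveI := isQuasicoherent_pushforward f F
  obtain ⟨_, ⟨V, hV, rfl⟩, hsV, -⟩ := S.isBasis_affineOpens.exists_subset_of_mem_open
    (Set.mem_univ (f x)) isOpen_univ
  have hW : IsAffineOpen (f ⁻¹ᵁ V) := hV.preimage f
  have hxW : x ∈ f ⁻¹ᵁ V := hsV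
  obtain ⟨n, hn⟩ := exists_mem_minimalPrimes_of_isWeakAssPoint hW F x hxW hx
  letI algRS : Algebra Γ(S, V) Γ(X, f ⁻¹ᵁ V) := (f.app V).hom.toAlgebra
  haveI : Module.Finite Γ(S, V) Γ(X, f ⁻¹ᵁ V) := IsFinite.finite_app f V hV
  letI modRM : Module Γ(S, V) Γ(F, f ⁻¹ᵁ V) :=
    inferInstanceAs (Module Γ(S, V) Γ((Scheme.Modules.pushforward f).obj F, V))
  haveI st : IsScalarTower Γ(S, V) Γ(X, f ⁻¹ᵁ V) Γ(F, f ⁻¹ᵁ V) :=
    ⟨fun a b m => by
      show (f.app V a * b) • m = (f.app V a) • (b • m)
      exact mul_smul _ _ _⟩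
  obtain ⟨s', hs'⟩ := exists_comap_mem_minimalPrimes (R := Γ(S, V)) n _ hn
  have h2 := primeIdealOf_map f hV hW le_rfl x hxW
  rw [f.appLE_eq_app] at h2
  refine isWeakAssPoint_of_mem_minimalPrimes hV _ (f x) hsV
    (show Γ((Scheme.Modules.pushforward f).obj F, V) from s' • n) ?_
  rw [h2]
  exact hs'

end Sch

end Groth.Agent.H8.WeakAssFinite
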