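import Groth.Agent.H8.WeakAss

/-!
# Weakly associated points: direct images and exact sequences
-/

set_option autoImplicit false
set_option linter.style.haveILetI false
universe u
open CategoryTheory CategoryTheory.Limits AlgebraicGeometry TopologicalSpace Opposite

namespace Groth.Agent.H8

section Algebra

variable {R N₁ N₂ N₃ : Type*} [CommRing R] [AddCommGroup N₁] [AddCommGroup N₂] [AddCommGroup N₃]
  [Module R N₁] [Module R N₂] [Module R N₃]

lemma mem_ker_toSpanSingleton {R N : Type*} [CommRing R] [AddCommGroup N] [Module R N] (z : N)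
    (a : R) : a ∈ LinearMap.ker (LinearMap.toSpanSingleton R N z) ↔ a • z = 0 := by
  rw [LinearMap.mem_ker, LinearMap.toSpanSingleton_apply]

lemma ker_toSpanSingleton_apply_of_injective (g : N₁ →ₗ[R] N₂) (hg : Function.Injective g)
    (m : N₁) : LinearMap.ker (LinearMap.toSpanSingleton R N₂ (g m)) =
      LinearMap.ker (LinearMap.toSpanSingleton R N₁ m) := by
  ext a
  rw [LinearMap.mem_ker, LinearMap.mem_ker, LinearMap.toSpanSingleton_apply,
    LinearMap.toSpanSingleton_apply, ← map_smul, map_eq_zero_iff g hg]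

/-- Weakly associated primes of the middle term of a left exact sequence. -/
lemma exists_mem_minimalPrimes_of_exact (g₁ : N₁ →ₗ[R] N₂) (g₂ : N₂ →ₗ[R] N₃)
    (hinj : Function.Injective g₁) (hex : Function.Exact g₁ g₂) (m : N₂) (p : Ideal R)
    (hp : p ∈ Ideal.minimalPrimes (LinearMap.ker (LinearMap.toSpanSingleton R N₂ m))) :
    (∃ m₁ : N₁, p ∈ Ideal.minimalPrimes (LinearMap.ker (LinearMap.toSpanSingleton R N₁ m₁))) ∨
    (∃ m₃ : N₃, p ∈ Ideal.minimalPrimes (LinearMap.ker (LinearMap.toSpanSingleton R N₃ m₃))) := by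
  haveI hpprime : p.IsPrime := hp.1.1
  by_cases h : LinearMap.ker (LinearMap.toSpanSingleton R N₃ (g₂ m)) ≤ p
  · right
    refine ⟨g₂ m, ⟨⟨hpprime, h⟩, fun q hq hqp => hp.2 ⟨hq.1, le_trans ?_ hq.2⟩ hqp⟩⟩
    intro a ha
    rw [mem_ker_toSpanSingleton] at ha ⊢
    rw [← map_smul, ha, map_zero]
  · left
    obtain ⟨a, ha, hap⟩ := SetLike.not_le_iff_exists.mp h
    rw [mem_ker_toSpanSingleton] at ha
    obtain ⟨m₁, hm₁⟩ := (hex (a • m)).mp (by rw [map_smul]; exact ha)
    have hAnn : LinearMap.ker (LinearMap.toSpanSingleton R N₂ m) ≤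
        LinearMap.ker (LinearMap.toSpanSingleton R N₁ m₁) := by
      intro b hb
      rw [mem_ker_toSpanSingleton] at hb ⊢
      apply hinj
      rw [map_smul, hm₁, smul_comm, hb, smul_zero, map_zero]
    refine ⟨m₁, ⟨⟨hpprime, ?_⟩, fun q hq hqp => hp.2 ⟨hq.1, hAnn.trans hq.2⟩ hqp⟩⟩
    intro b hb
    rw [mem_ker_toSpanSingleton] at hb
    have h1 : (b * a) • m = 0 := by
      rw [mul_smul, ← hm₁, ← map_smul, hb, map_zero]
    have h2 : b * a ∈ p := hp.1.2 ((mem_ker_toSpanSingleton m (b * a)).mpr h1)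
    exact (hpprime.mem_or_mem h2).resolve_right hap

end Algebra

section Affine

variable {X : Scheme.{u}} {U : X.Opens} (hU : IsAffineOpen U) (M : X.Modules) [M.IsQuasicoherent]

include hU in
/-- If the prime of `x ∈ U` (`U` affine) is an associated prime of `Γ(M, U)`, then `x` is an
associated point of `M` (no Noetherian hypothesis). -/
theorem isAssPoint_of_isAssociatedPrime (x : X) (hxU : x ∈ U)
    (h : IsAssociatedPrime (hU.primeIdealOf ⟨x, hxU⟩).asIdeal Γ(M, U)) :
    Curv2.IsAssPoint M x := by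
  letI := X.presheaf.algebra_section_stalk ⟨x, hxU⟩
  haveI := hU.isLocalization_stalk ⟨x, hxU⟩
  letI := moduleSectionStalk M x hxU
  haveI := isScalarTower_sectionStalk M x hxU
  haveI := isLocalizedModule_germₗ M hU x hxU
  have hcomap : (IsLocalRing.maximalIdeal (X.presheaf.stalk x)).comap
      (algebraMap Γ(X, U) (X.presheaf.stalk x)) = (hU.primeIdealOf ⟨x, hxU⟩).asIdeal :=
    IsLocalization.AtPrime.under_maximalIdeal _ _
  refine Module.associatedPrimes.mem_associatedPrimes_of_comap_mem_associatedPrimes_of_isLocalizedModule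
    (hU.primeIdealOf ⟨x, hxU⟩).asIdeal.primeCompl (germₗ M x hxU) _ ?_
  rw [hcomap]
  exact h

end Affine

section Push

variable {X S : Scheme.{u}} (f : X ⟶ S) [QuasiCompact f] [QuasiSeparated f]
  (F : X.Modules) [F.IsQuasicoherent]

/-- Every weakly associated point of `f_* F` (`f` quasi-compact quasi-separated, `F`
quasi-coherent) is the image of a weakly associated point of `F`. -/
theorem exists_isWeakAssPoint_of_isWeakAssPoint_pushforward (s : S)
    (hs : Curv2.IsWeakAssPoint ((Scheme.Modules.pushforward f).obj F) s) :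
    ∃ x, f x = s ∧ Curv2.IsWeakAssPoint F x := by
  haveI := isQuasicoherent_pushforward f F
  obtain ⟨_, ⟨V, hV, rfl⟩, hsV, -⟩ := S.isBasis_affineOpens.exists_subset_of_mem_open
    (Set.mem_univ s) isOpen_univ
  obtain ⟨n, hn⟩ := exists_mem_minimalPrimes_of_isWeakAssPoint hV _ s hsV hs
  have hprime : (hV.primeIdealOf ⟨s, hsV⟩).asIdeal.IsPrime := hn.1.1
  have hWc : IsCompact ((f ⁻¹ᵁ V : X.Opens) : Set X) :=
    QuasiCompact.isCompact_preimage (f := f) V V.2 hV.isCompact
  obtain ⟨Sa, hSfin, hS⟩ :=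
    (isCompact_and_isOpen_iff_finite_and_eq_biUnion_affineOpens
      (U := ((f ⁻¹ᵁ V : X.Opens) : Set X))).mp ⟨hWc, (f ⁻¹ᵁ V).2⟩
  have hle : ∀ T ∈ Sa, (T : X.Opens) ≤ f ⁻¹ᵁ V := fun T hT x hx => by
    change x ∈ ((f ⁻¹ᵁ V : X.Opens) : Set X)
    rw [hS]
    exact Set.mem_biUnion hT hx
  haveI := hSfin.to_subtype
  cases nonempty_fintype Sa
  let n' : Γ(F, f ⁻¹ᵁ V) := n
  let J : Sa → Ideal Γ(S, V) := fun T =>
    Ideal.comap (f.appLE V T.1.1 (hle T.1 T.2)).hom
      (LinearMap.ker (LinearMap.toSpanSingleton Γ(X, T.1.1) Γ(F, T.1.1)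
        (F.presheaf.map (homOfLE (hle T.1 T.2)).op n')))
  have hJmem : ∀ (T : Sa) (a : Γ(S, V)), a ∈ J T ↔
      (f.appLE V T.1.1 (hle T.1 T.2)) a • F.presheaf.map (homOfLE (hle T.1 T.2)).op n' = 0 :=
    fun T a => by
      simp only [J, Ideal.mem_comap, LinearMap.mem_ker, LinearMap.toSpanSingleton_apply]
  have hker : LinearMap.ker (LinearMap.toSpanSingleton Γ(S, V)
      Γ((Scheme.Modules.pushforward f).obj F, V) n) = Finset.univ.inf J := by
    ext a
    rw [LinearMap.mem_ker, LinearMap.toSpanSingleton_apply, Finset.inf_univ_eq_iInf,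
      Ideal.mem_iInf]
    constructor
    · intro ha T
      rw [hJmem]
      have ha' : (f.app V a) • n' = 0 := ha
      have h1 := congrArg (F.presheaf.map (homOfLE (hle T.1 T.2)).op) ha'
      rw [res_smul, map_zero] at h1
      exact h1
    · intro h
      refine (pushforward_smul f F V a n).trans ?_
      refine section_eq_of_cover F _ 0 (fun x hxW => ?_)
      obtain ⟨T, hTS, hxT⟩ : ∃ T ∈ Sa, x ∈ (T : X.Opens) := by
        have hx' : x ∈ ((f ⁻¹ᵁ V : X.Opens) : Set X) := hxW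
        rw [hS] at hx'
        simpa using hx'
      refine ⟨T, hle T hTS, hxT, ?_⟩
      rw [map_zero]
      refine (res_smul F (hle T hTS) (f.app V a) n').trans ?_
      exact (hJmem ⟨T, hTS⟩ a).mp (h ⟨T, hTS⟩)
  have h1 : Finset.univ.inf J ≤ (hV.primeIdealOf ⟨s, hsV⟩).asIdeal := by
    rw [← hker]
    exact hn.1.2
  obtain ⟨T, -, hT⟩ := (Ideal.IsPrime.inf_le' hprime).mp h1
  have hmin : (hV.primeIdealOf ⟨s, hsV⟩).asIdeal ∈ (J T).minimalPrimes :=
    ⟨⟨hprime, hT⟩, fun q hq hqp => hn.2 ⟨hq.1, by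
      rw [hker]
      exact (Finset.inf_le (Finset.mem_univ T)).trans hq.2⟩ hqp⟩
  obtain ⟨q, hq, hqp⟩ := Ideal.exists_minimalPrimes_comap_eq
    (f.appLE V T.1.1 (hle T.1 T.2)).hom _ hmin
  haveI : q.IsPrime := hq.1.1
  have hx := isWeakAssPoint_pointOfPrime_of_mem_minimalPrimes T.1.2 F _ q hq
  have hxT : pointOfPrime T.1.2 q ∈ (T.1.1 : X.Opens) := pointOfPrime_mem T.1.2 q
  have hpx : (T.1.2.primeIdealOf ⟨pointOfPrime T.1.2 q, hxT⟩).asIdeal = q :=
    congrArg PrimeSpectrum.asIdeal (primeIdealOf_pointOfPrime T.1.2 q)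
  refine ⟨pointOfPrime T.1.2 q, ?_, hx⟩
  have h2 := primeIdealOf_map f hV T.1.2 (hle T.1 T.2) (pointOfPrime T.1.2 q) hxT
  rw [hpx, hqp] at h2
  calc f (pointOfPrime T.1.2 q)
      = pointOfPrime hV (hV.primeIdealOf ⟨f (pointOfPrime T.1.2 q),
          hle T.1 T.2 hxT⟩).asIdeal := (pointOfPrime_primeIdealOf hV _ _).symm
    _ = pointOfPrime hV (hV.primeIdealOf ⟨s, hsV⟩).asIdeal := pointOfPrime_congr hV _ _ h2
    _ = s := pointOfPrime_primeIdealOf hV s hsV

end Push

section Exact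

variable {X : Scheme.{u}}

/-- Weakly associated points of a quasi-coherent submodule are weakly associated points. -/
theorem isWeakAssPoint_of_mono {M N : X.Modules} [M.IsQuasicoherent] [N.IsQuasicoherent]
    (φ : M ⟶ N) [Mono φ] (x : X) (h : Curv2.IsWeakAssPoint M x) : Curv2.IsWeakAssPoint N x := by
  obtain ⟨_, ⟨U, hU, rfl⟩, hxU, -⟩ := X.isBasis_affineOpens.exists_subset_of_mem_open
    (Set.mem_univ x) isOpen_univ
  obtain ⟨n, hn⟩ := exists_mem_minimalPrimes_of_isWeakAssPoint hU M x hxU h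
  refine isWeakAssPoint_of_mem_minimalPrimes hU N x hxU (appₗ φ U n) ?_
  rw [ker_toSpanSingleton_apply_of_injective (appₗ φ U) (appₗ_injective_of_mono φ U)]
  exact hn

/-- Weakly associated points of the middle term of a left exact sequence of quasi-coherent
modules. -/
theorem isWeakAssPoint_of_exact (S : ShortComplex X.Modules) (hS : S.Exact) [Mono S.f]
    [S.X₁.IsQuasicoherent] [S.X₂.IsQuasicoherent] [S.X₃.IsQuasicoherent] (x : X)
    (h : Curv2.IsWeakAssPoint S.X₂ x) :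
    Curv2.IsWeakAssPoint S.X₁ x ∨ Curv2.IsWeakAssPoint S.X₃ x := by
  obtain ⟨_, ⟨U, hU, rfl⟩, hxU, -⟩ := X.isBasis_affineOpens.exists_subset_of_mem_open
    (Set.mem_univ x) isOpen_univ
  obtain ⟨n, hn⟩ := exists_mem_minimalPrimes_of_isWeakAssPoint hU S.X₂ x hxU h
  rcases exists_mem_minimalPrimes_of_exact (appₗ S.f U) (appₗ S.g U)
    (appₗ_injective_of_mono S.f U) (appₗ_exact S hS U) n _ hn with ⟨m₁, h₁⟩ | ⟨m₃, h₃⟩
  · exact Or.inl (isWeakAssPoint_of_mem_minimalPrimes hU S.X₁ x hxU m₁ h₁)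
  · exact Or.inr (isWeakAssPoint_of_mem_minimalPrimes hU S.X₃ x hxU m₃ h₃)

end Exact

end Groth.Agent.H8
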